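import Cfsg.Agent.LieClassical.OrthFinite
import Cfsg.Agent.ClassicalGeometry.WittQuad
import Cfsg.Agent.LieClassical.OrthForms
import Cfsg.Agent.LieClassical.QuadCount
set_option linter.all false

-- part: H76/Trans
section
/-!
# Transitivity of `E Q` on triples `(e, f, a)`

`(e, f)` a hyperbolic pair, `a ≠ 0` orthogonal to it, `dim V ≥ 6`, finite field:
* `exists_norm_perp` : a vector orthogonal to `e, f, a` of given norm up to squares;
* `exists_map_triple` : `E Q` is transitive on such triples with `Q a` given.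
-/

set_option autoImplicit false
set_option linter.unusedSectionVars false

namespace Cfsg.Agent.H76.Trans

open QuadraticMap Cfsg.Agent.LieClassical.OrthCore Cfsg.Agent.LieClassical.OrthTrans

variable {F V : Type*} [Field F] [AddCommGroup V] [Module F V] {Q : QuadraticForm F V}

theorem nondeg_iff [FiniteDimensional F V] (hQ : Nondeg Q) : (polarBilin Q).Nondegenerate := by
  refine ⟨fun x hx => hQ x hx, fun x hx => hQ x fun y => ?_⟩
  have := hx y
  rw [polarBilin_apply_apply, polar_comm] at this
  exact this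

/-- Separation: a vector orthogonal to `X` with polar product one with `x ∉ X`. -/
theorem exists_sep_sub [FiniteDimensional F V] (hQ : Nondeg Q) {X : Submodule F V} {x : V}
    (hx : x ∉ X) : ∃ z, polar Q x z = 1 ∧ ∀ w ∈ X, polar Q w z = 0 := by
  obtain ⟨u, h1, h2⟩ := Cfsg.Agent.ClassicalGeometry.WittQuad.exists_orthogonal Q
    (nondeg_iff hQ) hx
  refine ⟨u, ?_, fun w hw => ?_⟩
  · rw [polar_comm]; exact h1
  · rw [polar_comm]; exact h2 w hw

/-- The subspace orthogonal to finitely many vectors. -/
def perps (Q : QuadraticForm F V) {n : ℕ} (u : Fin n → V) : Submodule F V :=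
  LinearMap.ker (LinearMap.pi fun i => polarBilin Q (u i) : V →ₗ[F] (Fin n → F))

theorem mem_perps {n : ℕ} {u : Fin n → V} {v : V} :
    v ∈ perps Q u ↔ ∀ i, polar Q (u i) v = 0 := by
  rw [perps, LinearMap.mem_ker]
  constructor
  · intro h i
    exact congrFun h i
  · intro h
    funext i
    exact h i

theorem finrank_perps [FiniteDimensional F V] {n : ℕ} (u : Fin n → V) :
    Module.finrank F V ≤ n + Module.finrank F (perps Q u) := by
  have h1 := LinearMap.finrank_range_add_finrank_ker
    (LinearMap.pi fun i => polarBilin Q (u i) : V →ₗ[F] (Fin n → F))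
  have h2 : Module.finrank F (LinearMap.range
      (LinearMap.pi fun i => polarBilin Q (u i) : V →ₗ[F] (Fin n → F))) ≤ n := by
    refine le_trans (Submodule.finrank_le _) ?_
    rw [Module.finrank_fin_fun]
  rw [perps]
  omega

/-- A nonsingular vector orthogonal to `X` if some vector orthogonal to `X` is not in `X`. -/
theorem exists_nonsing_perp_sub [FiniteDimensional F V] (hQ : Nondeg Q) {X : Submodule F V}
    {x : V} (hx : x ∉ X) (hxX : ∀ w ∈ X, polar Q w x = 0) :
    ∃ b, Q b ≠ 0 ∧ ∀ w ∈ X, polar Q w b = 0 := by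
  obtain ⟨z, hz, hzX⟩ := exists_sep_sub hQ hx
  rcases exists_nonsing hz with h | h | h
  · exact ⟨x, h, hxX⟩
  · exact ⟨z, h, hzX⟩
  · exact ⟨x + z, h, fun w hw => by rw [polar_add_right, hxX w hw, hzX w hw, add_zero]⟩

theorem exists_mem_notMem [FiniteDimensional F V] {S T : Submodule F V}
    (h : Module.finrank F T < Module.finrank F S) : ∃ x ∈ S, x ∉ T := by
  by_contra hc
  push Not at hc
  have := Submodule.finrank_mono (show S ≤ T from hc)
  omega

/-- If `v = α e + β f + γ a` is orthogonal to `e, f` then it is a multiple of `a`. -/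
theorem mem_span_of_perp {e f a v : V} (h : Hyp Q e f) (ha : polar Q e a = 0)
    (ha' : polar Q f a = 0) (hv : v ∈ Submodule.span F ({e, f, a} : Set V))
    (h1 : polar Q e v = 0) (h2 : polar Q f v = 0) : ∃ c : F, v = c • a := by
  rw [Submodule.mem_span_insert] at hv
  obtain ⟨α, z, hz, rfl⟩ := hv
  rw [Submodule.mem_span_pair] at hz
  obtain ⟨β, γ, rfl⟩ := hz
  simp only [polar_add_right, polar_smul_right, h.polar_left, h.polar_right, h.pair, h.pair', ha,
    ha', smul_eq_mul, mul_zero, add_zero, zero_add, mul_one] at h1 h2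
  subst h1 h2
  exact ⟨γ, by simp⟩

section Finite

variable [Finite F]

theorem exists_sq_of_char_two (h2 : (2 : F) = 0) (c : F) : ∃ d : F, d * d = c := by
  have hc2 : CharP F 2 := CharTwo.of_one_ne_zero_of_two_eq_zero one_ne_zero h2
  obtain ⟨d, hd⟩ := FiniteField.isSquare_of_char_two (ringChar.eq_iff.2 hc2) c
  exact ⟨d, hd.symm⟩

/-- A binary diagonal form with nonzero coefficients is universal, `2 ≠ 0`. -/
theorem exists_binary (h2 : (2 : F) ≠ 0) {s t : F} (hs : s ≠ 0) (ht : t ≠ 0) (c : F) :
    ∃ x y : F, x * x * s + y * y * t = c := by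
  have := Fintype.ofFinite F
  open Polynomial in
  obtain ⟨x, y, h⟩ := FiniteField.exists_root_sum_quadratic (R := F)
    (f := C s * X ^ 2 + C 0 * X + C (-c)) (g := C t * X ^ 2 + C 0 * X + C 0)
    (Polynomial.degree_quadratic hs) (Polynomial.degree_quadratic ht)
    (FiniteField.odd_card_of_char_ne_two (fun h => h2 (by
      have : ((2 : ℕ) : F) = 0 := (ringChar.spec F 2).2 (by rw [h])
      exact_mod_cast this)))
  refine ⟨x, y, ?_⟩
  simp at h
  linear_combination h

/-- **A vector of given norm up to squares orthogonal to `e, f, a`.** -/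
theorem exists_norm_perp (hG : Good Q) (hd : 6 ≤ Module.finrank F V) {e f a : V} (h : Hyp Q e f)
    (ha : polar Q e a = 0) (ha' : polar Q f a = 0) {c : F} (hc : c ≠ 0) :
    ∃ b : V, ∃ r : F, r ≠ 0 ∧ polar Q e b = 0 ∧ polar Q f b = 0 ∧ polar Q a b = 0 ∧
      Q b = r * r * c := by
  have : FiniteDimensional F V := Module.finite_of_finrank_pos (by omega)
  -- a nonsingular vector `b₀`
  have key : ∀ b₀ : V, polar Q e b₀ = 0 → polar Q f b₀ = 0 → polar Q a b₀ = 0 →
      (b₀ = 0 ∨ (2 : F) ≠ 0 ∧ Q b₀ ≠ 0) → ∃ b, Q b ≠ 0 ∧ polar Q e b = 0 ∧ polar Q f b = 0 ∧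
        polar Q a b = 0 ∧ polar Q b₀ b = 0 := by
    intro b₀ h1 h2 h3 h4
    have hfr := finrank_perps (Q := Q) ![e, f, a, b₀]
    have hfr2 : Module.finrank F (Submodule.span F ({a} : Set V)) ≤ 1 := by
      have := finrank_span_le_card (R := F) ({a} : Set V)
      simpa using this
    obtain ⟨x, hx, hxa⟩ := exists_mem_notMem (F := F) (S := perps Q ![e, f, a, b₀])
      (T := Submodule.span F ({a} : Set V)) (by omega)
    rw [mem_perps] at hx
    have hxe : polar Q e x = 0 := hx 0
    have hxf : polar Q f x = 0 := hx 1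
    have hxa' : polar Q a x = 0 := hx 2
    have hxb : polar Q b₀ x = 0 := hx 3
    have hnot : x ∉ Submodule.span F ({e, f, a, b₀} : Set V) := by
      intro hmem
      rw [Submodule.mem_span_insert] at hmem
      obtain ⟨α, z, hz, hxz⟩ := hmem
      rw [Submodule.mem_span_insert] at hz
      obtain ⟨β, z', hz', hzz⟩ := hz
      rw [Submodule.mem_span_pair] at hz'
      obtain ⟨γ, δ, rfl⟩ := hz'
      subst hzz
      have e1 : β = 0 := by
        have := hxe
        rw [hxz] at this
        simp only [polar_add_right, polar_smul_right, h.polar_left, h.pair, ha, h1,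
          smul_eq_mul, mul_zero, add_zero, zero_add, mul_one] at this
        exact this
      have e2 : α = 0 := by
        have := hxf
        rw [hxz] at this
        simp only [polar_add_right, polar_smul_right, h.polar_right, h.pair', ha', h2,
          smul_eq_mul, mul_zero, add_zero, mul_one] at this
        exact this
      subst e1 e2
      apply hxa
      rw [Submodule.mem_span_singleton]
      rcases h4 with rfl | ⟨h4, h5⟩
      · exact ⟨γ, by rw [hxz]; simp⟩
      · have e3 : δ = 0 := by
          have := hxb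
          rw [hxz] at this
          simp only [polar_add_right, polar_smul_right, zero_smul, zero_add, polar_comm Q b₀ a,
            h3, smul_eq_mul, mul_zero, polar_self'] at this
          have h6 : (2 : F) * Q b₀ ≠ 0 := mul_ne_zero h4 h5
          exact (mul_eq_zero.1 this).resolve_right h6
        subst e3
        exact ⟨γ, by rw [hxz]; simp⟩
    obtain ⟨b, hb, hbX⟩ := exists_nonsing_perp_sub hG.nondeg hnot (by
      intro w hw
      refine Submodule.span_induction (p := fun w _ => polar Q w x = 0) ?_ ?_ ?_ ?_ hw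
      · rintro y (rfl | rfl | rfl | rfl) <;> assumption
      · exact QuadraticMap.polar_zero_left Q x
      · intro y z _ _ hy hz
        rw [polar_add_left, hy, hz, add_zero]
      · intro c y _ hy
        rw [polar_smul_left, hy, smul_zero])
    exact ⟨b, hb, hbX e (Submodule.subset_span (by simp)), hbX f (Submodule.subset_span (by simp)),
      hbX a (Submodule.subset_span (by simp)), hbX b₀ (Submodule.subset_span (by simp))⟩
  obtain ⟨b, hb, h1, h2, h3, -⟩ := key 0 (polar_zero_right Q _) (polar_zero_right Q _)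
    (polar_zero_right Q _) (Or.inl rfl)
  by_cases htwo : (2 : F) = 0
  · obtain ⟨d, hd⟩ := exists_sq_of_char_two htwo (Q b / c)
    refine ⟨b, d, ?_, h1, h2, h3, ?_⟩
    · rintro rfl
      rw [mul_zero, eq_comm, div_eq_zero_iff] at hd
      rcases hd with hd | hd
      · exact hb hd
      · exact hc hd
    · rw [hd, div_mul_cancel₀ _ hc]
  · obtain ⟨b', hb', h1', h2', h3', h4'⟩ := key b h1 h2 h3 (Or.inr ⟨htwo, hb⟩)
    obtain ⟨x, y, hxy⟩ := exists_binary htwo hb hb' c
    refine ⟨x • b + y • b', 1, one_ne_zero, ?_, ?_, ?_, ?_⟩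
    · rw [polar_add_right, polar_smul_right, polar_smul_right, h1, h1', smul_zero, smul_zero,
        add_zero]
    · rw [polar_add_right, polar_smul_right, polar_smul_right, h2, h2', smul_zero, smul_zero,
        add_zero]
    · rw [polar_add_right, polar_smul_right, polar_smul_right, h3, h3', smul_zero, smul_zero,
        add_zero]
    · rw [Q_add, QuadraticMap.map_smul, QuadraticMap.map_smul, polar_smul_left, polar_smul_right,
        h4', smul_zero, smul_zero, add_zero, smul_eq_mul, smul_eq_mul, hxy]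
      ring

/-- `O Q = E Q · Stab(e, f, a)`. -/
theorem exists_correct (hG : Good Q) (hd : 6 ≤ Module.finrank F V) {e f a : V} (h : Hyp Q e f)
    (ha : polar Q e a = 0) (ha' : polar Q f a = 0) {g : V ≃ₗ[F] V} (hg : g ∈ O Q) :
    ∃ k ∈ O Q, k e = e ∧ k f = f ∧ k a = a ∧ g * k ∈ E Q := by
  have : FiniteDimensional F V := Module.finite_of_finrank_pos (by omega)
  rw [O_eq_closure hG.nondeg] at hg
  induction hg using Subgroup.closure_induction with
  | mem x hx =>
    rcases hx with ⟨v, hv, rfl⟩ | ⟨u, w, hu, hw, rfl⟩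
    · obtain ⟨b, r, hr, h1, h2, h3, h4⟩ := exists_norm_perp hG hd h ha ha' hv
      have hb : Q b ≠ 0 := by
        rw [h4]
        exact mul_ne_zero (mul_ne_zero hr hr) hv
      refine ⟨refl Q b hb, refl_mem_O hb, ?_, ?_, ?_, ?_⟩
      · rw [refl_apply, polar_comm, h1, mul_zero, zero_smul, sub_zero]
      · rw [refl_apply, polar_comm, h2, mul_zero, zero_smul, sub_zero]
      · rw [refl_apply, polar_comm, h3, mul_zero, zero_smul, sub_zero]
      · have hb' : Q (r⁻¹ • b) = Q v := by
          rw [QuadraticMap.map_smul, h4, smul_eq_mul]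
          field_simp
        have hb'' : Q (r⁻¹ • b) ≠ 0 := by rw [hb']; exact hv
        rw [← refl_smul hb (inv_ne_zero hr) hb'']
        exact hG.refl_mul_refl_mem hb'' hv hb'
    · refine ⟨1, (O Q).one_mem, rfl, rfl, rfl, ?_⟩
      rw [mul_one]
      exact siegel_mem_E hu hw
  | one => exact ⟨1, (O Q).one_mem, rfl, rfl, rfl, by rw [mul_one]; exact (E Q).one_mem⟩
  | mul x y _ _ hx hy =>
    obtain ⟨k, hk, h1, h2, h3, h4⟩ := hx
    obtain ⟨l, hl, h1', h2', h3', h4'⟩ := hy
    refine ⟨l * k, (O Q).mul_mem hl hk, ?_, ?_, ?_, ?_⟩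
    · show l (k e) = e
      rw [h1, h1']
    · show l (k f) = f
      rw [h2, h2']
    · show l (k a) = a
      rw [h3, h3']
    · have e1 : x * y * (l * k) = (x * k) * (k⁻¹ * (y * l) * k⁻¹⁻¹) := by group
      rw [e1]
      exact (E Q).mul_mem h4 (conj_mem_E ((O Q).inv_mem hk) h4')
  | inv x _ hx =>
    obtain ⟨k, hk, h1, h2, h3, h4⟩ := hx
    refine ⟨k⁻¹, (O Q).inv_mem hk, ?_, ?_, ?_, ?_⟩
    · exact k.symm_apply_eq.2 h1.symm
    · exact k.symm_apply_eq.2 h2.symm
    · exact k.symm_apply_eq.2 h3.symm
    · have e1 : x⁻¹ * k⁻¹ = k * (x * k)⁻¹ * k⁻¹ := by group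
      rw [e1]
      exact conj_mem_E hk ((E Q).inv_mem h4)

theorem linearIndependent_triple {e f a : V} (h : Hyp Q e f) (ha : polar Q e a = 0)
    (ha' : polar Q f a = 0) (h0 : a ≠ 0) : LinearIndependent F ![e, f, a] := by
  rw [Fintype.linearIndependent_iff]
  intro g hg
  rw [Fin.sum_univ_three] at hg
  simp only [Matrix.cons_val_zero, Matrix.cons_val_one, Matrix.cons_val] at hg
  have h1 : g 1 = 0 := by
    have := congrArg (polar Q e) hg
    simpa only [polar_add_right, polar_smul_right, h.polar_left, h.pair, ha, smul_eq_mul, mul_zero,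
      add_zero, zero_add, mul_one, polar_zero_right] using this
  have h2 : g 0 = 0 := by
    have := congrArg (polar Q f) hg
    simpa only [polar_add_right, polar_smul_right, h.polar_right, h.pair', ha', smul_eq_mul,
      mul_zero, add_zero, mul_one, polar_zero_right] using this
  rw [h1, h2, zero_smul, zero_smul, zero_add, zero_add, smul_eq_zero] at hg
  intro i
  fin_cases i
  · exact h2
  · exact h1
  · exact hg.resolve_right h0

/-- **`E Q` is transitive on the triples `(e, f, a)` with `Q a` given.** -/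
theorem exists_map_triple (hG : Good Q) (hd : 6 ≤ Module.finrank F V) {e f a e' f' a' : V}
    (h : Hyp Q e f) (ha : polar Q e a = 0) (ha' : polar Q f a = 0) (h0 : a ≠ 0)
    (h' : Hyp Q e' f') (hb : polar Q e' a' = 0) (hb' : polar Q f' a' = 0) (h0' : a' ≠ 0)
    (hq : Q a = Q a') : ∃ g ∈ E Q, g e = e' ∧ g f = f' ∧ g a = a' := by
  have : FiniteDimensional F V := Module.finite_of_finrank_pos (by omega)
  obtain ⟨g, hgO, hg⟩ := Cfsg.Agent.ClassicalGeometry.WittQuad.extend_family Q
    (nondeg_iff hG.nondeg) 3 ![e, f, a] ![e', f', a'] (linearIndependent_triple h ha ha' h0)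
    (linearIndependent_triple h' hb hb' h0')
    (by
      intro i
      fin_cases i
      · exact h.left.trans h'.left.symm
      · exact h.right.trans h'.right.symm
      · exact hq)
    (by
      have ha1 : polar Q a e = 0 := by rw [polar_comm]; exact ha
      have ha2 : polar Q a f = 0 := by rw [polar_comm]; exact ha'
      have hb1 : polar Q a' e' = 0 := by rw [polar_comm]; exact hb
      have hb2 : polar Q a' f' = 0 := by rw [polar_comm]; exact hb'
      intro i j
      fin_cases i <;> fin_cases j <;>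
        simp [h.polar_left, h'.polar_left, h.polar_right, h'.polar_right, h.pair, h'.pair,
          h.pair', h'.pair', ha, ha', hb, hb', ha1, ha2, hb1, hb2, hq])
  obtain ⟨k, hk, h1, h2, h3, h4⟩ := exists_correct hG hd h ha ha' (g := g) hgO
  refine ⟨g * k, h4, ?_, ?_, ?_⟩
  · show g (k e) = e'
    rw [h1]; exact hg 0
  · show g (k f) = f'
    rw [h2]; exact hg 1
  · show g (k a) = a'
    rw [h3]; exact hg 2

end Finite

end Cfsg.Agent.H76.Trans
end

-- part: H76/BinCount
section
/-!
# Numbers of vectors of given norm for the minus type form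
-/

set_option autoImplicit false
set_option linter.unusedSectionVars false

namespace Cfsg.Agent.H76.BinCount

open Cfsg.Agent.LieClassical.OrthForms

variable {F : Type*} [Field F] {a b : F}

/-- the binary form -/
def bf (a b : F) (z : Fin 2 → F) : F := z 0 ^ 2 + a * z 0 * z 1 + b * z 1 ^ 2

/-- the multiplication -/
def mu (a b : F) (z w : Fin 2 → F) : Fin 2 → F :=
  ![z 0 * w 0 - b * z 1 * w 1, z 0 * w 1 + z 1 * w 0 + a * z 1 * w 1]

theorem bf_mu (z w : Fin 2 → F) : bf a b (mu a b z w) = bf a b z * bf a b w := by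
  simp only [bf, mu, Matrix.cons_val_zero, Matrix.cons_val_one]
  ring

theorem mu_sub (z z' w : Fin 2 → F) : mu a b z w - mu a b z' w = mu a b (z - z') w := by
  funext i
  fin_cases i
  · show (z 0 * w 0 - b * z 1 * w 1) - (z' 0 * w 0 - b * z' 1 * w 1) =
      (z 0 - z' 0) * w 0 - b * (z 1 - z' 1) * w 1
    ring
  · show (z 0 * w 1 + z 1 * w 0 + a * z 1 * w 1) - (z' 0 * w 1 + z' 1 * w 0 + a * z' 1 * w 1) =
      (z 0 - z' 0) * w 1 + (z 1 - z' 1) * w 0 + a * (z 1 - z' 1) * w 1
    ring

variable (hab : ∀ z₁ z₂ : F, z₁ ^ 2 + a * z₁ * z₂ + b * z₂ ^ 2 = 0 → z₁ = 0 ∧ z₂ = 0)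

include hab in
theorem bf_eq_zero {z : Fin 2 → F} (h : bf a b z = 0) : z = 0 := by
  obtain ⟨h0, h1⟩ := hab _ _ h
  funext i
  fin_cases i
  · exact h0
  · exact h1

include hab in
theorem mu_injective {w : Fin 2 → F} (hw : bf a b w ≠ 0) :
    Function.Injective fun z => mu a b z w := by
  intro z z' h
  have h1 : mu a b (z - z') w = 0 := by rw [← mu_sub]; exact sub_eq_zero.2 h
  have h2 : bf a b (z - z') * bf a b w = 0 := by
    rw [← bf_mu, h1]
    simp [bf]
  exact sub_eq_zero.1 (bf_eq_zero hab ((mul_eq_zero.1 h2).resolve_right hw))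

include hab in
theorem exists_bf [Finite F] (c : F) : ∃ z, bf a b z = c := by
  by_cases h2 : (2 : F) = 0
  · obtain ⟨d, hd⟩ := Cfsg.Agent.H76.Trans.exists_sq_of_char_two h2 c
    refine ⟨![d, 0], ?_⟩
    simp only [bf, Matrix.cons_val_zero, Matrix.cons_val_one]
    rw [← hd]
    ring
  · have ht : b - a ^ 2 / 4 ≠ 0 := by
      intro h0
      have h3 := (hab (-a / 2) 1 (by
        have h4 : (4 : F) = 2 * 2 := by norm_num
        have h5 : b = a ^ 2 / 4 := sub_eq_zero.1 h0
        rw [h5, h4]
        field_simp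
        ring)).2
      exact one_ne_zero h3
    obtain ⟨x, y, hxy⟩ := Cfsg.Agent.H76.Trans.exists_binary h2 (one_ne_zero (α := F)) ht c
    refine ⟨![x - a / 2 * y, y], ?_⟩
    simp only [bf, Matrix.cons_val_zero, Matrix.cons_val_one]
    rw [← hxy]
    have h4 : (4 : F) = 2 * 2 := by norm_num
    rw [h4]
    field_simp
    ring

include hab in
theorem card_bf_le [Fintype F] {c c' : F} (hc : c ≠ 0) (hc' : c' ≠ 0) :
    Nat.card {z : Fin 2 → F // bf a b z = c} ≤ Nat.card {z : Fin 2 → F // bf a b z = c'} := by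
  obtain ⟨w, hw⟩ := exists_bf hab (c' / c)
  have hw0 : bf a b w ≠ 0 := by rw [hw]; exact div_ne_zero hc' hc
  refine Nat.card_le_card_of_injective
    (fun z : {z : Fin 2 → F // bf a b z = c} => (⟨mu a b z.1 w, by
      rw [bf_mu, z.2, hw, mul_div_cancel₀ _ hc]⟩ : {z : Fin 2 → F // bf a b z = c'})) ?_
  intro z z' h
  exact Subtype.ext (mu_injective hab hw0 (congrArg Subtype.val h))

include hab in
theorem card_bf_zero : Nat.card {z : Fin 2 → F // bf a b z = 0} = 1 := by
  rw [Nat.card_eq_one_iff_exists]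
  refine ⟨⟨0, by simp [bf]⟩, ?_⟩
  rintro ⟨z, hz⟩
  exact Subtype.ext (bf_eq_zero hab hz)

include hab in
/-- **The anisotropic binary form represents each `c ≠ 0` exactly `q + 1` times.** -/
theorem card_bf [Fintype F] {c : F} (hc : c ≠ 0) :
    Nat.card {z : Fin 2 → F // bf a b z = c} = Fintype.card F + 1 := by
  classical
  have h1 : ∑ d : F, Nat.card {z : Fin 2 → F // bf a b z = d} = Fintype.card F ^ 2 := by
    rw [← Nat.card_sigma, Nat.card_congr (Equiv.sigmaFiberEquiv (bf a b)),
      Nat.card_eq_fintype_card, Fintype.card_fun, Fintype.card_fin]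
  rw [← Finset.add_sum_erase Finset.univ _ (Finset.mem_univ (0 : F)), card_bf_zero hab,
    Finset.sum_congr rfl (fun d hd => le_antisymm (card_bf_le hab (Finset.ne_of_mem_erase hd) hc)
      (card_bf_le hab hc (Finset.ne_of_mem_erase hd))), Finset.sum_const,
    Finset.card_erase_of_mem (Finset.mem_univ _), Finset.card_univ, smul_eq_mul] at h1
  have hq : 1 < Fintype.card F := Fintype.one_lt_card
  obtain ⟨r, hr⟩ : ∃ r, Fintype.card F = r + 1 := ⟨Fintype.card F - 1, by omega⟩
  rw [hr, Nat.add_sub_cancel] at h1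
  rw [hr]
  have hr0 : 0 < r := by omega
  have h2 : r * Nat.card {z : Fin 2 → F // bf a b z = c} = r * (r + 1 + 1) := by
    have : (r + 1) ^ 2 = 1 + r * (r + 1 + 1) := by ring
    omega
  exact Nat.eq_of_mul_eq_mul_left hr0 h2

include hab in
/-- The number of vectors of norm `c` for the minus type form. -/
theorem card_minusForm [Fintype F] (k : ℕ) (c : F) :
    Nat.card F * {v : (Fin k ⊕ Fin k) ⊕ Fin 2 → F | minusForm k F a b v = c}.ncard +
      Nat.card F ^ (k + 2) = Nat.card F ^ (2 * k + 2) +
        Nat.card {z : Fin 2 → F // bf a b z = c} * Nat.card F ^ (k + 1) := by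
  classical
  have h := Cfsg.Agent.LieClassical.QuadCount.card_sum (F := F) (W := Fin 2 → F) k
    (fun w => bf a b w - c)
  have hone : Nat.card {w : Fin 2 → F // bf a b w - c = 0} =
      Nat.card {w : Fin 2 → F // bf a b w = c} := by
    refine Nat.card_congr (Equiv.subtypeEquivRight fun w => sub_eq_zero)
  have hcard : {v : (Fin k ⊕ Fin k) ⊕ Fin 2 → F | minusForm k F a b v = c}.ncard
      = Nat.card {p : (Fin k ⊕ Fin k → F) × (Fin 2 → F) //
          Cfsg.quadFormPlus k F p.1 + (bf a b p.2 - c) = 0} := by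
    refine Nat.card_congr ((Equiv.sumArrowEquivProdArrow (Fin k ⊕ Fin k) (Fin 2) F).subtypeEquiv ?_)
    intro v
    show minusForm k F a b v = c ↔ (∑ i : Fin k, v (.inl (.inl i)) * v (.inl (.inr i))) +
      (bf a b (fun i => v (.inr i)) - c) = 0
    rw [coe_minusForm, quadFormMinus_apply]
    show _ ↔ (∑ i : Fin k, v (.inl (.inl i)) * v (.inl (.inr i))) +
      (v (.inr 0) ^ 2 + a * v (.inr 0) * v (.inr 1) + b * v (.inr 1) ^ 2 - c) = 0
    constructor
    · intro h; linear_combination h
    · intro h; linear_combination h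
  have hF : Nat.card F = Fintype.card F := Nat.card_eq_fintype_card
  rw [hone, Fintype.card_fun, Fintype.card_fin, ← hcard] at h
  rw [hF]
  calc _ = Fintype.card F * {v : (Fin k ⊕ Fin k) ⊕ Fin 2 → F | minusForm k F a b v = c}.ncard +
        Fintype.card F ^ 2 * Fintype.card F ^ k := by rw [← pow_add, add_comm 2 k]
    _ = _ := h
    _ = _ := by rw [← pow_add, add_comm 2 (2 * k)]

/-- the functional `v ↦ ∑ q i * v i` -/
def dotf {k : ℕ} (q : Fin k → F) : Module.Dual F (Fin k → F) :=
  ∑ i, q i • LinearMap.proj i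

theorem dotf_apply {k : ℕ} (q v : Fin k → F) : dotf q v = ∑ i, q i * v i := by
  simp [dotf, LinearMap.sum_apply]

include hab in
/-- **Totally singular subspaces of `minusForm k` have dimension at most `k`.** -/
theorem finrank_ts_le (k : ℕ) (T : Submodule F ((Fin k ⊕ Fin k) ⊕ Fin 2 → F))
    (hT : ∀ x ∈ T, minusForm k F a b x = 0) : Module.finrank F T ≤ k := by
  classical
  have hform : ∀ x : (Fin k ⊕ Fin k) ⊕ Fin 2 → F, minusForm k F a b x =
      (∑ i : Fin k, x (.inl (.inl i)) * x (.inl (.inr i))) +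
      (x (.inr 0) ^ 2 + a * x (.inr 0) * x (.inr 1) + b * x (.inr 1) ^ 2) := fun x => by
    rw [coe_minusForm, quadFormMinus_apply]
  -- first coordinates
  let p : T →ₗ[F] (Fin k → F) :=
    { toFun := fun x i => x.1 (.inl (.inl i))
      map_add' := fun x y => rfl
      map_smul' := fun c x => rfl }
  have hker : ∀ x : T, p x = 0 → x.1 (.inr 0) = 0 ∧ x.1 (.inr 1) = 0 := by
    intro x hx
    have h0 : ∀ i, x.1 (.inl (.inl i)) = 0 := fun i => congrFun hx i
    have h1 := hT x.1 x.2
    rw [hform] at h1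
    simp only [h0, zero_mul, Finset.sum_const_zero, zero_add] at h1
    exact hab _ _ h1
  have hdot : ∀ x y : T, p x = 0 → ∑ i, x.1 (.inl (.inr i)) * y.1 (.inl (.inl i)) = 0 := by
    intro x y hx
    obtain ⟨hx0, hx1⟩ := hker x hx
    have h0 : ∀ i, x.1 (.inl (.inl i)) = 0 := fun i => congrFun hx i
    have h1 := hT (x.1 + y.1) (T.add_mem x.2 y.2)
    have h2 := hT y.1 y.2
    rw [hform] at h1 h2
    simp only [Pi.add_apply, h0, hx0, hx1, zero_add] at h1
    have h3 : ∑ i, y.1 (.inl (.inl i)) * (x.1 (.inl (.inr i)) + y.1 (.inl (.inr i))) =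
        ∑ i, x.1 (.inl (.inr i)) * y.1 (.inl (.inl i)) +
          ∑ i, y.1 (.inl (.inl i)) * y.1 (.inl (.inr i)) := by
      rw [← Finset.sum_add_distrib]
      exact Finset.sum_congr rfl fun i _ => by ring
    rw [h3] at h1
    linear_combination h1 - h2
  let r : LinearMap.ker p →ₗ[F] (LinearMap.range p).dualAnnihilator :=
    { toFun := fun x => ⟨dotf fun i => x.1.1 (.inl (.inr i)), by
        rw [Submodule.mem_dualAnnihilator]
        rintro _ ⟨y, rfl⟩
        rw [dotf_apply]
        exact hdot x.1 y x.2⟩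
      map_add' := fun x y => by
        apply Subtype.ext
        apply LinearMap.ext
        intro v
        show dotf _ v = dotf _ v + dotf _ v
        rw [dotf_apply, dotf_apply, dotf_apply, ← Finset.sum_add_distrib]
        exact Finset.sum_congr rfl fun i _ => add_mul _ _ _
      map_smul' := fun c x => by
        apply Subtype.ext
        apply LinearMap.ext
        intro v
        show dotf _ v = c • dotf _ v
        rw [dotf_apply, dotf_apply, smul_eq_mul, Finset.mul_sum]
        exact Finset.sum_congr rfl fun i _ => mul_assoc _ _ _ }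
  have hr : Function.Injective r := by
    intro x y hxy
    have h1 : (dotf fun i => x.1.1 (.inl (.inr i))) = dotf fun i => y.1.1 (.inl (.inr i)) :=
      congrArg Subtype.val hxy
    obtain ⟨hx0, hx1⟩ := hker x.1 x.2
    obtain ⟨hy0, hy1⟩ := hker y.1 y.2
    apply Subtype.ext
    apply Subtype.ext
    funext j
    rcases j with (j | j) | j
    · have e1 : x.1.1 (.inl (.inl j)) = 0 := congrFun x.2 j
      have e2 : y.1.1 (.inl (.inl j)) = 0 := congrFun y.2 j
      rw [e1, e2]
    · have h2 := congrArg (fun φ => φ (Pi.single j 1)) h1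
      simp only [dotf_apply, Pi.single_apply, mul_ite, mul_one, mul_zero, Finset.sum_ite_eq',
        Finset.mem_univ, if_true] at h2
      exact h2
    · fin_cases j
      · exact hx0.trans hy0.symm
      · exact hx1.trans hy1.symm
  have h1 := LinearMap.finrank_le_finrank_of_injective hr
  have h2 := Subspace.finrank_add_finrank_dualAnnihilator_eq (LinearMap.range p)
  have h3 := LinearMap.finrank_range_add_finrank_ker p
  rw [Module.finrank_fin_fun] at h2
  omega

end Cfsg.Agent.H76.BinCount
end
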