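import Mathlib
import Cfsg.Agent.H76.BinCount
import Cfsg.Agent.H76.PermFour
import Cfsg.Agent.H75.WittE
import Cfsg.Agent.H75.OddGeo
set_option linter.all false

-- part: H76/Dual
section
/-!
# Annihilators under a bilinear form over a finite field, and orbit counting

`ann ψ β B` : the annihilator of an additive subgroup `B` under `(a, b) ↦ ψ (β a b)`, `ψ` a
nontrivial additive character.
* `card_ann`, `ann_ann`;
* `mult` : for an additive action of `W` on `Ω` the number of orbits whose stabiliser is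
  annihilated by `a`; `card_eq_sum_mult : |Ω| = ∑ a, mult a`;
* `mult_equivariant`.
-/

set_option autoImplicit false
set_option linter.unusedSectionVars false

namespace Cfsg.Agent.H76.Dual

open Finset

variable {F W : Type*} [Field F] [Finite F] [AddCommGroup W] [Module F W] [Finite W]

/-- The annihilator of `B` under `ψ ∘ β`. -/
def ann (ψ : AddChar F ℂ) (β : LinearMap.BilinForm F W) (B : AddSubgroup W) : AddSubgroup W where
  carrier := {a | ∀ b ∈ B, ψ (β a b) = 1}
  add_mem' {a c} ha hc b hb := by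
    rw [map_add, LinearMap.add_apply, AddChar.map_add_eq_mul, ha b hb, hc b hb, one_mul]
  zero_mem' b _ := by
    rw [map_zero, LinearMap.zero_apply, AddChar.map_zero_eq_one]
  neg_mem' {a} ha b hb := by
    rw [map_neg, LinearMap.neg_apply, AddChar.map_neg_eq_inv, ha b hb, inv_one]

variable {ψ : AddChar F ℂ} {β : LinearMap.BilinForm F W}

theorem mem_ann {B : AddSubgroup W} {a : W} : a ∈ ann ψ β B ↔ ∀ b ∈ B, ψ (β a b) = 1 := Iff.rfl

theorem ann_anti {B C : AddSubgroup W} (h : B ≤ C) : ann ψ β C ≤ ann ψ β B :=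
  fun _ ha b hb => ha b (h hb)

theorem exists_ne {b : W} (hβ : ∀ b, (∀ a, β a b = 0) → b = 0) (hψ : ψ ≠ 0) (hb : b ≠ 0) :
    ∃ a, ψ (β a b) ≠ 1 := by
  obtain ⟨x, hx⟩ : ∃ x, ψ x ≠ 1 := by
    by_contra h
    push Not at h
    exact hψ (by ext x; simp [h x])
  obtain ⟨a, ha⟩ : ∃ a, β a b ≠ 0 := by
    by_contra h
    push Not at h
    exact hb (hβ b h)
  refine ⟨(x * (β a b)⁻¹) • a, ?_⟩
  rw [map_smul, LinearMap.smul_apply, smul_eq_mul, mul_assoc, inv_mul_cancel₀ ha, mul_one]
  exact hx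

theorem card_ann (hβ : ∀ b, (∀ a, β a b = 0) → b = 0) (hψ : ψ ≠ 0) (B : AddSubgroup W) :
    Nat.card (ann ψ β B) * Nat.card B = Nat.card W := by
  classical
  have := Fintype.ofFinite W
  have h1 : ∀ a : W, ∑ b : B, ψ (β a b) = if a ∈ ann ψ β B then (Nat.card B : ℂ) else 0 := by
    intro a
    let χ : AddChar B ℂ := ψ.compAddMonoidHom ((β a).toAddMonoidHom.comp B.subtype)
    have h2 : ∑ b : B, ψ (β a b) = ∑ b : B, χ b := rfl
    rw [h2, AddChar.sum_eq_ite]
    by_cases ha : a ∈ ann ψ β B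
    · rw [if_pos ha, if_pos, Nat.card_eq_fintype_card]
      ext b
      show ψ (β a b) = 1
      exact ha b b.2
    · rw [if_neg ha, if_neg]
      intro h
      apply ha
      intro b hb
      have := DFunLike.congr_fun h ⟨b, hb⟩
      exact this
  have h2 : ∀ b : B, ∑ a : W, ψ (β a b) = if b = 0 then (Nat.card W : ℂ) else 0 := by
    intro b
    let χ : AddChar W ℂ := ψ.compAddMonoidHom
      ({ toFun := fun a => β a b, map_zero' := by simp, map_add' := by simp } : W →+ F)
    have h2 : ∑ a : W, ψ (β a b) = ∑ a : W, χ a := rfl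
    rw [h2, AddChar.sum_eq_ite]
    by_cases hb : b = 0
    · rw [if_pos hb, if_pos, Nat.card_eq_fintype_card]
      ext a
      show ψ (β a b) = 1
      rw [hb, ZeroMemClass.coe_zero, map_zero, AddChar.map_zero_eq_one]
    · rw [if_neg hb, if_neg]
      intro h
      obtain ⟨a, ha⟩ := exists_ne (ψ := ψ) hβ hψ (b := (b : W))
        (fun h0 => hb (Subtype.ext h0))
      exact ha (DFunLike.congr_fun h a)
  have h3 : ∑ a : W, ∑ b : B, ψ (β a b) = ∑ b : B, ∑ a : W, ψ (β a b) := Finset.sum_comm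
  rw [Finset.sum_congr rfl (fun a _ => h1 a), Finset.sum_congr rfl (fun b _ => h2 b),
    Finset.sum_ite, Finset.sum_const_zero, add_zero, Finset.sum_const, Finset.sum_ite_eq' univ,
    if_pos (Finset.mem_univ _), nsmul_eq_mul] at h3
  have h4 : (univ.filter fun a => a ∈ ann ψ β B).card = Nat.card (ann ψ β B) := by
    rw [← Fintype.card_subtype, Nat.card_eq_fintype_card]
  rw [h4] at h3
  exact_mod_cast h3

theorem ann_ann (hβ : ∀ b, (∀ a, β a b = 0) → b = 0) (hs : ∀ a b, β a b = β b a) (hψ : ψ ≠ 0)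
    (B : AddSubgroup W) : ann ψ β (ann ψ β B) = B := by
  have hle : B ≤ ann ψ β (ann ψ β B) := by
    intro b hb a ha
    rw [hs]
    exact ha b hb
  have h1 := card_ann hβ hψ B
  have h2 := card_ann hβ hψ (ann ψ β B)
  have hpos : 0 < Nat.card (ann ψ β B) := Nat.card_pos
  have h3 : Nat.card (ann ψ β (ann ψ β B)) = Nat.card B := by
    apply Nat.eq_of_mul_eq_mul_left hpos
    rw [h1, mul_comm, h2]
  symm
  apply SetLike.coe_injective
  apply Set.eq_of_subset_of_ncard_le hle
  rw [← Nat.card_coe_set_eq, ← Nat.card_coe_set_eq]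
  exact h3.le

/-! ### Orbits -/

section Orbits

variable {Ω : Type*} [Finite Ω] [AddAction W Ω]

open AddAction

variable (ψ β) in
/-- The annihilator of the stabiliser of `ω`. -/
def A (ω : Ω) : AddSubgroup W := ann ψ β (stabilizer W ω)

theorem stab_vadd (w : W) (ω : Ω) : stabilizer W (w +ᵥ ω) = stabilizer W ω := by
  ext b
  rw [mem_stabilizer_iff, mem_stabilizer_iff]
  constructor
  · intro h
    have h2 : b +ᵥ (w +ᵥ ω) = w +ᵥ (b +ᵥ ω) := by
      rw [vadd_vadd, vadd_vadd, add_comm]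
    rw [h2] at h
    exact (AddAction.injective w) h
  · intro h
    rw [vadd_vadd, add_comm, ← vadd_vadd, h]

theorem A_vadd (w : W) (ω : Ω) : A ψ β (w +ᵥ ω) = A ψ β ω := by
  rw [A, A, stab_vadd]

theorem A_congr {ω ω' : Ω} (h : orbitRel W Ω ω ω') : A ψ β ω = A ψ β ω' := by
  obtain ⟨w, rfl⟩ := h
  exact A_vadd w ω'

variable (W Ω) in
/-- The set of orbits. -/
abbrev Orb : Type _ := orbitRel.Quotient W Ω

variable (ψ β) in
/-- The annihilator attached to an orbit. -/
def AO (o : Orb W Ω) : AddSubgroup W :=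
  Quotient.liftOn' o (A ψ β) (fun _ _ h => A_congr h)

theorem AO_mk (ω : Ω) : AO ψ β (Quotient.mk'' ω : Orb W Ω) = A ψ β ω := rfl

variable (ψ β) in
/-- The number of orbits annihilated by `a`. -/
noncomputable def mult (Ω : Type*) [Finite Ω] [AddAction W Ω] (a : W) : ℕ :=
  Nat.card {o : Orb W Ω // a ∈ AO ψ β o}

theorem card_orbit (hβ : ∀ b, (∀ a, β a b = 0) → b = 0) (hψ : ψ ≠ 0) (ω : Ω) :
    Nat.card (orbit W ω) = Nat.card (A ψ β ω) := by
  have h1 := card_ann hβ hψ (stabilizer W ω)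
  have h2 : Nat.card (orbit W ω) * Nat.card (stabilizer W ω) = Nat.card W := by
    have e : Nat.card (orbit W ω) = Nat.card (W ⧸ stabilizer W ω) :=
      Nat.card_congr (orbitEquivQuotientStabilizer W ω)
    rw [e]
    exact (AddSubgroup.card_eq_card_quotient_mul_card_addSubgroup (stabilizer W ω)).symm
  exact Nat.eq_of_mul_eq_mul_right (Nat.card_pos (α := stabilizer W ω)) (h2.trans h1.symm)

theorem card_eq_sum_AO (hβ : ∀ b, (∀ a, β a b = 0) → b = 0) (hψ : ψ ≠ 0) [Fintype (Orb W Ω)] :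
    Nat.card Ω = ∑ o : Orb W Ω, Nat.card (AO ψ β o) := by
  classical
  rw [Nat.card_congr (selfEquivSigmaOrbits W Ω), Nat.card_sigma]
  refine Finset.sum_congr rfl fun o _ => ?_
  have h := card_orbit (ψ := ψ) hβ hψ o.out
  have e : (Quotient.mk'' o.out : Orb W Ω) = o := Quotient.out_eq' o
  rw [h, ← AO_mk, e]

theorem card_eq_sum_mult (hβ : ∀ b, (∀ a, β a b = 0) → b = 0) (hψ : ψ ≠ 0) [Fintype W] :
    Nat.card Ω = ∑ a : W, mult ψ β Ω a := by
  classical
  have := Fintype.ofFinite (Orb W Ω)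
  rw [card_eq_sum_AO hβ hψ, ← Nat.card_sigma]
  have h : ∑ a : W, mult ψ β Ω a = Nat.card (Σ a : W, {o : Orb W Ω // a ∈ AO ψ β o}) := by
    rw [Nat.card_sigma]; rfl
  rw [h]
  exact Nat.card_congr
    { toFun := fun x => ⟨x.2.1, ⟨x.1, x.2.2⟩⟩
      invFun := fun x => ⟨x.2.1, ⟨x.1, x.2.2⟩⟩
      left_inv := fun _ => rfl
      right_inv := fun _ => rfl }

/-- The permutation of the orbits induced by a semiequivariant permutation. -/
def orbPerm (φ : Ω ≃ Ω) (ρ : W ≃ W) (h : ∀ w ω, φ (w +ᵥ ω) = ρ w +ᵥ φ ω) :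
    Orb W Ω ≃ Orb W Ω :=
  Quotient.congr φ (fun ω ω' => by
    constructor
    · rintro ⟨w, hw⟩
      refine ⟨ρ w, ?_⟩
      show ρ w +ᵥ φ ω' = φ ω
      rw [← h]
      exact congrArg φ hw
    · rintro ⟨w, hw⟩
      refine ⟨ρ.symm w, ?_⟩
      apply φ.injective
      show φ (ρ.symm w +ᵥ ω') = φ ω
      rw [h, ρ.apply_symm_apply]
      exact hw)

theorem orbPerm_mk (φ : Ω ≃ Ω) (ρ : W ≃ W) (h : ∀ w ω, φ (w +ᵥ ω) = ρ w +ᵥ φ ω) (ω : Ω) :
    orbPerm φ ρ h (Quotient.mk'' ω) = Quotient.mk'' (φ ω) := rfl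

theorem mem_A_image (φ : Ω ≃ Ω) (ρ ρ' : W ≃ W) (h : ∀ w ω, φ (w +ᵥ ω) = ρ w +ᵥ φ ω)
    (hρ : ∀ a b, β (ρ' a) (ρ b) = β a b) (a : W) (ω : Ω) :
    ρ' a ∈ A ψ β (φ ω) ↔ a ∈ A ψ β ω := by
  constructor
  · intro ha b hb
    rw [← hρ]
    apply ha
    rw [mem_stabilizer_iff] at hb ⊢
    rw [← h, hb]
  · intro ha b hb
    obtain ⟨b, rfl⟩ := ρ.surjective b
    rw [hρ]
    apply ha
    rw [mem_stabilizer_iff] at hb ⊢
    rw [← h] at hb
    exact φ.injective hb

theorem mem_AO_image (φ : Ω ≃ Ω) (ρ ρ' : W ≃ W) (h : ∀ w ω, φ (w +ᵥ ω) = ρ w +ᵥ φ ω)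
    (hρ : ∀ a b, β (ρ' a) (ρ b) = β a b) (a : W) (o : Orb W Ω) :
    ρ' a ∈ AO ψ β (orbPerm φ ρ h o) ↔ a ∈ AO ψ β o := by
  induction o using Quotient.inductionOn' with
  | h ω => exact mem_A_image φ ρ ρ' h hρ a ω

theorem mult_equivariant (φ : Ω ≃ Ω) (ρ ρ' : W ≃ W) (h : ∀ w ω, φ (w +ᵥ ω) = ρ w +ᵥ φ ω)
    (hρ : ∀ a b, β (ρ' a) (ρ b) = β a b) (a : W) :
    mult ψ β Ω (ρ' a) = mult ψ β Ω a := by
  symm
  exact Nat.card_congr ((orbPerm φ ρ h).subtypeEquiv fun o => (mem_AO_image φ ρ ρ' h hρ a o).symm)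

end Orbits

end Cfsg.Agent.H76.Dual
end

-- part: H76/Act
section
/-!
# The action of the root group `Q_e` on a set with `E Q`-action

`Om h Ω` : `Ω` with the additive action of `W = ⟨e, f⟩^⊥` through the Siegel elements
`siegel Q e w`; `AA h ψ ω` the annihilator of the stabiliser of `ω`, `mu h ψ Ω a` the number of
`Q_e`-orbits annihilated by `a`.
-/

set_option autoImplicit false
set_option linter.unusedSectionVars false

namespace Cfsg.Agent.H76.Act

open QuadraticMap Cfsg.Agent.LieClassical.OrthCore Cfsg.Agent.LieClassical.OrthTrans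
open Cfsg.Agent.H76.Trans Cfsg.Agent.H76

variable {F V : Type*} [Field F] [AddCommGroup V] [Module F V] {Q : QuadraticForm F V}
variable {e f : V}

variable (Q e f) in
/-- `⟨e, f⟩^⊥`. -/
def W : Submodule F V := perps Q ![e, f]

theorem mem_W {v : V} : v ∈ W Q e f ↔ polar Q e v = 0 ∧ polar Q f v = 0 := by
  rw [W, mem_perps]
  constructor
  · intro h
    exact ⟨h 0, h 1⟩
  · rintro ⟨h1, h2⟩ i
    fin_cases i
    · exact h1
    · exact h2

theorem mem_W_e (v : W Q e f) : polar Q e v = 0 := (mem_W.1 v.2).1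

theorem mem_W_f (v : W Q e f) : polar Q f v = 0 := (mem_W.1 v.2).2

theorem proj_mem (h : Hyp Q e f) (v : V) : proj Q e f v ∈ W Q e f :=
  mem_W.2 ⟨polar_proj_left h v, polar_proj_right h v⟩

variable (Q e f) in
/-- The polar form on `W`. -/
def bW : LinearMap.BilinForm F (W Q e f) := (polarBilin Q).domRestrict₁₂ _ _

theorem bW_apply (a b : W Q e f) : bW Q e f a b = polar Q (a : V) (b : V) := rfl

theorem bW_symm (a b : W Q e f) : bW Q e f a b = bW Q e f b a := by
  rw [bW_apply, bW_apply, polar_comm]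

theorem bW_nondeg (hQ : Nondeg Q) (h : Hyp Q e f) (b : W Q e f)
    (hb : ∀ a, bW Q e f a b = 0) : b = 0 := by
  apply Subtype.ext
  apply hQ
  intro v
  have h1 := hb ⟨_, proj_mem h v⟩
  rw [bW_symm, bW_apply] at h1
  rw [← h1]
  exact (polar_proj_of_perp (mem_W_e b) (mem_W_f b) v).symm

theorem siegel_zero {u : V} (hu : Q u = 0) (hw : polar Q u 0 = 0) : siegel Q u 0 hu hw = 1 := by
  ext v
  rw [siegel_apply]
  simp

theorem siegel_congr {u w w' : V} {hu : Q u = 0} {hw : polar Q u w = 0} {hw' : polar Q u w' = 0}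
    (h : w = w') : siegel Q u w hu hw = siegel Q u w' hu hw' := by
  subst h; rfl

theorem siegel_smul_left {u w : V} {c : F} (hu : Q u = 0) (hcu : Q (c • u) = 0)
    (hw : polar Q (c • u) w = 0) (hw' : polar Q u (c • w) = 0) :
    siegel Q (c • u) w hcu hw = siegel Q u (c • w) hu hw' := by
  ext v
  rw [siegel_apply, siegel_apply, QuadraticMap.map_smul]
  simp only [polar_smul_left, smul_eq_mul]
  module

/-- Swapping the two vectors of a Siegel element inverts it. -/
theorem siegel_swap {u w : V} (hu : Q u = 0) (hw : polar Q u w = 0) (hQw : Q w = 0)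
    (hw' : polar Q w u = 0) : siegel Q w u hQw hw' = (siegel Q u w hu hw)⁻¹ := by
  have h0 : polar Q u (-w) = 0 := by rw [polar_neg_right, hw, neg_zero]
  rw [siegel_inv hu hw h0]
  ext v
  rw [siegel_apply, siegel_apply, QuadraticMap.map_neg, hu, hQw, polar_neg_left]
  module

/-- The Siegel element as an element of `E Q`. -/
def sg (h : Hyp Q e f) (w : W Q e f) : E Q :=
  ⟨siegel Q e w h.left (mem_W_e w), siegel_mem_E _ _⟩

theorem sg_coe (h : Hyp Q e f) (w : W Q e f) :
    (sg h w : V ≃ₗ[F] V) = siegel Q e w h.left (mem_W_e w) := rfl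

theorem sg_zero (h : Hyp Q e f) : sg h 0 = 1 := by
  apply Subtype.ext
  exact siegel_zero h.left (polar_zero_right Q e)

theorem sg_add (h : Hyp Q e f) (w w' : W Q e f) : sg h (w + w') = sg h w * sg h w' := by
  apply Subtype.ext
  rw [Subgroup.coe_mul, sg_coe, sg_coe, sg_coe]
  exact (siegel_mul h.left (mem_W_e w) (mem_W_e w') _).symm

theorem sg_injective (h : Hyp Q e f) {w : W Q e f} (hw : sg h w = 1) : w = 0 := by
  have h1 := congrArg (fun g : E Q => (g : V ≃ₗ[F] V) f) hw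
  have h2 : f + (1 : F) • (w : V) - (0 : F) • e - (Q (w : V) * 1) • e = f := by
    have h3 : (sg h w : V ≃ₗ[F] V) f = f := h1
    rw [sg_coe, siegel_apply, h.pair, polar_comm Q (w : V) f, mem_W_f] at h3
    exact h3
  have h4 : (w : V) = Q (w : V) • e := by
    rw [one_smul, zero_smul, sub_zero, mul_one] at h2
    have : (w : V) - Q (w : V) • e = 0 := by
      have h5 : f + (w : V) - Q (w : V) • e - f = 0 := sub_eq_zero.2 h2
      rw [← h5]; abel
    exact sub_eq_zero.1 this
  have h5 : Q (w : V) = 0 := by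
    have h6 := mem_W_f w
    rw [h4, polar_smul_right, h.pair', smul_eq_mul, mul_one] at h6
    exact h6
  apply Subtype.ext
  rw [h4, h5, zero_smul]
  rfl

/-- Conjugation of `sg`. -/
theorem conj_sg (h : Hyp Q e f) {g : E Q} {c : F} (hge : (g : V ≃ₗ[F] V) e = c • e)
    (w w' : W Q e f) (hw : (w' : V) = c • (g : V ≃ₗ[F] V) w) : g * sg h w * g⁻¹ = sg h w' := by
  apply Subtype.ext
  have hgO : (g : V ≃ₗ[F] V) ∈ O Q := E_le_O g.2
  have hu : Q ((g : V ≃ₗ[F] V) e) = 0 := by rw [mem_O.1 hgO]; exact h.left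
  have hp : polar Q ((g : V ≃ₗ[F] V) e) ((g : V ≃ₗ[F] V) w) = 0 := by
    rw [polar_map hgO]; exact mem_W_e w
  have h1 := siegel_conj hgO h.left (mem_W_e w) hu hp
  rw [Subgroup.coe_mul, Subgroup.coe_mul, Subgroup.coe_inv, sg_coe, sg_coe, h1]
  ext v
  rw [siegel_apply, siegel_apply, hge, hw, QuadraticMap.map_smul]
  simp only [polar_smul_left, smul_eq_mul]
  module

/-! ### The action -/

/-- `Ω` with the action of `W`. -/
def Om (_h : Hyp Q e f) (Ω : Type*) : Type _ := Ω

variable {Ω : Type*}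

instance instFiniteOm (h : Hyp Q e f) [Finite Ω] : Finite (Om h Ω) :=
  inferInstanceAs (Finite Ω)

instance instMulActionOm (h : Hyp Q e f) [MulAction (E Q) Ω] : MulAction (E Q) (Om h Ω) :=
  inferInstanceAs (MulAction (E Q) Ω)

instance instAddActionOm (h : Hyp Q e f) [MulAction (E Q) Ω] :
    AddAction (W Q e f) (Om h Ω) where
  vadd w ω := sg h w • ω
  zero_vadd ω := by
    show sg h 0 • ω = ω
    rw [sg_zero, one_smul]
  add_vadd w w' ω := by
    show sg h (w + w') • ω = sg h w • sg h w' • ω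
    rw [sg_add, mul_smul]

theorem vadd_def (h : Hyp Q e f) [MulAction (E Q) Ω] (w : W Q e f) (ω : Om h Ω) :
    w +ᵥ ω = sg h w • ω := rfl

variable [Finite F] [Finite V] [Finite Ω] [MulAction (E Q) Ω] (h : Hyp Q e f)
  {ψ : AddChar F ℂ}

variable (ψ) in
/-- The annihilator of the stabiliser of `ω` in `Q_e`. -/
noncomputable def AA (ω : Ω) : AddSubgroup (W Q e f) := Dual.A ψ (bW Q e f) (show Om h Ω from ω)

theorem mem_AA {ω : Ω} {a : W Q e f} :
    a ∈ AA h ψ ω ↔ ∀ b : W Q e f, sg h b • ω = ω → ψ (polar Q (a : V) (b : V)) = 1 := Iff.rfl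

/-- Vectors annihilated by `AA ω` fix `ω`. -/
theorem smul_eq_of_ann (hQ : Nondeg Q) (hψ : ψ ≠ 0) {ω : Ω} {b : W Q e f}
    (hb : ∀ a ∈ AA h ψ ω, ψ (polar Q (a : V) (b : V)) = 1) : sg h b • ω = ω := by
  have h1 := Dual.ann_ann (ψ := ψ) (bW_nondeg hQ h) bW_symm hψ
    (AddAction.stabilizer (W Q e f) (show Om h Ω from ω))
  have h2 : b ∈ AddAction.stabilizer (W Q e f) (show Om h Ω from ω) := by
    rw [← h1]
    intro a ha
    rw [bW_symm]
    exact hb a ha
  exact h2

/-- The number of `Q_e`-orbits annihilated by `a`. -/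
noncomputable def mu (h : Hyp Q e f) (ψ : AddChar F ℂ) (Ω : Type*) [Finite Ω]
    [MulAction (E Q) Ω] (a : W Q e f) : ℕ := Dual.mult ψ (bW Q e f) (Om h Ω) a

theorem card_eq_sum_mu (hQ : Nondeg Q) (hψ : ψ ≠ 0) [Fintype (W Q e f)] :
    Nat.card Ω = ∑ a : W Q e f, mu h ψ Ω a :=
  Dual.card_eq_sum_mult (Ω := Om h Ω) (bW_nondeg hQ h) hψ

theorem mu_pos {ω : Ω} {a : W Q e f} (ha : a ∈ AA h ψ ω) : 0 < mu h ψ Ω a := by
  have : Nonempty {o : Dual.Orb (W Q e f) (Om h Ω) // a ∈ Dual.AO ψ (bW Q e f) o} :=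
    ⟨⟨Quotient.mk'' (show Om h Ω from ω), ha⟩⟩
  have : Finite (Dual.Orb (W Q e f) (Om h Ω)) := Quotient.finite _
  exact Nat.card_pos

theorem exists_of_mu_pos {a : W Q e f} (ha : 0 < mu h ψ Ω a) : ∃ ω : Ω, a ∈ AA h ψ ω := by
  rw [mu, Dual.mult, Nat.card_pos_iff] at ha
  obtain ⟨⟨⟨o, ho⟩⟩, -⟩ := ha
  induction o using Quotient.inductionOn' with
  | h ω => exact ⟨ω, ho⟩

/-! ### Equivariance -/

/-- `g ∈ E Q` with `g e = c e`, `g f = c⁻¹ f`. -/
structure Lev (e f : V) (g : E Q) (c : F) : Prop where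
  ne : c ≠ 0
  left : (g : V ≃ₗ[F] V) e = c • e
  right : (g : V ≃ₗ[F] V) f = c⁻¹ • f

theorem Lev.mem {g : E Q} {c : F} (hg : Lev e f g c) (d : F) (w : W Q e f) :
    d • (g : V ≃ₗ[F] V) w ∈ W Q e f := by
  have hgO : (g : V ≃ₗ[F] V) ∈ O Q := E_le_O g.2
  refine (W Q e f).smul_mem d (mem_W.2 ⟨?_, ?_⟩)
  · have h1 : polar Q ((g : V ≃ₗ[F] V) e) ((g : V ≃ₗ[F] V) w) = 0 := by
      rw [polar_map hgO]; exact mem_W_e w
    rw [hg.left, polar_smul_left, smul_eq_mul] at h1
    exact (mul_eq_zero.1 h1).resolve_left hg.ne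
  · have h1 : polar Q ((g : V ≃ₗ[F] V) f) ((g : V ≃ₗ[F] V) w) = 0 := by
      rw [polar_map hgO]; exact mem_W_f w
    rw [hg.right, polar_smul_left, smul_eq_mul] at h1
    exact (mul_eq_zero.1 h1).resolve_left (inv_ne_zero hg.ne)

theorem Lev.inv {g : E Q} {c : F} (hg : Lev e f g c) : Lev e f g⁻¹ c⁻¹ where
  ne := inv_ne_zero hg.ne
  left := by
    rw [Subgroup.coe_inv]
    apply ((g : V ≃ₗ[F] V).symm_apply_eq).2
    rw [map_smul, hg.left, smul_smul, inv_mul_cancel₀ hg.ne, one_smul]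
  right := by
    rw [Subgroup.coe_inv]
    apply ((g : V ≃ₗ[F] V).symm_apply_eq).2
    rw [map_smul, hg.right, inv_inv, smul_smul, mul_inv_cancel₀ hg.ne, one_smul]

/-- The map `w ↦ d • g w` of `W`. -/
def Lev.equiv {g : E Q} {c : F} (hg : Lev e f g c) (d : F) (hd : d ≠ 0) : W Q e f ≃ W Q e f where
  toFun w := ⟨d • (g : V ≃ₗ[F] V) w, hg.mem d w⟩
  invFun w := ⟨d⁻¹ • ((g⁻¹ : E Q) : V ≃ₗ[F] V) w, hg.inv.mem d⁻¹ w⟩
  left_inv w := by
    apply Subtype.ext
    show d⁻¹ • ((g : V ≃ₗ[F] V)⁻¹ (d • (g : V ≃ₗ[F] V) w)) = (w : V)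
    rw [map_smul, smul_smul, inv_mul_cancel₀ hd, one_smul]
    exact (g : V ≃ₗ[F] V).symm_apply_apply _
  right_inv w := by
    apply Subtype.ext
    show d • (g : V ≃ₗ[F] V) (d⁻¹ • ((g : V ≃ₗ[F] V)⁻¹ (w : V))) = (w : V)
    rw [map_smul, smul_smul, mul_inv_cancel₀ hd, one_smul]
    exact (g : V ≃ₗ[F] V).apply_symm_apply _

theorem Lev.equiv_coe {g : E Q} {c : F} (hg : Lev e f g c) (d : F) (hd : d ≠ 0) (w : W Q e f) :
    (hg.equiv d hd w : V) = d • (g : V ≃ₗ[F] V) w := rfl

theorem Lev.vadd {g : E Q} {c : F} (hg : Lev e f g c) (w : W Q e f) (ω : Om h Ω) :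
    g • (w +ᵥ ω) = hg.equiv c hg.ne w +ᵥ g • ω := by
  rw [vadd_def, vadd_def, ← conj_sg h hg.left w (hg.equiv c hg.ne w) rfl, mul_smul, mul_smul,
    inv_smul_smul]

theorem Lev.bW {g : E Q} {c : F} (hg : Lev e f g c) (a b : W Q e f) :
    bW Q e f (hg.equiv c⁻¹ (inv_ne_zero hg.ne) a) (hg.equiv c hg.ne b) = bW Q e f a b := by
  rw [bW_apply, bW_apply, Lev.equiv_coe, Lev.equiv_coe, polar_smul_left, polar_smul_right,
    polar_map (E_le_O g.2), smul_smul, inv_mul_cancel₀ hg.ne, one_smul]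

theorem Lev.mem_AA {g : E Q} {c : F} (hg : Lev e f g c) {a : W Q e f} {ω : Ω} :
    hg.equiv c⁻¹ (inv_ne_zero hg.ne) a ∈ AA h ψ (g • ω) ↔ a ∈ AA h ψ ω :=
  Dual.mem_A_image (Ω := Om h Ω) (MulAction.toPerm g) (hg.equiv c hg.ne)
    (hg.equiv c⁻¹ (inv_ne_zero hg.ne)) (hg.vadd h) hg.bW a ω

theorem Lev.mu {g : E Q} {c : F} (hg : Lev e f g c) (a : W Q e f) :
    mu h ψ Ω (hg.equiv c⁻¹ (inv_ne_zero hg.ne) a) = mu h ψ Ω a :=
  Dual.mult_equivariant (Ω := Om h Ω) (MulAction.toPerm g) (hg.equiv c hg.ne)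
    (hg.equiv c⁻¹ (inv_ne_zero hg.ne)) (hg.vadd h) hg.bW a

/-- `mu` depends only on `Q a` up to squares. -/
theorem mu_congr (hG : Good Q) (hd : 6 ≤ Module.finrank F V) {a b : W Q e f} (ha : a ≠ 0)
    (hb : b ≠ 0) {r : F} (hr : r ≠ 0) (hab : Q (b : V) = r * r * Q (a : V)) :
    mu h ψ Ω b = mu h ψ Ω a := by
  have ha0 : (a : V) ≠ 0 := fun h0 => ha (Subtype.ext h0)
  have hb0 : (b : V) ≠ 0 := fun h0 => hb (Subtype.ext h0)
  have h1 : Hyp Q (r⁻¹ • e) (r • f) := by
    refine ⟨?_, ?_, ?_⟩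
    · rw [QuadraticMap.map_smul, h.left, smul_zero]
    · rw [QuadraticMap.map_smul, h.right, smul_zero]
    · rw [polar_smul_left, polar_smul_right, h.pair, smul_eq_mul, smul_eq_mul, mul_one,
        inv_mul_cancel₀ hr]
  obtain ⟨g, hgE, hge, hgf, hga⟩ := exists_map_triple hG hd h (mem_W_e a) (mem_W_f a) ha0 h1
    (a' := r⁻¹ • (b : V))
    (by rw [polar_smul_left, polar_smul_right, mem_W_e, smul_zero, smul_zero])
    (by rw [polar_smul_left, polar_smul_right, mem_W_f, smul_zero, smul_zero])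
    (smul_ne_zero (inv_ne_zero hr) hb0)
    (by rw [QuadraticMap.map_smul, hab, smul_eq_mul]; field_simp)
  have hg : Lev (Q := Q) e f ⟨g, hgE⟩ r⁻¹ :=
    ⟨inv_ne_zero hr, hge, by rw [inv_inv]; exact hgf⟩
  have h2 := hg.mu (Ω := Ω) h (ψ := ψ) a
  rw [← h2]
  congr 1
  apply Subtype.ext
  rw [Lev.equiv_coe]
  show (b : V) = r⁻¹⁻¹ • g (a : V)
  rw [hga, inv_inv, smul_smul, mul_inv_cancel₀ hr, one_smul]

/-! ### Perfect groups fixing `a` -/

variable (Q e f) in
/-- The subgroup of `E Q` fixing `e`, `f`, `a`. -/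
def Fx (a : V) : Subgroup (E Q) where
  carrier := {g | (g : V ≃ₗ[F] V) e = e ∧ (g : V ≃ₗ[F] V) f = f ∧ (g : V ≃ₗ[F] V) a = a}
  mul_mem' := by
    rintro x y ⟨h1, h2, h3⟩ ⟨h1', h2', h3'⟩
    refine ⟨?_, ?_, ?_⟩
    · show (x : V ≃ₗ[F] V) ((y : V ≃ₗ[F] V) e) = e
      rw [h1', h1]
    · show (x : V ≃ₗ[F] V) ((y : V ≃ₗ[F] V) f) = f
      rw [h2', h2]
    · show (x : V ≃ₗ[F] V) ((y : V ≃ₗ[F] V) a) = a
      rw [h3', h3]
  one_mem' := ⟨rfl, rfl, rfl⟩
  inv_mem' := by
    rintro x ⟨h1, h2, h3⟩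
    exact ⟨(x : V ≃ₗ[F] V).symm_apply_eq.2 h1.symm, (x : V ≃ₗ[F] V).symm_apply_eq.2 h2.symm,
      (x : V ≃ₗ[F] V).symm_apply_eq.2 h3.symm⟩

theorem mem_Fx {a : V} {g : E Q} : g ∈ Fx Q e f a ↔
    (g : V ≃ₗ[F] V) e = e ∧ (g : V ≃ₗ[F] V) f = f ∧ (g : V ≃ₗ[F] V) a = a := Iff.rfl

theorem lev_of_mem {a : V} {g : E Q} (hg : g ∈ Fx Q e f a) : Lev e f g 1 :=
  ⟨one_ne_zero, by rw [one_smul]; exact hg.1, by rw [inv_one, one_smul]; exact hg.2.1⟩

/-- The orbits annihilated by `a`. -/
abbrev Sa (ψ : AddChar F ℂ) (Ω : Type*) [Finite Ω] [MulAction (E Q) Ω] (a : W Q e f) : Type _ :=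
  {o : Dual.Orb (W Q e f) (Om h Ω) // a ∈ Dual.AO ψ (bW Q e f) o}

theorem equiv_one_of_mem {a : W Q e f} {g : E Q} (hg : g ∈ Fx Q e f a) :
    (lev_of_mem hg).equiv 1⁻¹ (inv_ne_zero one_ne_zero) a = a := by
  apply Subtype.ext
  rw [Lev.equiv_coe, inv_one, one_smul]
  exact hg.2.2

/-- The action of `Fx a` on the orbits annihilated by `a`. -/
noncomputable instance instMulActionSa (a : W Q e f) : MulAction (Fx Q e f (a : V)) (Sa h ψ Ω a) where
  smul g o := ⟨Dual.orbPerm (MulAction.toPerm (g : E Q)) ((lev_of_mem g.2).equiv 1 one_ne_zero)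
    ((lev_of_mem g.2).vadd h) o.1, by
      have h1 := (Dual.mem_AO_image (ψ := ψ) (β := bW Q e f) (Ω := Om h Ω)
        (MulAction.toPerm (g : E Q))
        ((lev_of_mem g.2).equiv 1 one_ne_zero)
        ((lev_of_mem g.2).equiv 1⁻¹ (inv_ne_zero one_ne_zero)) ((lev_of_mem g.2).vadd h)
        (lev_of_mem g.2).bW a o.1).2 o.2
      rw [equiv_one_of_mem g.2] at h1
      exact h1⟩
  one_smul o := by
    obtain ⟨o, ho⟩ := o
    apply Subtype.ext
    induction o using Quotient.inductionOn' with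
    | h ω =>
      show (Quotient.mk'' ((1 : E Q) • ω) : Dual.Orb (W Q e f) (Om h Ω)) = Quotient.mk'' ω
      rw [one_smul]
  mul_smul x y o := by
    obtain ⟨o, ho⟩ := o
    apply Subtype.ext
    induction o using Quotient.inductionOn' with
    | h ω =>
      show (Quotient.mk'' (((x : E Q) * (y : E Q)) • ω) : Dual.Orb (W Q e f) (Om h Ω)) =
        Quotient.mk'' ((x : E Q) • (y : E Q) • ω)
      rw [mul_smul]

/-- **Key lemma A**: if at most four orbits are annihilated by `a`, a perfect group fixing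
`e, f, a` stabilises `AA ω`, `a ∈ AA ω`. -/
theorem stable {a : W Q e f} (X : Subgroup (Fx Q e f (a : V))) (hX : ⁅X, X⁆ = X)
    (hm : mu h ψ Ω a ≤ 4) {ω : Ω} (ha : a ∈ AA h ψ ω) {x : Fx Q e f (a : V)} (hx : x ∈ X)
    {b b' : W Q e f} (hb : b ∈ AA h ψ ω) (hb' : (b' : V) = ((x : E Q) : V ≃ₗ[F] V) b) :
    b' ∈ AA h ψ ω := by
  have : Finite (Dual.Orb (W Q e f) (Om h Ω)) := Quotient.finite _
  have h1 : Nat.card (Sa h ψ Ω a) ≤ 4 := hm
  have h2 := PermFour.smul_eq (Y := Sa h ψ Ω a) X hX h1 hx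
    ⟨Quotient.mk'' (show Om h Ω from ω), ha⟩
  have h3 : (Quotient.mk'' ((x : E Q) • (show Om h Ω from ω)) : Dual.Orb (W Q e f) (Om h Ω)) =
      Quotient.mk'' (show Om h Ω from ω) := congrArg Subtype.val h2
  have h4 : AA h ψ ((x : E Q) • ω) = AA h ψ ω := by
    have h5 := congrArg (Dual.AO ψ (bW Q e f)) h3
    exact h5
  rw [← h4]
  have h5 := ((lev_of_mem x.2).mem_AA (Ω := Ω) h (ψ := ψ) (a := b) (ω := ω)).2 hb
  have h6 : (lev_of_mem x.2).equiv 1⁻¹ (inv_ne_zero one_ne_zero) b = b' := by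
    apply Subtype.ext
    rw [Lev.equiv_coe, inv_one, one_smul, hb']
  rw [← h6]
  exact h5

end Cfsg.Agent.H76.Act
end

-- part: H76/Alg
section
/-!
# Additive subgroups invariant under Siegel transformations

`A` an additive subgroup of `W = ⟨e, f⟩^⊥`, `a ∈ A` nonsingular, `V_a = ⟨e, f, a⟩^⊥`. If `A` is
invariant under the Siegel transformations `siegel x w`, `x, w ∈ V_a`, and `A` is not contained in
`F a`, then `V_a ≤ A` (`le_odd`, `le_even`, and `le_two` with fewer Siegel transformations).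
`eq_top` : if this holds for all nonsingular `a ∈ A`, then `A = W`.
-/

set_option autoImplicit false
set_option linter.unusedSectionVars false

namespace Cfsg.Agent.H76.Alg

open QuadraticMap Cfsg.Agent.LieClassical.OrthCore Cfsg.Agent.LieClassical.OrthTrans
open Cfsg.Agent.H76.Trans Cfsg.Agent.LieClassical.OrthFinite

variable {F V : Type*} [Field F] [AddCommGroup V] [Module F V] {Q : QuadraticForm F V}

/-- orthogonal to `e, f, a` -/
structure Pa (Q : QuadraticForm F V) (e f a x : V) : Prop where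
  e : polar Q e x = 0
  f : polar Q f x = 0
  a : polar Q a x = 0

variable {e f a : V}

theorem Pa.add {x y : V} (hx : Pa Q e f a x) (hy : Pa Q e f a y) : Pa Q e f a (x + y) :=
  ⟨by rw [polar_add_right, hx.e, hy.e, add_zero], by rw [polar_add_right, hx.f, hy.f, add_zero],
    by rw [polar_add_right, hx.a, hy.a, add_zero]⟩

theorem Pa.smul {x : V} (hx : Pa Q e f a x) (c : F) : Pa Q e f a (c • x) :=
  ⟨by rw [polar_smul_right, hx.e, smul_zero], by rw [polar_smul_right, hx.f, smul_zero],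
    by rw [polar_smul_right, hx.a, smul_zero]⟩

theorem Pa.sub {x y : V} (hx : Pa Q e f a x) (hy : Pa Q e f a y) : Pa Q e f a (x - y) := by
  have := hx.add (hy.smul (-1))
  rwa [neg_one_smul, ← sub_eq_add_neg] at this

theorem Pa.a' {x : V} (hx : Pa Q e f a x) : polar Q x a = 0 := by rw [polar_comm]; exact hx.a

theorem Pa.e' {x : V} (hx : Pa Q e f a x) : polar Q x e = 0 := by rw [polar_comm]; exact hx.e

theorem Pa.f' {x : V} (hx : Pa Q e f a x) : polar Q x f = 0 := by rw [polar_comm]; exact hx.f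

theorem Pa.perp_span {x z : V} (hz : ∀ w ∈ Submodule.span F ({e, f, a} : Set V), polar Q w z = 0) :
    Pa Q e f a z :=
  ⟨hz e (Submodule.subset_span (by simp)), hz f (Submodule.subset_span (by simp)),
    hz a (Submodule.subset_span (by simp))⟩

/-- the Siegel formula -/
def sf (Q : QuadraticForm F V) (x w b : V) : V :=
  b + polar Q x b • w - polar Q w b • x - (Q w * polar Q x b) • x

/-- `A` is invariant under the Siegel transformations of `V_a`. -/
def Inv (Q : QuadraticForm F V) (e f a : V) (A : AddSubgroup V) : Prop :=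
  ∀ x w, Pa Q e f a x → Pa Q e f a w → Q x = 0 → polar Q x w = 0 → ∀ b ∈ A, sf Q x w b ∈ A

section Fin

variable [Finite F] [Finite V]

/-- vectors of `W` orthogonal to `V_a` are multiples of `a` -/
theorem exists_smul_of_perp (hQ : Nondeg Q) (h : Hyp Q e f) (ha : polar Q e a = 0)
    (ha' : polar Q f a = 0) {u : V} (hu : polar Q e u = 0) (hu' : polar Q f u = 0)
    (hp : ∀ z, Pa Q e f a z → polar Q u z = 0) : ∃ c : F, u = c • a := by
  by_cases hmem : u ∈ Submodule.span F ({e, f, a} : Set V)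
  · exact mem_span_of_perp h ha ha' hmem hu hu'
  · obtain ⟨z, hz, hz2⟩ := exists_sep_sub hQ hmem
    have := hp z (Pa.perp_span (x := z) hz2)
    rw [hz] at this
    exact absurd this one_ne_zero

/-- a partner in `V_a` of a singular vector of `V_a` -/
theorem exists_partner (hQ : Nondeg Q) (h : Hyp Q e f) (ha : polar Q e a = 0)
    (ha' : polar Q f a = 0) (hQa : Q a ≠ 0) {x : V} (hx : Pa Q e f a x) (hx0 : x ≠ 0)
    (hxs : Q x = 0) : ∃ y, Pa Q e f a y ∧ Hyp Q x y := by
  have hmem : x ∉ Submodule.span F ({e, f, a} : Set V) := by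
    intro hmem
    obtain ⟨c, rfl⟩ := mem_span_of_perp h ha ha' hmem hx.e hx.f
    rw [QuadraticMap.map_smul, smul_eq_mul] at hxs
    rcases mul_eq_zero.1 hxs with hc | hc
    · rw [mul_self_eq_zero.1 hc, zero_smul] at hx0
      exact hx0 rfl
    · exact hQa hc
  obtain ⟨z, hz, hz2⟩ := exists_sep_sub hQ hmem
  have hPz : Pa Q e f a z := Pa.perp_span (x := z) hz2
  refine ⟨z - Q z • x, hPz.sub (hx.smul _), hxs, ?_, ?_⟩
  · rw [sub_eq_add_neg, ← neg_smul, Q_add, QuadraticMap.map_smul, hxs, polar_smul_right,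
      polar_comm Q z x, hz]
    simp
  · rw [polar_sub_right, polar_smul_right, hz, polar_self_of_sing hxs, smul_zero, sub_zero]

theorem exists_sing (hd : 6 ≤ Module.finrank F V) (e f a : V) :
    ∃ x, Pa Q e f a x ∧ x ≠ 0 ∧ Q x = 0 := by
  obtain ⟨x, hx0, hx, h⟩ := exists_sing_perp (Q := Q) ![e, f, a] (by omega)
  exact ⟨x, ⟨h 0, h 1, h 2⟩, hx0, hx⟩

theorem exists_hypPa (hQ : Nondeg Q) (hd : 6 ≤ Module.finrank F V) (h : Hyp Q e f)
    (ha : polar Q e a = 0) (ha' : polar Q f a = 0) (hQa : Q a ≠ 0) :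
    ∃ x y, Pa Q e f a x ∧ Pa Q e f a y ∧ Hyp Q x y := by
  obtain ⟨x, hx, hx0, hxs⟩ := exists_sing (Q := Q) hd e f a
  obtain ⟨y, hy, hxy⟩ := exists_partner hQ h ha ha' hQa hx hx0 hxs
  exact ⟨x, y, hx, hy, hxy⟩

/-- a singular vector of `V_a` not orthogonal to `u ∈ W`, `u ∉ F a` -/
theorem exists_sing_ne (hQ : Nondeg Q) (hd : 6 ≤ Module.finrank F V) (h : Hyp Q e f)
    (ha : polar Q e a = 0) (ha' : polar Q f a = 0) (hQa : Q a ≠ 0) {u : V}
    (hu : polar Q e u = 0) (hu' : polar Q f u = 0) (hne : ∀ c : F, u ≠ c • a) :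
    ∃ x, Pa Q e f a x ∧ Q x = 0 ∧ polar Q x u ≠ 0 := by
  by_contra hcon
  push Not at hcon
  obtain ⟨x0, y0, hx, hy, hxy⟩ := exists_hypPa hQ hd h ha ha' hQa
  obtain ⟨c, hc⟩ := exists_smul_of_perp hQ h ha ha' hu hu' (by
    intro v hv
    set v' := v - polar Q y0 v • x0 - polar Q x0 v • y0 with hv'
    have hPv' : Pa Q e f a v' := (hv.sub (hx.smul _)).sub (hy.smul _)
    have h1 : polar Q x0 v' = 0 := polar_proj_left hxy v
    have h2 : polar Q y0 v' = 0 := polar_proj_right hxy v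
    have h3 := hcon _ ((hx.add hPv').sub (hy.smul (Q v'))) (sing_vec hxy h1 h2)
    rw [polar_sub_left, polar_add_left, polar_smul_left, hcon _ hx hxy.left,
      hcon _ hy hxy.right, smul_zero, zero_add, sub_zero] at h3
    have h4 : v = v' + polar Q y0 v • x0 + polar Q x0 v • y0 := by
      rw [hv']; abel
    rw [polar_comm, h4, polar_add_left, polar_add_left, polar_smul_left, polar_smul_left, h3,
      hcon _ hx hxy.left, hcon _ hy hxy.right, smul_zero, smul_zero, add_zero, add_zero])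
  exact hne c hc

/-- a nonsingular vector of `V_a` orthogonal to a hyperbolic pair, `2 ≠ 0` -/
theorem exists_nonsing_odd (hQ : Nondeg Q) (hd : 6 ≤ Module.finrank F V) (h2 : (2 : F) ≠ 0)
    (h : Hyp Q e f) (ha : polar Q e a = 0) (ha' : polar Q f a = 0) (hQa : Q a ≠ 0) {x y : V}
    (hx : Pa Q e f a x) (hy : Pa Q e f a y) (hxy : Hyp Q x y) :
    ∃ w, Pa Q e f a w ∧ polar Q x w = 0 ∧ polar Q y w = 0 ∧ Q w ≠ 0 := by
  obtain ⟨w, hw0, hw⟩ := exists_perp_ne (Q := Q) ![e, f, a, x, y] (by omega)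
  have hwe : polar Q e w = 0 := hw 0
  have hwf : polar Q f w = 0 := hw 1
  have hwa : polar Q a w = 0 := hw 2
  have hwx : polar Q x w = 0 := hw 3
  have hwy : polar Q y w = 0 := hw 4
  have hnot : w ∉ Submodule.span F ({e, f, a, x, y} : Set V) := by
    intro hmem
    rw [Submodule.mem_span_insert] at hmem
    obtain ⟨α, z, hz, hwz⟩ := hmem
    rw [Submodule.mem_span_insert] at hz
    obtain ⟨β, z', hz', hzz⟩ := hz
    rw [Submodule.mem_span_insert] at hz'
    obtain ⟨γ, z'', hz'', hzz'⟩ := hz'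
    rw [Submodule.mem_span_pair] at hz''
    obtain ⟨δ, ε, rfl⟩ := hz''
    subst hzz' hzz
    have e1 : β = 0 := by
      have := hwe
      rw [hwz] at this
      simpa only [polar_add_right, polar_smul_right, h.polar_left, h.pair, ha, hx.e, hy.e,
        smul_eq_mul, mul_zero, add_zero, zero_add, mul_one] using this
    have e2 : α = 0 := by
      have := hwf
      rw [hwz] at this
      simpa only [polar_add_right, polar_smul_right, h.polar_right, h.pair', ha', hx.f, hy.f,
        smul_eq_mul, mul_zero, add_zero, mul_one] using this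
    have e3 : γ = 0 := by
      have := hwa
      rw [hwz] at this
      simp only [e1, e2, zero_smul, zero_add, polar_add_right, polar_smul_right, hx.a, hy.a,
        smul_eq_mul, mul_zero, add_zero, polar_self'] at this
      exact (mul_eq_zero.1 this).resolve_right (mul_ne_zero h2 hQa)
    have e4 : ε = 0 := by
      have := hwx
      rw [hwz] at this
      simpa only [e1, e2, e3, zero_smul, zero_add, polar_add_right, polar_smul_right,
        hxy.polar_left, hxy.pair, smul_eq_mul, mul_zero, mul_one] using this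
    have e5 : δ = 0 := by
      have := hwy
      rw [hwz] at this
      simpa only [e1, e2, e3, e4, zero_smul, zero_add, add_zero, polar_add_right,
        polar_smul_right, hxy.polar_right, hxy.pair', smul_eq_mul, mul_zero, mul_one] using this
    apply hw0
    rw [hwz, e1, e2, e3, e4, e5]
    simp
  obtain ⟨b, hb, hbX⟩ := exists_nonsing_perp_sub hQ hnot (by
    intro v hv
    refine Submodule.span_induction (p := fun v _ => polar Q v w = 0) ?_ ?_ ?_ ?_ hv
    · rintro z (rfl | rfl | rfl | rfl | rfl) <;> assumption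
    · exact QuadraticMap.polar_zero_left Q w
    · intro y z _ _ hy hz
      rw [polar_add_left, hy, hz, add_zero]
    · intro c y _ hy
      rw [polar_smul_left, hy, smul_zero])
  exact ⟨b, ⟨hbX e (Submodule.subset_span (by simp)), hbX f (Submodule.subset_span (by simp)),
    hbX a (Submodule.subset_span (by simp))⟩, hbX x (Submodule.subset_span (by simp)),
    hbX y (Submodule.subset_span (by simp)), hb⟩

/-- closing argument: a hyperbolic pair of `V_a` in `A` with `F x ≤ A`, `F y ≤ A` and the rest -/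
theorem le_of_pair {A : AddSubgroup V} {x y : V} (hx : Pa Q e f a x) (hy : Pa Q e f a y)
    (hxy : Hyp Q x y) (h1 : ∀ t : F, t • x ∈ A) (h2 : ∀ t : F, t • y ∈ A)
    (h3 : ∀ w, Pa Q e f a w → polar Q x w = 0 → polar Q y w = 0 → w ∈ A) {v : V}
    (hv : Pa Q e f a v) : v ∈ A := by
  set v' := v - polar Q y v • x - polar Q x v • y with hv'
  have hPv' : Pa Q e f a v' := (hv.sub (hx.smul _)).sub (hy.smul _)
  have h4 := h3 v' hPv' (polar_proj_left hxy v) (polar_proj_right hxy v)
  have h5 : v = v' + polar Q y v • x + polar Q x v • y := by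
    rw [hv']; abel
  rw [h5]
  exact A.add_mem (A.add_mem h4 (h1 _)) (h2 _)

theorem inv_perp {A : AddSubgroup V} (hA : Inv Q e f a A) {x y : V} (hx : Pa Q e f a x)
    (hxy : Hyp Q x y) (h1 : ∀ t : F, t • x ∈ A) (h2 : ∀ t : F, t • y ∈ A) :
    ∀ w, Pa Q e f a w → polar Q x w = 0 → polar Q y w = 0 → w ∈ A := by
  intro w hw hxw hyw
  have hyA : y ∈ A := by simpa using h2 1
  have h3 := hA x w hx hw hxy.left hxw y hyA
  rw [sf, hxy.pair, polar_comm Q w y, hyw, one_smul, zero_smul, sub_zero, mul_one] at h3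
  have h4 : w = (y + w - Q w • x) - y + Q w • x := by abel
  rw [h4]
  exact A.add_mem (A.sub_mem h3 hyA) (h1 _)

/-- **`V_a ≤ A`, odd characteristic.** -/
theorem le_odd (hQ : Nondeg Q) (hd : 6 ≤ Module.finrank F V) (htwo : (2 : F) ≠ 0)
    (h : Hyp Q e f) (ha : polar Q e a = 0) (ha' : polar Q f a = 0) (hQa : Q a ≠ 0)
    {A : AddSubgroup V} (hA : Inv Q e f a A) {b : V} (hb : b ∈ A)
    (hbe : polar Q e b = 0) (hbf : polar Q f b = 0) (hne : ∀ c : F, b ≠ c • a) {v : V}
    (hv : Pa Q e f a v) : v ∈ A := by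
  -- step 1
  have step : ∀ (b x : V), b ∈ A → Pa Q e f a x → Q x = 0 → polar Q x b ≠ 0 →
      ∀ t : F, t • x ∈ A := by
    intro b x hb hx hxs hxb
    have hx0 : x ≠ 0 := by
      rintro rfl
      exact hxb (QuadraticMap.polar_zero_left Q b)
    obtain ⟨y, hy, hxy⟩ := exists_partner hQ h ha ha' hQa hx hx0 hxs
    obtain ⟨w, hw, hxw, hyw, hQw⟩ := exists_nonsing_odd hQ hd htwo h ha ha' hQa hx hy hxy
    have h1 : ∀ l : F, (-(2 * (l * l) * Q w * polar Q x b)) • x ∈ A := by
      intro l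
      have h2 := hA x (l • w) hx (hw.smul l) hxs (by rw [polar_smul_right, hxw, smul_zero]) b hb
      have h3 := hA x ((-l) • w) hx (hw.smul (-l)) hxs
        (by rw [polar_smul_right, hxw, smul_zero]) b hb
      have h4 := A.sub_mem (A.sub_mem (A.add_mem h2 h3) hb) hb
      convert h4 using 1
      rw [sf, sf, QuadraticMap.map_smul, QuadraticMap.map_smul, polar_smul_left, polar_smul_left]
      simp only [smul_eq_mul]
      module
    intro t
    have hk : 2 * Q w * polar Q x b ≠ 0 := mul_ne_zero (mul_ne_zero htwo hQw) hxb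
    set k := 2 * Q w * polar Q x b with hkd
    have h5 : ∀ l : F, (2 * l * k) • x ∈ A := by
      intro l
      have h6 := A.sub_mem (A.add_mem (h1 l) (h1 1)) (h1 (l + 1))
      convert h6 using 1
      rw [hkd]
      module
    have h7 := h5 (t / (2 * k))
    have h8 : 2 * (t / (2 * k)) * k = t := by
      field_simp
    rwa [h8] at h7
  obtain ⟨x, hx, hxs, hxb⟩ := exists_sing_ne hQ hd h ha ha' hQa hbe hbf hne
  have h1 := step b x hb hx hxs hxb
  have hx0 : x ≠ 0 := by
    rintro rfl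
    exact hxb (QuadraticMap.polar_zero_left Q b)
  obtain ⟨y, hy, hxy⟩ := exists_partner hQ h ha ha' hQa hx hx0 hxs
  have hxA : x ∈ A := by simpa using h1 1
  have h2 := step x y hxA hy hxy.right (by rw [hxy.pair']; exact one_ne_zero)
  exact le_of_pair hx hy hxy h1 h2 (inv_perp hA hx hxy h1 h2) hv

/-- **`V_a ≤ A`, characteristic two, at least four elements.** -/
theorem le_even (hQ : Nondeg Q) (hd : 6 ≤ Module.finrank F V) (htwo : (2 : F) = 0)
    {m : F} (hm0 : m ≠ 0) (hm1 : m ≠ 1)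
    (h : Hyp Q e f) (ha : polar Q e a = 0) (ha' : polar Q f a = 0) (hQa : Q a ≠ 0)
    {A : AddSubgroup V} (hA : Inv Q e f a A) {b : V} (hb : b ∈ A)
    (hbe : polar Q e b = 0) (hbf : polar Q f b = 0) (hne : ∀ c : F, b ≠ c • a) {v : V}
    (hv : Pa Q e f a v) : v ∈ A := by
  have haa : Pa Q e f a a := ⟨ha, ha', by rw [polar_self', htwo, zero_mul]⟩
  -- the basic consequence of invariance
  have base : ∀ (b x : V), b ∈ A → Pa Q e f a x → Q x = 0 → ∀ l : F,
      (l * polar Q x b) • a - (l * polar Q a b + l * l * Q a * polar Q x b) • x ∈ A := by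
    intro b x hb hx hxs l
    have h2 := hA x (l • a) hx (haa.smul l) hxs (by rw [polar_smul_right, hx.a', smul_zero]) b hb
    have h4 := A.sub_mem h2 hb
    convert h4 using 1
    rw [sf, QuadraticMap.map_smul, polar_smul_left]
    simp only [smul_eq_mul]
    module
  -- step 1
  obtain ⟨b1, hb1, hb1P, hb1ne⟩ : ∃ b1 ∈ A, Pa Q e f a b1 ∧ ∀ c : F, b1 ≠ c • a := by
    by_cases hab : polar Q a b = 0
    · exact ⟨b, hb, ⟨hbe, hbf, hab⟩, hne⟩
    · obtain ⟨x, hx, hxs, hxb⟩ := exists_sing_ne hQ hd h ha ha' hQa hbe hbf hne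
      have hx0 : x ≠ 0 := by
        rintro rfl
        exact hxb (QuadraticMap.polar_zero_left Q b)
      obtain ⟨l, hl0, hl⟩ : ∃ l : F, l ≠ 0 ∧ polar Q a b + l * Q a * polar Q x b ≠ 0 := by
        by_cases h1 : polar Q a b + 1 * Q a * polar Q x b = 0
        · refine ⟨m, hm0, fun h2 => ?_⟩
          have h3 : (m - 1) * (Q a * polar Q x b) = 0 := by linear_combination h2 - h1
          rcases mul_eq_zero.1 h3 with h4 | h4
          · exact hm1 (sub_eq_zero.1 h4)
          · exact (mul_ne_zero hQa hxb) h4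
        · exact ⟨1, one_ne_zero, h1⟩
      refine ⟨_, base b x hb hx hxs l, (haa.smul _).sub (hx.smul _), ?_⟩
      intro c hc
      obtain ⟨y, hy, hxy⟩ := exists_partner hQ h ha ha' hQa hx hx0 hxs
      have h5 := congrArg (polar Q y) hc
      rw [polar_sub_right, polar_smul_right, polar_smul_right, polar_smul_right, hy.a',
        hxy.pair', smul_eq_mul, smul_eq_mul, smul_eq_mul, mul_zero, zero_sub, mul_zero, mul_one,
        neg_eq_zero] at h5
      have h6 : l * (polar Q a b + l * Q a * polar Q x b) = 0 := by linear_combination h5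
      exact (mul_ne_zero hl0 hl) h6
  -- step 2
  obtain ⟨y, hy, hys, hyb⟩ := exists_sing_ne hQ hd h ha ha' hQa hb1P.e hb1P.f hb1ne
  have hy0 : y ≠ 0 := by
    rintro rfl
    exact hyb (QuadraticMap.polar_zero_left Q b1)
  obtain ⟨x, hx, hyx⟩ := exists_partner hQ h ha ha' hQa hy hy0 hys
  have hxy := hyx.symm
  have key : ∀ (d : F), d ≠ 0 → ∀ t : F,
      t • a - (t * t * Q a / (d * d * (Q a * polar Q y b1))) • x ∈ A := by
    intro d hd0 t
    have h1 := base b1 y hb1 hy hys d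
    rw [hb1P.a, mul_zero, zero_add] at h1
    set b2 := (d * polar Q y b1) • a - (d * d * Q a * polar Q y b1) • y with hb2
    have hxb2 : polar Q x b2 = d * d * Q a * polar Q y b1 := by
      rw [hb2, polar_sub_right, polar_smul_right, polar_smul_right, hx.a', hxy.pair,
        smul_eq_mul, smul_eq_mul, mul_zero, zero_sub, mul_one]
      have : -(1 : F) = 1 := by linear_combination (-(1 : F)) * htwo
      linear_combination (d * d * Q a * polar Q y b1) * this
    have hab2 : polar Q a b2 = 0 := by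
      rw [hb2, polar_sub_right, polar_smul_right, polar_smul_right, haa.a, hy.a, smul_zero,
        smul_zero, sub_zero]
    have hne0 : d * d * Q a * polar Q y b1 ≠ 0 :=
      mul_ne_zero (mul_ne_zero (mul_ne_zero hd0 hd0) hQa) hyb
    have h2 := base b2 x h1 hx hxy.left (t / (d * d * Q a * polar Q y b1))
    rw [hxb2, hab2, mul_zero, zero_add, div_mul_cancel₀ _ hne0] at h2
    convert h2 using 3
    field_simp
  have hmm : m * m ≠ 1 := by
    intro h1
    have h2 : (m - 1) * (m - 1) = 0 := by linear_combination h1 - (m - 1) * htwo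
    exact hm1 (sub_eq_zero.1 (mul_self_eq_zero.1 h2))
  have hFx : ∀ t : F, t • x ∈ A := by
    intro t
    set p := Q a * polar Q y b1 with hp
    have hp0 : p ≠ 0 := mul_ne_zero hQa hyb
    have hco : Q a / (m * m * p) - Q a / p ≠ 0 := by
      intro h1
      have h2 : Q a * (1 - m * m) = 0 := by
        field_simp at h1
        linear_combination h1
      rcases mul_eq_zero.1 h2 with h3 | h3
      · exact hQa h3
      · exact hmm (by linear_combination -h3)
    obtain ⟨s, hs⟩ := exists_sq_of_char_two htwo (t / (Q a / (m * m * p) - Q a / p))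
    have h1 := A.sub_mem (key 1 one_ne_zero s) (key m hm0 s)
    convert h1 using 1
    have h2 : t = s * s * (Q a / (m * m * p) - Q a / p) := by
      rw [hs, div_mul_cancel₀ _ hco]
    rw [h2]
    simp only [mul_one, one_mul]
    match_scalars
    · ring
    · ring
  have hFa : ∀ t : F, t • a ∈ A := by
    intro t
    have h1 := A.add_mem (key 1 one_ne_zero t)
      (hFx (t * t * Q a / (1 * 1 * (Q a * polar Q y b1))))
    convert h1 using 1
    abel
  have hxA : x ∈ A := by simpa using hFx 1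
  have hFy : ∀ t : F, t • y ∈ A := by
    intro t
    obtain ⟨s, hs⟩ := exists_sq_of_char_two htwo (t / Q a)
    have h1 := base x y hxA hy hys s
    rw [hyx.pair, hx.a, mul_zero, zero_add, mul_one, mul_one, hs, div_mul_cancel₀ _ hQa] at h1
    have h2 := A.sub_mem (hFa s) h1
    convert h2 using 1
    abel
  exact le_of_pair hx hy hxy hFx hFy (inv_perp hA hx hxy hFx hFy) hv

/-- Invariance under fewer Siegel transformations (for the field with two elements). -/
def InvTwo (Q : QuadraticForm F V) (e f a : V) (A : AddSubgroup V) : Prop :=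
  ∀ x w y, Pa Q e f a x → Pa Q e f a w → Pa Q e f a y → Hyp Q x y → Q w = 0 → w ≠ 0 →
    polar Q x w = 0 → polar Q y w = 0 → ∀ b ∈ A, sf Q x (a + w) b ∈ A

/-- **`V_a ≤ A`, two elements, dimension at least eight.** -/
theorem le_two (hQ : Nondeg Q) (hd : 8 ≤ Module.finrank F V) (hF : ∀ c : F, c = 0 ∨ c = 1)
    (h : Hyp Q e f) (ha : polar Q e a = 0) (ha' : polar Q f a = 0) (hQa : Q a ≠ 0)
    {A : AddSubgroup V} (hA : InvTwo Q e f a A) (haA : a ∈ A) {b : V} (hb : b ∈ A)
    (hbe : polar Q e b = 0) (hbf : polar Q f b = 0) (hne : ∀ c : F, b ≠ c • a) {v : V}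
    (hv : Pa Q e f a v) : v ∈ A := by
  have htwo : (2 : F) = 0 := by
    rcases hF (-1) with h1 | h1
    · exact absurd (neg_eq_zero.1 h1) one_ne_zero
    · linear_combination -h1
  have hQa1 : Q a = 1 := (hF (Q a)).resolve_left hQa
  have haa : Pa Q e f a a := ⟨ha, ha', by rw [polar_self', htwo, zero_mul]⟩
  have hsm : ∀ u ∈ A, ∀ t : F, t • u ∈ A := by
    intro u hu t
    rcases hF t with rfl | rfl
    · rw [zero_smul]; exact A.zero_mem
    · rw [one_smul]; exact hu
  have hneg : ∀ u : V, -u = u := by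
    intro u
    have : (-(1 : F)) = 1 := by linear_combination (-(1 : F)) * htwo
    rw [← neg_one_smul F u, this, one_smul]
  -- `w + ε x ∈ A`
  have base : ∀ (b x w y : V), b ∈ A → Pa Q e f a x → Pa Q e f a w → Pa Q e f a y → Hyp Q x y →
      Q w = 0 → w ≠ 0 → polar Q x w = 0 → polar Q y w = 0 → polar Q x b = 1 →
      w - (polar Q a b + polar Q w b + 1) • x ∈ A := by
    intro b x w y hb hx hw hy hxy hws hw0 hxw hyw hxb
    have h1 := A.sub_mem (A.sub_mem (hA x w y hx hw hy hxy hws hw0 hxw hyw b hb) hb) haA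
    convert h1 using 1
    rw [sf, hxb, Q_add, hQa1, hws, hw.a, polar_add_left]
    module
  have exw : ∀ x y : V, ∃ w, Pa Q e f a w ∧ w ≠ 0 ∧ Q w = 0 ∧ polar Q x w = 0 ∧
      polar Q y w = 0 := by
    intro x y
    obtain ⟨w, hw0, hw, hp⟩ := exists_sing_perp (Q := Q) ![e, f, a, x, y] (by omega)
    exact ⟨w, ⟨hp 0, hp 1, hp 2⟩, hw0, hw, hp 3, hp 4⟩
  -- step 1
  obtain ⟨x1, hx1A, hx1, hx10, hx1s⟩ : ∃ x1 ∈ A, Pa Q e f a x1 ∧ x1 ≠ 0 ∧ Q x1 = 0 := by
    obtain ⟨x, hx, hxs, hxb⟩ := exists_sing_ne hQ (by omega) h ha ha' hQa hbe hbf hne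
    have hx0 : x ≠ 0 := by
      rintro rfl
      exact hxb (QuadraticMap.polar_zero_left Q b)
    obtain ⟨y, hy, hxy⟩ := exists_partner hQ h ha ha' hQa hx hx0 hxs
    obtain ⟨w, hw, hw0, hws, hxw, hyw⟩ := exw x y
    have hxb1 : polar Q x b = 1 := (hF _).resolve_left hxb
    refine ⟨_, base b x w y hb hx hw hy hxy hws hw0 hxw hyw hxb1, hw.sub (hx.smul _), ?_, ?_⟩
    · intro h0
      have h1 : w = (polar Q a b + polar Q w b + 1) • x := sub_eq_zero.1 h0
      have h2 := hyw
      rw [h1, polar_smul_right, hxy.pair', smul_eq_mul, mul_one] at h2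
      rw [h2, zero_smul] at h1
      exact hw0 h1
    · rw [sub_eq_add_neg, ← neg_smul, Q_add, QuadraticMap.map_smul, hws, hxs, polar_smul_right,
        polar_comm Q w x, hxw, smul_zero, smul_zero, add_zero, add_zero]
  -- step 2
  obtain ⟨x, hx, hx1x⟩ := exists_partner hQ h ha ha' hQa hx1 hx10 hx1s
  have hxx1 := hx1x.symm
  have key : ∀ w, Pa Q e f a w → w ≠ 0 → Q w = 0 → polar Q x w = 0 → polar Q x1 w = 0 →
      w - x ∈ A := by
    intro w hw hw0 hws hxw hx1w
    have h1 := base x1 x w x1 hx1A hx hw hx1 hxx1 hws hw0 hxw hx1w hxx1.pair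
    rwa [hx1.a, polar_comm Q w x1, hx1w, add_zero, zero_add, one_smul] at h1
  obtain ⟨w1, hw1, hw10, hw1s, hxw1, hx1w1⟩ := exw x x1
  obtain ⟨z, hz, hz2⟩ := exists_sep_sub hQ (X := Submodule.span F ({e, f, a, x, x1} : Set V))
    (x := w1) (by
      intro hmem
      rw [Submodule.mem_span_insert] at hmem
      obtain ⟨α, z, hz, hwz⟩ := hmem
      rw [Submodule.mem_span_insert] at hz
      obtain ⟨β, z', hz', hzz⟩ := hz
      rw [Submodule.mem_span_insert] at hz'
      obtain ⟨γ, z'', hz'', hzz'⟩ := hz'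
      rw [Submodule.mem_span_pair] at hz''
      obtain ⟨δ, ε, rfl⟩ := hz''
      subst hzz' hzz
      have e1 : β = 0 := by
        have := hw1.e
        rw [hwz] at this
        simpa only [polar_add_right, polar_smul_right, h.polar_left, h.pair, ha, hx.e, hx1.e,
          smul_eq_mul, mul_zero, add_zero, zero_add, mul_one] using this
      have e2 : α = 0 := by
        have := hw1.f
        rw [hwz] at this
        simpa only [polar_add_right, polar_smul_right, h.polar_right, h.pair', ha', hx.f, hx1.f,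
          smul_eq_mul, mul_zero, add_zero, mul_one] using this
      have e4 : ε = 0 := by
        have := hxw1
        rw [hwz] at this
        simpa only [e1, e2, zero_smul, zero_add, polar_add_right, polar_smul_right, hx.a',
          hxx1.polar_left, hxx1.pair, smul_eq_mul, mul_zero, mul_one] using this
      have e5 : δ = 0 := by
        have := hx1w1
        rw [hwz] at this
        simpa only [e1, e2, e4, zero_smul, zero_add, add_zero, polar_add_right, hx1.a',
          polar_smul_right, hxx1.polar_right, hxx1.pair', smul_eq_mul, mul_zero, mul_one] using this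
      have e3 : γ = 0 := by
        have := hw1s
        rw [hwz] at this
        simp only [e1, e2, e4, e5, zero_smul, zero_add, add_zero, QuadraticMap.map_smul,
          smul_eq_mul, hQa1, mul_one] at this
        exact mul_self_eq_zero.1 this
      apply hw10
      rw [hwz, e1, e2, e3, e4, e5]
      simp)
  have hPz : Pa Q e f a z := ⟨hz2 e (Submodule.subset_span (by simp)),
    hz2 f (Submodule.subset_span (by simp)), hz2 a (Submodule.subset_span (by simp))⟩
  have hxz : polar Q x z = 0 := hz2 x (Submodule.subset_span (by simp))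
  have hx1z : polar Q x1 z = 0 := hz2 x1 (Submodule.subset_span (by simp))
  set w2 := z - Q z • w1 with hw2d
  have hw2 : Pa Q e f a w2 := hPz.sub (hw1.smul _)
  have hw12 : Hyp Q w1 w2 := by
    refine ⟨hw1s, ?_, ?_⟩
    · rw [hw2d, sub_eq_add_neg, ← neg_smul, Q_add, QuadraticMap.map_smul, hw1s, polar_smul_right,
        polar_comm Q z w1, hz]
      simp
    · rw [hw2d, polar_sub_right, polar_smul_right, hz, polar_self_of_sing hw1s, smul_zero, sub_zero]
  have hxw2 : polar Q x w2 = 0 := by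
    rw [hw2d, polar_sub_right, polar_smul_right, hxz, hxw1, smul_zero, sub_zero]
  have hx1w2 : polar Q x1 w2 = 0 := by
    rw [hw2d, polar_sub_right, polar_smul_right, hx1z, hx1w1, smul_zero, sub_zero]
  have k1 := key w1 hw1 hw10 hw1s hxw1 hx1w1
  have k2 := key w2 hw2 hw12.right_ne hw12.right hxw2 hx1w2
  have k3 := key (w1 + w2 + a) ((hw1.add hw2).add haa) (by
      intro h0
      have h1 := congrArg (polar Q w1) h0
      rw [polar_add_right, polar_add_right, hw12.polar_left, hw12.pair, hw1.a', zero_add, add_zero,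
        QuadraticMap.polar_zero_right] at h1
      exact one_ne_zero h1) (by
      rw [Q_add, Q_add, hw12.left, hw12.right, hw12.pair, hQa1, polar_add_left, hw1.a', hw2.a']
      linear_combination htwo) (by
      rw [polar_add_right, polar_add_right, hxw1, hxw2, hx.a', add_zero, add_zero]) (by
      rw [polar_add_right, polar_add_right, hx1w1, hx1w2, hx1.a', add_zero, add_zero])
  have hxA : x ∈ A := by
    have h1 := A.sub_mem (A.sub_mem (A.add_mem k1 k2) k3) (A.neg_mem haA)
    have h2 : w1 - x + (w2 - x) - (w1 + w2 + a - x) - -a = -x := by abel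
    rw [h2] at h1
    simpa using A.neg_mem h1
  -- step 3
  have hsing : ∀ w, Pa Q e f a w → Q w = 0 → polar Q x w = 0 → polar Q x1 w = 0 → w ∈ A := by
    intro w hw hws hxw hx1w
    by_cases hw0 : w = 0
    · rw [hw0]; exact A.zero_mem
    · have h1 := A.add_mem (key w hw hw0 hws hxw hx1w) hxA
      simpa using h1
  refine le_of_pair hx hx1 hxx1 (hsm x hxA) (hsm x1 hx1A) ?_ hv
  intro w hw hxw hx1w
  set w' := w - polar Q w2 w • w1 - polar Q w1 w • w2 with hw'
  have hPw' : Pa Q e f a w' := (hw.sub (hw1.smul _)).sub (hw2.smul _)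
  have h1 : polar Q w1 w' = 0 := polar_proj_left hw12 w
  have h2 : polar Q w2 w' = 0 := polar_proj_right hw12 w
  have hxw' : polar Q x w' = 0 := by
    rw [hw', polar_sub_right, polar_sub_right, polar_smul_right, polar_smul_right, hxw, hxw1, hxw2]
    simp
  have hx1w' : polar Q x1 w' = 0 := by
    rw [hw', polar_sub_right, polar_sub_right, polar_smul_right, polar_smul_right, hx1w, hx1w1,
      hx1w2]
    simp
  have h3 := hsing (w1 + w' - Q w' • w2) ((hw1.add hPw').sub (hw2.smul _)) (sing_vec hw12 h1 h2)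
    (by rw [polar_sub_right, polar_add_right, polar_smul_right, hxw1, hxw', hxw2]; simp)
    (by rw [polar_sub_right, polar_add_right, polar_smul_right, hx1w1, hx1w', hx1w2]; simp)
  have h4 := hsing w1 hw1 hw1s hxw1 hx1w1
  have h5 := hsing w2 hw2 hw12.right hxw2 hx1w2
  have h6 : w = (w1 + w' - Q w' • w2) - w1 + Q w' • w2 + polar Q w2 w • w1 +
      polar Q w1 w • w2 := by
    rw [hw']; abel
  rw [h6]
  exact A.add_mem (A.add_mem (A.add_mem (A.sub_mem h3 h4) (hsm _ h5 _)) (hsm _ h4 _)) (hsm _ h5 _)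

/-- **Key lemma B.** -/
theorem eq_top (hQ : Nondeg Q) (hd : 6 ≤ Module.finrank F V) (h : Hyp Q e f)
    {A : AddSubgroup V}
    (hA : ∀ a ∈ A, polar Q e a = 0 → polar Q f a = 0 → Q a ≠ 0 →
      (∃ b ∈ A, polar Q e b = 0 ∧ polar Q f b = 0 ∧ ∀ c : F, b ≠ c • a) →
      ∀ v, Pa Q e f a v → v ∈ A)
    (ha : a ∈ A) (hae : polar Q e a = 0) (haf : polar Q f a = 0) (hQa : Q a ≠ 0)
    {b : V} (hb : b ∈ A) (hbe : polar Q e b = 0) (hbf : polar Q f b = 0)
    (hne : ∀ c : F, b ≠ c • a) {v : V} (hve : polar Q e v = 0) (hvf : polar Q f v = 0) :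
    v ∈ A := by
  have h1 := hA a ha hae haf hQa ⟨b, hb, hbe, hbf, hne⟩
  obtain ⟨x, y, hx, hy, hxy⟩ := exists_hypPa hQ hd h hae haf hQa
  have hxA := h1 x hx
  have hQ' : Q (a + x) = Q a := by
    rw [Q_add, hxy.left, hx.a, add_zero, add_zero]
  have h2 := hA (a + x) (A.add_mem ha hxA) (by rw [polar_add_right, hae, hx.e, add_zero])
    (by rw [polar_add_right, haf, hx.f, add_zero]) (by rw [hQ']; exact hQa)
    ⟨x, hxA, hx.e, hx.f, by
      intro c hc
      have h3 := congrArg (polar Q y) hc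
      rw [polar_smul_right, polar_add_right, hxy.pair', hy.a', zero_add, smul_eq_mul,
        mul_one] at h3
      rw [← h3, one_smul] at hc
      have h4 : a = 0 := by
        have : a + x = 0 + x := by rw [← hc, zero_add]
        exact add_right_cancel this
      rw [h4, QuadraticMap.map_zero] at hQa
      exact hQa rfl⟩
  have h3 := h2 (v + (-(polar Q a v + polar Q x v)) • y) ⟨by
      rw [polar_add_right, polar_smul_right, hve, hy.e, smul_zero, add_zero], by
      rw [polar_add_right, polar_smul_right, hvf, hy.f, smul_zero, add_zero], by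
      rw [polar_add_left, polar_add_right, polar_add_right, polar_smul_right, polar_smul_right,
        hy.a, hxy.pair]
      simp⟩
  have h4 := h1 ((polar Q a v + polar Q x v) • y) (hy.smul _)
  have h5 := A.add_mem h3 h4
  have h6 : v + (-(polar Q a v + polar Q x v)) • y + (polar Q a v + polar Q x v) • y = v := by
    module
  rwa [h6] at h5

end Fin

end Cfsg.Agent.H76.Alg
end

-- part: H76/Perf
section
/-!
# Perfect groups generated by Siegel transformations of `V_a`

`XX Q e f a` : generated by the Siegel transformations `sg Q x w`, `x, w ∈ V_a = ⟨e, f, a⟩^⊥`. It is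
perfect if there is `l ≠ 0` with `l * l ≠ 1` (`XX_le_four`), or `2 ≠ 0` and `8 ≤ finrank`
(`XX_le_odd`). `X2 Q e f a` : a smaller set of generators, perfect for the field with two elements and
`8 ≤ finrank` (`X2_le`).
-/

set_option autoImplicit false
set_option linter.unusedSectionVars false

namespace Cfsg.Agent.H76.Perf

open QuadraticMap Cfsg.Agent.LieClassical.OrthCore Cfsg.Agent.LieClassical.OrthTrans
open Cfsg.Agent.H76.Trans Cfsg.Agent.H76.Alg Cfsg.Agent.LieClassical.OrthFinite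
open scoped commutatorElement
open Cfsg.Agent.H75.OrthIdx (sg sg_eq sg_apply sg_mem_E sg_mem_O sg_mul sg_inv sg_conj
  sg_smul_left sg_add_smul sg_smul_self sg_fix sg_zero wl wl_mem_O wl_perp wl_left wl_right)

variable {F V : Type*} [Field F] [AddCommGroup V] [Module F V] {Q : QuadraticForm F V}
variable {e f a : V}

variable (Q e f a) in
/-- The group generated by the Siegel transformations of `V_a`. -/
def XX : Subgroup (V ≃ₗ[F] V) :=
  Subgroup.closure {g | ∃ x w, Pa Q e f a x ∧ Pa Q e f a w ∧ Q x = 0 ∧ polar Q x w = 0 ∧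
    g = sg Q x w}

variable (Q e f a) in
/-- The group generated by some of the Siegel transformations of `V_a`. -/
def X2 : Subgroup (V ≃ₗ[F] V) :=
  Subgroup.closure {g | ∃ x w y, Pa Q e f a x ∧ Pa Q e f a w ∧ Pa Q e f a y ∧ Hyp Q x y ∧
    Q w = 0 ∧ w ≠ 0 ∧ polar Q x w = 0 ∧ polar Q y w = 0 ∧ g = sg Q x (a + w)}

theorem sg_mem_XX {x w : V} (hx : Pa Q e f a x) (hw : Pa Q e f a w) (hxs : Q x = 0)
    (hxw : polar Q x w = 0) : sg Q x w ∈ XX Q e f a :=
  Subgroup.subset_closure ⟨x, w, hx, hw, hxs, hxw, rfl⟩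

theorem sg_mem_X2 {x w y : V} (hx : Pa Q e f a x) (hw : Pa Q e f a w) (hy : Pa Q e f a y)
    (hxy : Hyp Q x y) (hws : Q w = 0) (hw0 : w ≠ 0) (hxw : polar Q x w = 0)
    (hyw : polar Q y w = 0) : sg Q x (a + w) ∈ X2 Q e f a :=
  Subgroup.subset_closure ⟨x, w, y, hx, hw, hy, hxy, hws, hw0, hxw, hyw, rfl⟩

/-! ### The torus element -/

/-- the torus element -/
noncomputable def tor (Q : QuadraticForm F V) (x y c : V) (l : F) : V ≃ₗ[F] V :=
  wl Q x y (l • c) * (wl Q x y c)⁻¹

theorem tor_mem_O (x y c : V) (l : F) : tor Q x y c l ∈ O Q :=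
  (O Q).mul_mem (wl_mem_O _ _ _) ((O Q).inv_mem (wl_mem_O _ _ _))

theorem tor_left {x y c : V} {l : F} (h : Hyp Q x y) (hc : Q c ≠ 0) (hl : l ≠ 0)
    (hxc : polar Q x c = 0) (hyc : polar Q y c = 0) : tor Q x y c l x = (l * l) • x := by
  have h1 : (wl Q x y c)⁻¹ x = (-(Q c)⁻¹) • y := by
    apply ((wl Q x y c).symm_apply_eq).2
    rw [map_smul, wl_right h hc hxc hyc, smul_smul, neg_mul_neg, inv_mul_cancel₀ hc, one_smul]
  have hlc : Q (l • c) ≠ 0 := by
    rw [QuadraticMap.map_smul]; exact mul_ne_zero (mul_ne_zero hl hl) hc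
  show wl Q x y (l • c) ((wl Q x y c)⁻¹ x) = _
  rw [h1, map_smul, wl_right h hlc (by rw [polar_smul_right, hxc, smul_zero])
    (by rw [polar_smul_right, hyc, smul_zero]), smul_smul, QuadraticMap.map_smul, smul_eq_mul,
    neg_mul_neg]
  congr 1
  field_simp

theorem tor_perp {x y c v : V} {l : F} (h : Hyp Q x y) (hc : Q c ≠ 0) (hl : l ≠ 0)
    (hxc : polar Q x c = 0) (hyc : polar Q y c = 0) (hxv : polar Q x v = 0)
    (hyv : polar Q y v = 0) : tor Q x y c l v = v := by
  set u := v - ((Q c)⁻¹ * polar Q c v) • c with hu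
  have hxu : polar Q x u = 0 := by
    rw [hu, polar_sub_right, polar_smul_right, hxv, hxc]; simp
  have hyu : polar Q y u = 0 := by
    rw [hu, polar_sub_right, polar_smul_right, hyv, hyc]; simp
  have hcu : polar Q c u = - polar Q c v := by
    rw [hu, polar_sub_right, polar_smul_right, polar_self', smul_eq_mul]
    field_simp
    ring
  have h1 : (wl Q x y c)⁻¹ v = u := by
    apply ((wl Q x y c).symm_apply_eq).2
    rw [wl_perp h hc hxc hyc hxu hyu, hcu, hu]
    module
  have hlc : Q (l • c) ≠ 0 := by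
    rw [QuadraticMap.map_smul]; exact mul_ne_zero (mul_ne_zero hl hl) hc
  show wl Q x y (l • c) ((wl Q x y c)⁻¹ v) = _
  rw [h1, wl_perp h hlc (by rw [polar_smul_right, hxc, smul_zero])
    (by rw [polar_smul_right, hyc, smul_zero]) hxu hyu, QuadraticMap.map_smul, polar_smul_left,
    hcu, smul_smul]
  have h2 : (l * l * Q c)⁻¹ * (l * -polar Q c v) * l = -((Q c)⁻¹ * polar Q c v) := by
    field_simp
  rw [smul_eq_mul, smul_eq_mul, h2, hu]
  module

theorem wl_mem_XX {x y c : V} (hx : Pa Q e f a x) (hy : Pa Q e f a y) (hc : Pa Q e f a c)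
    (h : Hyp Q x y) (hxc : polar Q x c = 0) (hyc : polar Q y c = 0) :
    wl Q x y c ∈ XX Q e f a := by
  refine (XX Q e f a).mul_mem ((XX Q e f a).mul_mem ?_ ?_) ?_
  · exact sg_mem_XX hx hc h.left hxc
  · exact sg_mem_XX hy (hc.smul _) h.right (by rw [polar_smul_right, hyc, smul_zero])
  · exact sg_mem_XX hx hc h.left hxc

theorem tor_mem_XX {x y c : V} {l : F} (hx : Pa Q e f a x) (hy : Pa Q e f a y)
    (hc : Pa Q e f a c) (h : Hyp Q x y) (hxc : polar Q x c = 0) (hyc : polar Q y c = 0) :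
    tor Q x y c l ∈ XX Q e f a :=
  (XX Q e f a).mul_mem (wl_mem_XX hx hy (hc.smul l) h (by rw [polar_smul_right, hxc, smul_zero])
    (by rw [polar_smul_right, hyc, smul_zero]))
    ((XX Q e f a).inv_mem (wl_mem_XX hx hy hc h hxc hyc))

section Fin

variable [Finite F] [Finite V]

/-- a nonsingular vector of `V_a` orthogonal to a hyperbolic pair -/
theorem exists_nonsing (hQ : Nondeg Q) (hd : 6 ≤ Module.finrank F V)
    (h : Hyp Q e f) (ha : polar Q e a = 0) (ha' : polar Q f a = 0) (hQa : Q a ≠ 0) {x y : V}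
    (hx : Pa Q e f a x) (hy : Pa Q e f a y) (hxy : Hyp Q x y) :
    ∃ c, Pa Q e f a c ∧ polar Q x c = 0 ∧ polar Q y c = 0 ∧ Q c ≠ 0 := by
  by_cases h2 : (2 : F) = 0
  · exact ⟨a, ⟨ha, ha', by rw [polar_self', h2, zero_mul]⟩, hx.a', hy.a', hQa⟩
  · exact exists_nonsing_odd hQ hd h2 h ha ha' hQa hx hy hxy

/-- **`XX` is perfect, at least four elements.** -/
theorem XX_le_four (hQ : Nondeg Q) (hd : 6 ≤ Module.finrank F V)
    (h : Hyp Q e f) (ha : polar Q e a = 0) (ha' : polar Q f a = 0) (hQa : Q a ≠ 0)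
    {l : F} (hl : l ≠ 0) (hl1 : l * l ≠ 1) :
    XX Q e f a ≤ ⁅XX Q e f a, XX Q e f a⁆ := by
  conv_lhs => rw [XX]
  rw [Subgroup.closure_le]
  rintro _ ⟨x, w, hx, hw, hxs, hxw, rfl⟩
  by_cases hx0 : x = 0
  · subst hx0
    have : sg Q (0 : V) w = 1 := by
      ext v
      rw [sg_apply hxs hxw]
      simp
    rw [this]
    exact Subgroup.one_mem _
  obtain ⟨y, hy, hxy⟩ := exists_partner hQ h ha ha' hQa hx hx0 hxs
  obtain ⟨c, hc, hxc, hyc, hQc⟩ := exists_nonsing hQ hd h ha ha' hQa hx hy hxy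
  set w0 := w + (-polar Q y w) • x with hw0
  have hw0P : Pa Q e f a w0 := hw.add (hx.smul _)
  have hxw0 : polar Q x w0 = 0 := by
    rw [hw0, polar_add_right, polar_smul_right, hxw, polar_self_of_sing hxs]; simp
  have hyw0 : polar Q y w0 = 0 := by
    rw [hw0, polar_add_right, polar_smul_right, hxy.pair']; simp
  have hsw : sg Q x w = sg Q x w0 := by
    rw [hw0, sg_add_smul hxs]
  have hl2 : l * l - 1 ≠ 0 := sub_ne_zero.2 hl1
  set w1 := (l * l - 1)⁻¹ • w0 with hw1
  have hw1P : Pa Q e f a w1 := hw0P.smul _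
  have hxw1 : polar Q x w1 = 0 := by rw [hw1, polar_smul_right, hxw0, smul_zero]
  have hyw1 : polar Q y w1 = 0 := by rw [hw1, polar_smul_right, hyw0, smul_zero]
  have hcomm : sg Q x w0 = ⁅tor Q x y c l, sg Q x w1⁆ := by
    rw [commutatorElement_def, sg_conj (tor_mem_O x y c l),
      tor_left hxy hQc hl hxc hyc, tor_perp hxy hQc hl hxc hyc hxw1 hyw1,
      sg_smul_left (mul_ne_zero hl hl), sg_inv hxw1, sg_mul (by
        rw [polar_smul_right, hxw1, smul_zero]) (by rw [polar_neg_right, hxw1, neg_zero])]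
    congr 1
    rw [hw1]
    have h3 : w0 = (l * l - 1) • ((l * l - 1)⁻¹ • w0) := by
      rw [smul_smul, mul_inv_cancel₀ hl2, one_smul]
    conv_lhs => rw [h3]
    module
  rw [hsw, hcomm]
  exact Subgroup.commutator_mem_commutator (tor_mem_XX hx hy hc hxy hxc hyc)
    (sg_mem_XX hx hw1P hxs hxw1)

/-- vectors in the perp of two hyperbolic pairs and `a` -/
theorem exists_perp_two (hQ : Nondeg Q) (_hd : 8 ≤ Module.finrank F V)
    (h : Hyp Q e f) (ha : polar Q e a = 0) (ha' : polar Q f a = 0) (hQa : Q a ≠ 0) {x y : V}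
    (hx : Pa Q e f a x) (hy : Pa Q e f a y) (hxy : Hyp Q x y) {z : V} (hz : Pa Q e f a z)
    (hz0 : z ≠ 0) (hzs : Q z = 0) (hxz : polar Q x z = 0) (hyz : polar Q y z = 0) :
    ∃ z', Pa Q e f a z' ∧ Hyp Q z z' ∧ polar Q x z' = 0 ∧ polar Q y z' = 0 := by
  have hnot : z ∉ Submodule.span F ({e, f, a, x, y} : Set V) := by
    intro hmem
    rw [Submodule.mem_span_insert] at hmem
    obtain ⟨α, w, hw, hwz⟩ := hmem
    rw [Submodule.mem_span_insert] at hw
    obtain ⟨β, w', hw', hzz⟩ := hw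
    rw [Submodule.mem_span_insert] at hw'
    obtain ⟨γ, w'', hw'', hzz'⟩ := hw'
    rw [Submodule.mem_span_pair] at hw''
    obtain ⟨δ, ε, rfl⟩ := hw''
    subst hzz' hzz
    have e1 : β = 0 := by
      have := hz.e
      rw [hwz] at this
      simpa only [polar_add_right, polar_smul_right, h.polar_left, h.pair, ha, hx.e, hy.e,
        smul_eq_mul, mul_zero, add_zero, zero_add, mul_one] using this
    have e2 : α = 0 := by
      have := hz.f
      rw [hwz] at this
      simpa only [polar_add_right, polar_smul_right, h.polar_right, h.pair', ha', hx.f, hy.f,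
        smul_eq_mul, mul_zero, add_zero, mul_one] using this
    have e4 : ε = 0 := by
      have := hxz
      rw [hwz] at this
      simpa only [e1, e2, zero_smul, zero_add, polar_add_right, polar_smul_right, hx.a',
        hxy.polar_left, hxy.pair, smul_eq_mul, mul_zero, mul_one] using this
    have e5 : δ = 0 := by
      have := hyz
      rw [hwz] at this
      simpa only [e1, e2, e4, zero_smul, zero_add, add_zero, polar_add_right, hy.a',
        polar_smul_right, hxy.polar_right, hxy.pair', smul_eq_mul, mul_zero, mul_one] using this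
    have e3 : γ * γ * Q a = 0 := by
      have := hzs
      rw [hwz] at this
      simpa only [e1, e2, e4, e5, zero_smul, zero_add, add_zero, QuadraticMap.map_smul,
        smul_eq_mul] using this
    have e3' : γ = 0 := mul_self_eq_zero.1 ((mul_eq_zero.1 e3).resolve_right hQa)
    apply hz0
    rw [hwz, e1, e2, e3', e4, e5]
    simp
  obtain ⟨z1, hz1, hz2⟩ := exists_sep_sub hQ hnot
  have hP : Pa Q e f a z1 := ⟨hz2 e (Submodule.subset_span (by simp)),
    hz2 f (Submodule.subset_span (by simp)), hz2 a (Submodule.subset_span (by simp))⟩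
  have hxz1 : polar Q x z1 = 0 := hz2 x (Submodule.subset_span (by simp))
  have hyz1 : polar Q y z1 = 0 := hz2 y (Submodule.subset_span (by simp))
  refine ⟨z1 + (-Q z1) • z, hP.add (hz.smul _), ⟨hzs, ?_, ?_⟩, ?_, ?_⟩
  · rw [Q_add, QuadraticMap.map_smul, hzs, polar_smul_right, polar_comm Q z1 z, hz1]
    simp
  · rw [polar_add_right, polar_smul_right, hz1, polar_self_of_sing hzs, smul_zero, add_zero]
  · rw [polar_add_right, polar_smul_right, hxz, hxz1, smul_zero, add_zero]
  · rw [polar_add_right, polar_smul_right, hyz, hyz1, smul_zero, add_zero]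

/-- a nonsingular vector orthogonal to `e, f, a, x, y, s` -/
theorem exists_nonsing_six (hQ : Nondeg Q) (hd : 8 ≤ Module.finrank F V) (h2 : (2 : F) ≠ 0)
    (h : Hyp Q e f) (ha : polar Q e a = 0) (ha' : polar Q f a = 0) (hQa : Q a ≠ 0) {x y : V}
    (hx : Pa Q e f a x) (hy : Pa Q e f a y) (hxy : Hyp Q x y) {z : V} (hz : Pa Q e f a z)
    (hz0 : z ≠ 0) (hzs : Q z = 0) (hxz : polar Q x z = 0) (hyz : polar Q y z = 0) :
    ∃ c, Pa Q e f a c ∧ polar Q x c = 0 ∧ polar Q y c = 0 ∧ polar Q z c = 0 ∧ Q c ≠ 0 := by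
  obtain ⟨z', hz', hzz', hxz', hyz'⟩ :=
    exists_perp_two hQ hd h ha ha' hQa hx hy hxy hz hz0 hzs hxz hyz
  obtain ⟨w, hw0, hw⟩ := exists_perp_ne (Q := Q) ![e, f, a, x, y, z, z'] (by omega)
  have hwe : polar Q e w = 0 := hw 0
  have hwf : polar Q f w = 0 := hw 1
  have hwa : polar Q a w = 0 := hw 2
  have hwx : polar Q x w = 0 := hw 3
  have hwy : polar Q y w = 0 := hw 4
  have hwz : polar Q z w = 0 := hw 5
  have hwz' : polar Q z' w = 0 := hw 6
  have hnot : w ∉ Submodule.span F ({e, f, a, x, y, z} : Set V) := by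
    intro hmem
    rw [Submodule.mem_span_insert] at hmem
    obtain ⟨α, z1, h1, hwz1⟩ := hmem
    rw [Submodule.mem_span_insert] at h1
    obtain ⟨β, z2, h3, hzz2⟩ := h1
    rw [Submodule.mem_span_insert] at h3
    obtain ⟨γ, z3, h4, hzz3⟩ := h3
    rw [Submodule.mem_span_insert] at h4
    obtain ⟨δ, z4, h5, hzz4⟩ := h4
    rw [Submodule.mem_span_pair] at h5
    obtain ⟨ε, ζ, rfl⟩ := h5
    subst hzz4 hzz3 hzz2
    have e1 : β = 0 := by
      have := hwe
      rw [hwz1] at this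
      simpa only [polar_add_right, polar_smul_right, h.polar_left, h.pair, ha, hx.e, hy.e, hz.e,
        smul_eq_mul, mul_zero, add_zero, zero_add, mul_one] using this
    have e2 : α = 0 := by
      have := hwf
      rw [hwz1] at this
      simpa only [polar_add_right, polar_smul_right, h.polar_right, h.pair', ha', hx.f, hy.f,
        hz.f, smul_eq_mul, mul_zero, add_zero, mul_one] using this
    have e3 : γ = 0 := by
      have := hwa
      rw [hwz1] at this
      simp only [e1, e2, zero_smul, zero_add, polar_add_right, polar_smul_right, hx.a, hy.a,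
        hz.a, smul_eq_mul, mul_zero, add_zero, polar_self'] at this
      exact (mul_eq_zero.1 this).resolve_right (mul_ne_zero h2 hQa)
    have e4 : ε = 0 := by
      have := hwx
      rw [hwz1] at this
      simpa only [e1, e2, e3, zero_smul, zero_add, polar_add_right, polar_smul_right,
        hxy.polar_left, hxy.pair, hxz, smul_eq_mul, mul_zero, mul_one, add_zero] using this
    have e5 : δ = 0 := by
      have := hwy
      rw [hwz1] at this
      simpa only [e1, e2, e3, e4, zero_smul, zero_add, add_zero, polar_add_right, hyz,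
        polar_smul_right, hxy.polar_right, hxy.pair', smul_eq_mul, mul_zero, mul_one] using this
    have e6 : ζ = 0 := by
      have := hwz'
      rw [hwz1] at this
      simpa only [e1, e2, e3, e4, e5, zero_smul, zero_add, add_zero, polar_add_right,
        polar_smul_right, hzz'.pair', smul_eq_mul, mul_zero, mul_one] using this
    apply hw0
    rw [hwz1, e1, e2, e3, e4, e5, e6]
    simp
  obtain ⟨b, hb, hbX⟩ := exists_nonsing_perp_sub hQ hnot (by
    intro v hv
    refine Submodule.span_induction (p := fun v _ => polar Q v w = 0) ?_ ?_ ?_ ?_ hv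
    · rintro z (rfl | rfl | rfl | rfl | rfl | rfl) <;> assumption
    · exact QuadraticMap.polar_zero_left Q w
    · intro y z _ _ hy hz
      rw [polar_add_left, hy, hz, add_zero]
    · intro c y _ hy
      rw [polar_smul_left, hy, smul_zero])
  exact ⟨b, ⟨hbX e (Submodule.subset_span (by simp)), hbX f (Submodule.subset_span (by simp)),
    hbX a (Submodule.subset_span (by simp))⟩, hbX x (Submodule.subset_span (by simp)),
    hbX y (Submodule.subset_span (by simp)), hbX z (Submodule.subset_span (by simp)), hb⟩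

/-- **`XX` is perfect, odd characteristic, dimension at least eight.** -/
theorem XX_le_odd (hQ : Nondeg Q) (hd : 8 ≤ Module.finrank F V) (h2 : (2 : F) ≠ 0)
    (h : Hyp Q e f) (ha : polar Q e a = 0) (ha' : polar Q f a = 0) (hQa : Q a ≠ 0) :
    XX Q e f a ≤ ⁅XX Q e f a, XX Q e f a⁆ := by
  conv_lhs => rw [XX]
  rw [Subgroup.closure_le]
  rintro _ ⟨x, w, hx, hw, hxs, hxw, rfl⟩
  by_cases hx0 : x = 0
  · subst hx0
    have : sg Q (0 : V) w = 1 := by
      ext v
      rw [sg_apply hxs hxw]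
      simp
    rw [this]
    exact Subgroup.one_mem _
  obtain ⟨y, hy, hxy⟩ := exists_partner hQ h ha ha' hQa hx hx0 hxs
  set w0 := w + (-polar Q y w) • x with hw0
  have hw0P : Pa Q e f a w0 := hw.add (hx.smul _)
  have hxw0 : polar Q x w0 = 0 := by
    rw [hw0, polar_add_right, polar_smul_right, hxw, polar_self_of_sing hxs]; simp
  have hyw0 : polar Q y w0 = 0 := by
    rw [hw0, polar_add_right, polar_smul_right, hxy.pair']; simp
  have hsw : sg Q x w = sg Q x w0 := by
    rw [hw0, sg_add_smul hxs]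
  rw [hsw]
  -- singular vectors
  have key : ∀ z, Pa Q e f a z → Q z = 0 → polar Q x z = 0 → polar Q y z = 0 →
      sg Q x z ∈ ⁅XX Q e f a, XX Q e f a⁆ := by
    intro z hz hzs hxz hyz
    by_cases hz0 : z = 0
    · rw [hz0, sg_zero]; exact Subgroup.one_mem _
    obtain ⟨c, hc, hxc, hyc, hzc, hQc⟩ :=
      exists_nonsing_six hQ hd h2 h ha ha' hQa hx hy hxy hz hz0 hzs hxz hyz
    set k := (2 * Q c)⁻¹ with hk
    have hk0 : 2 * Q c ≠ 0 := mul_ne_zero h2 hQc
    have hzx : polar Q z x = 0 := by rw [polar_comm]; exact hxz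
    have hcx : polar Q c x = 0 := by rw [polar_comm]; exact hxc
    have hkc : polar Q z ((-k) • c) = 0 := by rw [polar_smul_right, hzc, smul_zero]
    have hcomm : sg Q x z = ⁅sg Q z ((-k) • c), sg Q x c⁆ := by
      have e1 : sg Q z ((-k) • c) x = x := sg_fix hzx (by rw [polar_smul_left, hcx, smul_zero])
      have e2 : sg Q z ((-k) • c) c = c + z := by
        rw [sg_apply hzs hkc, hzc, polar_smul_left, polar_self', smul_eq_mul]
        have : -k * (2 * Q c) = -1 := by rw [neg_mul, hk, inv_mul_cancel₀ hk0]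
        rw [this]
        module
      rw [commutatorElement_def, sg_conj (sg_mem_O _ _), e1, e2, sg_inv hxc, sg_mul (by
        rw [polar_add_right, hxc, hxz, add_zero]) (by rw [polar_neg_right, hxc, neg_zero])]
      congr 1
      abel
    rw [hcomm]
    exact Subgroup.commutator_mem_commutator (sg_mem_XX hz (hc.smul _) hzs hkc)
      (sg_mem_XX hx hc hxs hxc)
  obtain ⟨c, hc, hxc, hyc, hQc⟩ := exists_nonsing_odd hQ (by omega) h2 h ha ha' hQa hx hy hxy
  -- a hyperbolic pair
  obtain ⟨z, hz0, hzs, hzp⟩ := exists_sing_perp (Q := Q) ![e, f, a, x, y] (by omega)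
  have hz : Pa Q e f a z := ⟨hzp 0, hzp 1, hzp 2⟩
  have hxz : polar Q x z = 0 := hzp 3
  have hyz : polar Q y z = 0 := hzp 4
  obtain ⟨z', hz', hzz', hxz', hyz'⟩ :=
    exists_perp_two hQ hd h ha ha' hQa hx hy hxy hz hz0 hzs hxz hyz
  set w1 := w0 - polar Q z' w0 • z - polar Q z w0 • z' with hw1
  have hw1P : Pa Q e f a w1 := (hw0P.sub (hz.smul _)).sub (hz'.smul _)
  have h3 : polar Q z w1 = 0 := polar_proj_left hzz' w0
  have h4 : polar Q z' w1 = 0 := polar_proj_right hzz' w0
  have h5 : polar Q x w1 = 0 := by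
    rw [hw1, polar_sub_right, polar_sub_right, polar_smul_right, polar_smul_right, hxw0, hxz, hxz']
    simp
  have h6 : polar Q y w1 = 0 := by
    rw [hw1, polar_sub_right, polar_sub_right, polar_smul_right, polar_smul_right, hyw0, hyz, hyz']
    simp
  have k1 := key (z + w1 - Q w1 • z') ((hz.add hw1P).sub (hz'.smul _)) (sing_vec hzz' h3 h4)
    (by rw [polar_sub_right, polar_add_right, polar_smul_right, hxz, h5, hxz']; simp)
    (by rw [polar_sub_right, polar_add_right, polar_smul_right, hyz, h6, hyz']; simp)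
  have k2 : ∀ c : F, sg Q x (c • z) ∈ ⁅XX Q e f a, XX Q e f a⁆ := fun c =>
    key (c • z) (hz.smul _) (by rw [QuadraticMap.map_smul, hzs, smul_zero])
      (by rw [polar_smul_right, hxz, smul_zero]) (by rw [polar_smul_right, hyz, smul_zero])
  have k3 : ∀ c : F, sg Q x (c • z') ∈ ⁅XX Q e f a, XX Q e f a⁆ := fun c =>
    key (c • z') (hz'.smul _) (by rw [QuadraticMap.map_smul, hzz'.right, smul_zero])
      (by rw [polar_smul_right, hxz', smul_zero]) (by rw [polar_smul_right, hyz', smul_zero])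
  have p2 : ∀ c : F, polar Q x (c • z) = 0 := fun c => by rw [polar_smul_right, hxz, smul_zero]
  have p3 : ∀ c : F, polar Q x (c • z') = 0 := fun c => by rw [polar_smul_right, hxz', smul_zero]
  have h7 : w0 = (z + w1 - Q w1 • z') + ((polar Q z' w0 - 1) • z + (polar Q z w0 + Q w1) • z') := by
    rw [hw1]; module
  rw [h7, ← sg_mul, ← sg_mul (p2 _) (p3 _)]
  · exact Subgroup.mul_mem _ k1 (Subgroup.mul_mem _ (k2 _) (k3 _))
  · rw [polar_sub_right, polar_add_right, polar_smul_right, hxz, h5, hxz']; simp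
  · rw [polar_add_right, p2, p3, add_zero]

/-- **`X2` is perfect, two elements, dimension at least eight.** -/
theorem X2_le (hQ : Nondeg Q) (hd : 8 ≤ Module.finrank F V) (hF : ∀ c : F, c = 0 ∨ c = 1)
    (h : Hyp Q e f) (ha : polar Q e a = 0) (ha' : polar Q f a = 0) (hQa : Q a ≠ 0) :
    X2 Q e f a ≤ ⁅X2 Q e f a, X2 Q e f a⁆ := by
  have htwo : (2 : F) = 0 := by
    rcases hF (-1) with h1 | h1
    · exact absurd (neg_eq_zero.1 h1) one_ne_zero
    · linear_combination -h1
  have hneg : ∀ u : V, -u = u := by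
    intro u
    have : (-(1 : F)) = 1 := by linear_combination (-(1 : F)) * htwo
    rw [← neg_one_smul F u, this, one_smul]
  have hdbl : ∀ u : V, u + u = 0 := by
    intro u
    have := hneg u
    nth_rewrite 1 [← this]
    exact neg_add_cancel u
  have hQa1 : Q a = 1 := (hF (Q a)).resolve_left hQa
  have haa : Pa Q e f a a := ⟨ha, ha', by rw [polar_self', htwo, zero_mul]⟩
  conv_lhs => rw [X2]
  rw [Subgroup.closure_le]
  rintro _ ⟨x, w, y, hx, hw, hy, hxy, hws, hw0, hxw, hyw, rfl⟩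
  obtain ⟨z, hz, hwz, hxz, hyz⟩ :=
    exists_perp_two hQ hd h ha ha' hQa hx hy hxy hw hw0 hws hxw hyw
  have hwx : polar Q w x = 0 := by rw [polar_comm]; exact hxw
  have hzx : polar Q z x = 0 := by rw [polar_comm]; exact hxz
  have hwax : polar Q w (a + x) = 0 := by rw [polar_add_right, hw.a', hwx, add_zero]
  have hxaz : polar Q x (a + z) = 0 := by rw [polar_add_right, hx.a', hxz, add_zero]
  have hQax : Q (a + x) = 1 := by rw [Q_add, hQa1, hxy.left, hx.a, add_zero, add_zero]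
  have e1 : sg Q w (a + x) x = x :=
    sg_fix hwx (by rw [polar_add_left, hx.a, hxy.polar_left, add_zero])
  have e2 : sg Q w (a + x) (a + z) = z + x + w := by
    rw [sg_apply hws hwax, polar_add_right, hw.a', hwz.pair, hQax, zero_add, mul_one, one_smul,
      one_smul, polar_add_left, polar_add_right, polar_add_right, haa.a, hz.a, hx.a', hxz, add_zero,
      add_zero, zero_smul, sub_zero]
    have h3 : a + z + (a + x) - w = (a + a) + (z + x + w) + -(w + w) := by abel
    rw [h3, hdbl, hdbl, neg_zero, zero_add, add_zero]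
  have hcomm : sg Q x (a + w) = ⁅sg Q w (a + x), sg Q x (a + z)⁆ := by
    rw [commutatorElement_def, sg_conj (sg_mem_O _ _), e1, e2, sg_inv hxaz, sg_mul (by
        rw [polar_add_right, polar_add_right, hxz, hxy.polar_left, hxw]; simp) (by
        rw [polar_neg_right, hxaz, neg_zero])]
    have h3 : z + x + w + -(a + z) = (a + w) + (1 : F) • x + -(a + a) := by
      rw [one_smul]; abel
    rw [h3, hdbl, neg_zero, add_zero, sg_add_smul hxy.left]
  rw [hcomm]
  exact Subgroup.commutator_mem_commutator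
    (sg_mem_X2 hw hx hz hwz hxy.left hxy.left_ne hwx hzx)
    (sg_mem_X2 hx hz hy hxy hwz.right hwz.right_ne hxz hyz)

end Fin

end Cfsg.Agent.H76.Perf
end

-- part: H76/Tri
section
/-!
# The trichotomy for the annihilators `AA ω`

If `mu a ≤ 4` for all nonsingular `a ∈ W`, then `AV ω` (the image of `AA ω` in `V`) is all of `W`,
or totally singular, or contained in a line `F a`.
-/

set_option autoImplicit false
set_option linter.unusedSectionVars false

namespace Cfsg.Agent.H76.Tri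

open QuadraticMap Cfsg.Agent.LieClassical.OrthCore Cfsg.Agent.LieClassical.OrthTrans
open Cfsg.Agent.H76.Trans Cfsg.Agent.H76.Alg Cfsg.Agent.H76.Act Cfsg.Agent.H76.Perf
open Cfsg.Agent.LieClassical.OrthFinite
open Cfsg.Agent.H75.OrthIdx (sg_eq sg_apply sg_mem_E sg_fix)

variable {F V : Type*} [Field F] [AddCommGroup V] [Module F V] {Q : QuadraticForm F V}
variable {e f : V} {Ω : Type*} [Finite F] [Finite V] [Finite Ω] [MulAction (E Q) Ω]
  (h : Hyp Q e f) {ψ : AddChar F ℂ}

variable (ψ) in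
/-- `AA ω` as a subgroup of `V`. -/
noncomputable def AV (ω : Ω) : AddSubgroup V :=
  (AA h ψ ω).map (W Q e f).subtype.toAddMonoidHom

theorem mem_AV {ω : Ω} {v : V} : v ∈ AV h ψ ω ↔ ∃ a : W Q e f, a ∈ AA h ψ ω ∧ (a : V) = v :=
  Iff.rfl

theorem coe_mem_AV {ω : Ω} {a : W Q e f} : (a : V) ∈ AV h ψ ω ↔ a ∈ AA h ψ ω := by
  rw [mem_AV]
  constructor
  · rintro ⟨b, hb, hab⟩
    rwa [← Subtype.ext hab]
  · intro ha
    exact ⟨a, ha, rfl⟩

theorem AV_e {ω : Ω} {v : V} (hv : v ∈ AV h ψ ω) : polar Q e v = 0 := by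
  obtain ⟨a, -, rfl⟩ := (mem_AV h).1 hv
  exact mem_W_e a

theorem AV_f {ω : Ω} {v : V} (hv : v ∈ AV h ψ ω) : polar Q f v = 0 := by
  obtain ⟨a, -, rfl⟩ := (mem_AV h).1 hv
  exact mem_W_f a

/-- The inclusion. -/
def incl (a : V) : Fx Q e f a →* (V ≃ₗ[F] V) := (E Q).subtype.comp (Fx Q e f a).subtype

theorem incl_injective (a : V) : Function.Injective (incl (Q := Q) (e := e) (f := f) a) := by
  intro x y hxy
  exact Subtype.ext (Subtype.ext hxy)

/-- **Key lemma A**, for perfect subgroups of `V ≃ₗ[F] V`. -/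
theorem stable_perf {a : V} (X : Subgroup (V ≃ₗ[F] V)) (hX : X ≤ ⁅X, X⁆)
    (hfix : ∀ g ∈ X, g ∈ E Q ∧ g e = e ∧ g f = f ∧ g a = a) (haW : a ∈ W Q e f)
    (hm : mu h ψ Ω ⟨a, haW⟩ ≤ 4) {ω : Ω} (ha : a ∈ AV h ψ ω) {g : V ≃ₗ[F] V} (hg : g ∈ X) {b : V}
    (hb : b ∈ AV h ψ ω) : g b ∈ AV h ψ ω := by
  obtain ⟨b', hb', rfl⟩ := (mem_AV h).1 hb
  have hXr : X ≤ (incl (Q := Q) (e := e) (f := f) a).range := by
    intro x hx
    obtain ⟨h1, h2, h3, h4⟩ := hfix x hx
    exact ⟨⟨⟨x, h1⟩, h2, h3, h4⟩, rfl⟩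
  set X' := X.comap (incl (Q := Q) (e := e) (f := f) a) with hX'
  have hmap : X'.map (incl a) = X := Subgroup.map_comap_eq_self hXr
  have hX1 : ⁅X', X'⁆ = X' := by
    apply Subgroup.map_injective (incl_injective (Q := Q) (e := e) (f := f) a)
    rw [Subgroup.map_commutator, hmap]
    apply le_antisymm _ hX
    rw [Subgroup.commutator_le]
    intro x hx y hy
    exact X.mul_mem (X.mul_mem (X.mul_mem hx hy) (X.inv_mem hx)) (X.inv_mem hy)
  obtain ⟨h1, h2, h3, h4⟩ := hfix g hg
  have hgW : g (b' : V) ∈ W Q e f := by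
    have hgO := E_le_O h1
    rw [mem_W]
    constructor
    · have := polar_map hgO e (b' : V)
      rw [h2] at this
      rw [this]; exact mem_W_e b'
    · have := polar_map hgO f (b' : V)
      rw [h3] at this
      rw [this]; exact mem_W_f b'
  rw [mem_AV]
  refine ⟨⟨g b', hgW⟩, ?_, rfl⟩
  exact stable h (a := ⟨a, haW⟩) X' hX1 hm ((coe_mem_AV h (a := ⟨a, haW⟩)).1 ha)
    (x := ⟨⟨g, h1⟩, h2, h3, h4⟩) hg hb' rfl

theorem XX_fix {a : V} (ha : polar Q e a = 0) (ha' : polar Q f a = 0) :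
    ∀ g ∈ XX Q e f a, g ∈ E Q ∧ g e = e ∧ g f = f ∧ g a = a := by
  intro g hg
  rw [XX] at hg
  induction hg using Subgroup.closure_induction with
  | mem g hg =>
    obtain ⟨x, w, hx, hw, hxs, hxw, rfl⟩ := hg
    exact ⟨sg_mem_E _ _, sg_fix hx.e' hw.e', sg_fix hx.f' hw.f', sg_fix hx.a' hw.a'⟩
  | one => exact ⟨Subgroup.one_mem _, rfl, rfl, rfl⟩
  | mul x y _ _ hx hy =>
    refine ⟨Subgroup.mul_mem _ hx.1 hy.1, ?_, ?_, ?_⟩
    · show x (y e) = e
      rw [hy.2.1, hx.2.1]
    · show x (y f) = f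
      rw [hy.2.2.1, hx.2.2.1]
    · show x (y a) = a
      rw [hy.2.2.2, hx.2.2.2]
  | inv x _ hx =>
    exact ⟨Subgroup.inv_mem _ hx.1, x.symm_apply_eq.2 hx.2.1.symm,
      x.symm_apply_eq.2 hx.2.2.1.symm, x.symm_apply_eq.2 hx.2.2.2.symm⟩

theorem X2_fix {a : V} (h2 : (2 : F) = 0) (ha : polar Q e a = 0) (ha' : polar Q f a = 0) :
    ∀ g ∈ X2 Q e f a, g ∈ E Q ∧ g e = e ∧ g f = f ∧ g a = a := by
  intro g hg
  rw [X2] at hg
  induction hg using Subgroup.closure_induction with
  | mem g hg =>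
    obtain ⟨x, w, y, hx, hw, hy, hxy, hws, hw0, hxw, hyw, rfl⟩ := hg
    refine ⟨sg_mem_E _ _, sg_fix hx.e' ?_, sg_fix hx.f' ?_, sg_fix hx.a' ?_⟩
    · rw [polar_add_left, polar_comm, ha, hw.e', add_zero]
    · rw [polar_add_left, polar_comm, ha', hw.f', add_zero]
    · rw [polar_add_left, polar_self', h2, zero_mul, hw.a', add_zero]
  | one => exact ⟨Subgroup.one_mem _, rfl, rfl, rfl⟩
  | mul x y _ _ hx hy =>
    refine ⟨Subgroup.mul_mem _ hx.1 hy.1, ?_, ?_, ?_⟩
    · show x (y e) = e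
      rw [hy.2.1, hx.2.1]
    · show x (y f) = f
      rw [hy.2.2.1, hx.2.2.1]
    · show x (y a) = a
      rw [hy.2.2.2, hx.2.2.2]
  | inv x _ hx =>
    exact ⟨Subgroup.inv_mem _ hx.1, x.symm_apply_eq.2 hx.2.1.symm,
      x.symm_apply_eq.2 hx.2.2.1.symm, x.symm_apply_eq.2 hx.2.2.2.symm⟩

/-- The dichotomy hypothesis: for nonsingular `a ∈ A`, `A ≤ F a` or `V_a ≤ A`. -/
def Dich (Q : QuadraticForm F V) (e f : V) (A : AddSubgroup V) : Prop :=
  ∀ a ∈ A, polar Q e a = 0 → polar Q f a = 0 → Q a ≠ 0 →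
    (∃ b ∈ A, polar Q e b = 0 ∧ polar Q f b = 0 ∧ ∀ c : F, b ≠ c • a) →
    ∀ v, Pa Q e f a v → v ∈ A

/-- The trichotomy. -/
def Trich (Q : QuadraticForm F V) (e f : V) (A : AddSubgroup V) : Prop :=
  (∀ v, polar Q e v = 0 → polar Q f v = 0 → v ∈ A) ∨ (∀ a ∈ A, Q a = 0) ∨
    ∃ a ∈ A, Q a ≠ 0 ∧ ∀ b ∈ A, ∃ c : F, b = c • a

theorem trich_of_dich (hQ : Nondeg Q) (hd : 6 ≤ Module.finrank F V) (h : Hyp Q e f)
    {A : AddSubgroup V} (hAe : ∀ v ∈ A, polar Q e v = 0) (hAf : ∀ v ∈ A, polar Q f v = 0)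
    (hA : Dich Q e f A) : Trich Q e f A := by
  by_cases h1 : ∀ a ∈ A, Q a = 0
  · exact Or.inr (Or.inl h1)
  push Not at h1
  obtain ⟨a, ha, hQa⟩ := h1
  by_cases h2 : ∀ b ∈ A, ∃ c : F, b = c • a
  · exact Or.inr (Or.inr ⟨a, ha, hQa, h2⟩)
  push Not at h2
  obtain ⟨b, hb, hne⟩ := h2
  left
  intro v hv hv'
  exact eq_top hQ hd h hA ha (hAe a ha) (hAf a ha) hQa hb (hAe b hb) (hAf b hb) hne hv hv'

/-- **The dichotomy, general case.** -/
theorem dich (hQ : Nondeg Q) (hd : 6 ≤ Module.finrank F V)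
    (hcase : (∃ l : F, l ≠ 0 ∧ l * l ≠ 1) ∨ 8 ≤ Module.finrank F V)
    (hm : ∀ a : W Q e f, Q (a : V) ≠ 0 → mu h ψ Ω a ≤ 4) (ω : Ω) : Dich Q e f (AV h ψ ω) := by
  intro a ha hae haf hQa ⟨b, hb, hbe, hbf, hne⟩ v hv
  have haW : a ∈ W Q e f := mem_W.2 ⟨hae, haf⟩
  have hma := hm ⟨a, haW⟩ hQa
  have inv_of : XX Q e f a ≤ ⁅XX Q e f a, XX Q e f a⁆ → Inv Q e f a (AV h ψ ω) := by
    intro hX x w hx hw hxs hxw b hb
    have h1 := stable_perf h (XX Q e f a) hX (XX_fix hae haf) haW hma ha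
      (sg_mem_XX hx hw hxs hxw) hb
    rw [sg_apply hxs hxw] at h1
    exact h1
  have fin : Inv Q e f a (AV h ψ ω) → ((2 : F) = 0 → ∃ m : F, m ≠ 0 ∧ m ≠ 1) →
      v ∈ AV h ψ ω := by
    intro hI h2
    by_cases htwo : (2 : F) = 0
    · obtain ⟨m, hm0, hm1⟩ := h2 htwo
      exact le_even hQ hd htwo hm0 hm1 h hae haf hQa hI hb hbe hbf hne hv
    · exact le_odd hQ hd htwo h hae haf hQa hI hb hbe hbf hne hv
  by_cases hl : ∃ l : F, l ≠ 0 ∧ l * l ≠ 1
  · obtain ⟨l, hl0, hl1⟩ := hl
    exact fin (inv_of (XX_le_four hQ hd h hae haf hQa hl0 hl1)) fun _ =>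
      ⟨l, hl0, fun h1 => hl1 (by rw [h1, one_mul])⟩
  · have hd8 := hcase.resolve_left hl
    push Not at hl
    by_cases htwo : (2 : F) = 0
    · have hF : ∀ c : F, c = 0 ∨ c = 1 := by
        intro c
        by_cases hc : c = 0
        · exact Or.inl hc
        · right
          have h1 := hl c hc
          have h2 : (c - 1) * (c - 1) = 0 := by linear_combination h1 - (c - 1) * htwo
          exact sub_eq_zero.1 (mul_self_eq_zero.1 h2)
      have hI : InvTwo Q e f a (AV h ψ ω) := by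
        intro x w y hx hw hy hxy hws hw0 hxw hyw b hb
        have h1 := stable_perf h (X2 Q e f a) (X2_le hQ hd8 hF h hae haf hQa)
          (X2_fix htwo hae haf) haW hma ha (sg_mem_X2 hx hw hy hxy hws hw0 hxw hyw) hb
        rw [sg_apply hxy.left (by rw [polar_add_right, hx.a', hxw, add_zero])] at h1
        exact h1
      exact le_two hQ hd8 hF h hae haf hQa hI ha hb hbe hbf hne hv
    · exact fin (inv_of (XX_le_odd hQ hd8 htwo h hae haf hQa)) fun h2 => absurd h2 htwo

end Cfsg.Agent.H76.Tri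
end

-- part: H76/Link
section
/-!
# Link with the subspaces `Ws`, `Us` of `H75.Geo`

The trichotomy for `AV` gives the hypotheses `Typ` and `Com` of `H75.OrthIdx.exists_stab`.
-/

set_option autoImplicit false
set_option linter.unusedSectionVars false

namespace Cfsg.Agent.H76.Link

open QuadraticMap Cfsg.Agent.LieClassical.OrthCore Cfsg.Agent.LieClassical.OrthTrans
open Cfsg.Agent.H76.Trans Cfsg.Agent.H76.Alg Cfsg.Agent.H76.Act Cfsg.Agent.H76.Tri
open Cfsg.Agent.LieClassical.OrthFinite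
open Cfsg.Agent.H75.OrthIdx (sg_eq sg_apply sg_mem_E sg_fix sg_add_smul sg_smul_self PP Bs mem_Bs Us Ws mem_Ws
  Typ Com perp mem_perp finrank_perp_add perp_perp le_perp_perp perp_anti span_ts addSubgroup_ts
  mem_Ws_of_perp self_mem_Us self_mem_Ws ts_sup finrank_span_pair_le perp_sup
  polar_eq_zero_of_ts le_perp_of_ts)

variable {F V : Type*} [Field F] [AddCommGroup V] [Module F V] {Q : QuadraticForm F V}
variable {e f : V} [Finite F] [Finite V]

instance finiteEquiv : Finite (V ≃ₗ[F] V) :=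
  Finite.of_injective (fun g : V ≃ₗ[F] V => (g : V → V)) DFunLike.coe_injective

variable (Q) in
/-- The coset space `E Q ⧸ H`. -/
abbrev Cos (H : Subgroup (V ≃ₗ[F] V)) : Type _ := E Q ⧸ H.subgroupOf (E Q)

instance finiteCos (H : Subgroup (V ≃ₗ[F] V)) : Finite (Cos Q H) := Quotient.finite _

variable (Q) in
/-- The base point. -/
def pt (H : Subgroup (V ≃ₗ[F] V)) : Cos Q H := QuotientGroup.mk 1

theorem smul_pt {H : Subgroup (V ≃ₗ[F] V)} {g : E Q} : g • pt Q H = pt Q H ↔ (g : V ≃ₗ[F] V) ∈ H := by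
  have h1 : g • pt Q H = (QuotientGroup.mk (g * 1) : Cos Q H) := rfl
  rw [h1, pt, QuotientGroup.eq, mul_one, mul_one, Subgroup.mem_subgroupOf, Subgroup.coe_inv]
  exact H.inv_mem_iff

theorem card_cos (H : Subgroup (V ≃ₗ[F] V)) : Nat.card (Cos Q H) = H.relIndex (E Q) := rfl

variable (h : Hyp Q e f) {ψ : AddChar F ℂ} {H : Subgroup (V ≃ₗ[F] V)}

theorem act_sg_coe (w : W Q e f) :
    (Act.sg h w : V ≃ₗ[F] V) = H75.OrthIdx.sg Q e (w : V) := by
  rw [Act.sg_coe, H75.OrthIdx.sg_eq h.left (mem_W_e w)]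

/-- `Us` is contained in the span of `e` and `AV`. -/
theorem Us_le (hQ : Nondeg Q) (hψ : ψ ≠ 0) :
    Us Q H e ≤ Submodule.span F (insert e (AV h ψ (pt Q H) : Set V)) := by
  set S := Submodule.span F (insert e (AV h ψ (pt Q H) : Set V)) with hS
  have h1 : perp Q S ≤ Ws Q H e := by
    intro v hv
    have hev : polar Q e v = 0 := hv e (Submodule.subset_span (Set.mem_insert _ _))
    have hav : ∀ a ∈ AV h ψ (pt Q H), polar Q a v = 0 := fun a ha =>
      hv a (Submodule.subset_span (Set.mem_insert_of_mem _ ha))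
    rw [mem_Ws]
    refine ⟨hev, fun c => ?_⟩
    set v0 := v + (-polar Q f v) • e with hv0
    have hv0W : c • v0 ∈ W Q e f := by
      apply (W Q e f).smul_mem
      rw [mem_W, hv0]
      constructor
      · rw [polar_add_right, polar_smul_right, hev, h.polar_left, smul_zero, add_zero]
      · rw [polar_add_right, polar_smul_right, h.pair', smul_eq_mul, mul_one, add_neg_cancel]
    have h2 : H75.OrthIdx.sg Q e (c • v) = H75.OrthIdx.sg Q e (c • v0) := by
      rw [hv0, smul_add, smul_smul, sg_add_smul h.left]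
    rw [h2, ← act_sg_coe h ⟨c • v0, hv0W⟩, ← smul_pt]
    apply smul_eq_of_ann h (ψ := ψ) hQ hψ
    intro a ha
    have h3 := hav a ((coe_mem_AV h).2 ha)
    have h4 : polar Q (a : V) e = 0 := by rw [polar_comm]; exact mem_W_e a
    show ψ (polar Q (a : V) (c • v0)) = 1
    rw [hv0, polar_smul_right, polar_add_right, polar_smul_right, h3, h4, smul_zero, add_zero,
      smul_zero, AddChar.map_zero_eq_one]
  intro x hx
  rw [← perp_perp hQ S]
  exact perp_anti h1 hx

theorem psi_of_mem_AV {Ω : Type*} [Finite Ω] [MulAction (E Q) Ω] {ω : Ω} {v : V}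
    (hv : v ∈ AV h ψ ω) {b : W Q e f} (hb : Act.sg h b • ω = ω) : ψ (polar Q v (b : V)) = 1 := by
  obtain ⟨a, ha, rfl⟩ := (mem_AV h).1 hv
  exact (mem_AA h).1 ha b hb

/-- If `AV ω` is everything, `ω` has trivial stabiliser in `Q_e`. -/
theorem eq_zero_of_top {Ω : Type*} [Finite Ω] [MulAction (E Q) Ω] {ω : Ω} (hQ : Nondeg Q)
    (hψ : ψ ≠ 0) (hall : ∀ v, polar Q e v = 0 → polar Q f v = 0 → v ∈ AV h ψ ω) {b : W Q e f}
    (hb : Act.sg h b • ω = ω) : b = 0 := by
  apply bW_nondeg hQ h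
  intro a
  by_contra hne
  rw [bW_apply] at hne
  apply hψ
  ext c
  have h4 := psi_of_mem_AV h (hall ((c / polar Q (a : V) (b : V)) • (a : V))
      (by rw [polar_smul_right, mem_W_e, smul_zero])
      (by rw [polar_smul_right, mem_W_f, smul_zero])) hb
  rw [polar_smul_left, smul_eq_mul, div_mul_cancel₀ _ hne] at h4
  rw [h4]; rfl

theorem not_top_of_PP (hQ : Nondeg Q) (hψ : ψ ≠ 0) (he : e ∈ PP Q H) :
    ¬ ∀ v, polar Q e v = 0 → polar Q f v = 0 → v ∈ AV h ψ (pt Q H) := by
  intro hall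
  obtain ⟨-, -, v, hv, hvn⟩ := he
  rw [mem_Bs] at hv
  set v0 := v + (-polar Q f v) • e with hv0
  have hv0W : v0 ∈ W Q e f := by
    rw [mem_W, hv0]
    constructor
    · rw [polar_add_right, polar_smul_right, hv.1, h.polar_left, smul_zero, add_zero]
    · rw [polar_add_right, polar_smul_right, h.pair', smul_eq_mul, mul_one, add_neg_cancel]
  have h2 : Act.sg h ⟨v0, hv0W⟩ • pt Q H = pt Q H := by
    rw [smul_pt, act_sg_coe]
    show H75.OrthIdx.sg Q e v0 ∈ H
    rw [hv0, sg_add_smul h.left]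
    exact hv.2
  have h3 := eq_zero_of_top h hQ hψ hall h2
  have h4 : v0 = 0 := congrArg Subtype.val h3
  apply hvn
  rw [Submodule.mem_span_singleton]
  refine ⟨polar Q f v, ?_⟩
  have h5 : v = v0 + polar Q f v • e := by rw [hv0]; module
  rw [h5, h4, zero_add, polar_smul_right, h.pair', smul_eq_mul, mul_one]

/-- The dichotomy for all hyperbolic pairs. -/
def AllDich (Q : QuadraticForm F V) (Ω : Type*) [Finite Ω] [MulAction (E Q) Ω]
    (ψ : AddChar F ℂ) : Prop :=
  ∀ (e f : V) (h : Hyp Q e f) (ω : Ω), Dich Q e f (AV h ψ ω)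

theorem trich (hQ : Nondeg Q) (hd : 6 ≤ Module.finrank F V) {Ω : Type*} [Finite Ω]
    [MulAction (E Q) Ω] (hdi : AllDich Q Ω ψ) (ω : Ω) : Trich Q e f (AV h ψ ω) :=
  trich_of_dich hQ hd h (fun _ hv => AV_e h hv) (fun _ hv => AV_f h hv) (hdi e f h ω)

/-- **The type hypothesis.** -/
theorem typ (hQ : Nondeg Q) (hd : 6 ≤ Module.finrank F V) (hψ : ψ ≠ 0)
    (hdi : AllDich Q (Cos Q H) ψ) : Typ Q H := by
  intro e he
  obtain ⟨f, h⟩ := exists_hyp hQ he.2.1 he.1
  rcases trich h hQ hd hdi (pt Q H) with h1 | h1 | ⟨a, ha, hQa, h1⟩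
  · exact absurd h1 (not_top_of_PP h hQ hψ he)
  · left
    intro x hx
    refine span_ts ?_ ?_ x (Us_le h hQ hψ hx)
    · rintro y (rfl | hy)
      · exact h.left
      · exact h1 y hy
    · rintro y (rfl | hy) z (rfl | hz)
      · exact h.polar_left
      · exact AV_e h hz
      · rw [polar_comm]; exact AV_e h hy
      · exact addSubgroup_ts h1 hy hz
  · right
    refine ⟨a, hQa, AV_e h ha, (Us_le h hQ hψ).trans ?_⟩
    rw [Submodule.span_le]
    rintro y (rfl | hy)
    · exact Submodule.subset_span (by simp)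
    · obtain ⟨c, rfl⟩ := h1 y hy
      exact Submodule.smul_mem _ _ (Submodule.subset_span (by simp))

/-- Totally singular subspaces have dimension at most `finrank V / 2 - 1`. -/
def Minus (Q : QuadraticForm F V) : Prop :=
  ∀ T : Submodule F V, (∀ x ∈ T, Q x = 0) → 2 * Module.finrank F T + 2 ≤ Module.finrank F V

/-- **The hypothesis `Com`.** -/
theorem com (hQ : Nondeg Q) (hd : 6 ≤ Module.finrank F V) (hM : Minus Q) (hT : Typ Q H) :
    Com Q H := by
  intro e f he hf h
  set X := Us Q H e ⊔ Us Q H f with hX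
  set R := perp Q X with hR
  by_contra hcon
  push Not at hcon
  have hRts : ∀ x ∈ R, Q x = 0 := by
    intro x hx
    by_contra hxQ
    refine hcon x hxQ (mem_Ws_of_perp hQ fun y hy => hx y ?_) (mem_Ws_of_perp hQ fun y hy => hx y ?_)
    · exact Submodule.mem_sup_left hy
    · exact Submodule.mem_sup_right hy
  have heX : e ∈ X := Submodule.mem_sup_left self_mem_Us
  have hfX : f ∈ X := Submodule.mem_sup_right self_mem_Us
  have hdim : Module.finrank F X + Module.finrank F R = Module.finrank F V := by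
    rw [add_comm]; exact finrank_perp_add hQ X
  have hRX : R ≤ X := by
    have h1 : R ≤ perp Q R := le_perp_of_ts hRts
    rwa [hR, perp_perp hQ] at h1
  -- `R` has dimension at most `m - 2`
  have hR2 : 2 * Module.finrank F R + 4 ≤ Module.finrank F V := by
    have h1 := hM (R ⊔ Submodule.span F {e}) (ts_sup hRts (by
      intro x hx
      obtain ⟨c, rfl⟩ := Submodule.mem_span_singleton.1 hx
      rw [QuadraticMap.map_smul, h.left, smul_zero]) (by
      intro a ha b hb
      obtain ⟨c, rfl⟩ := Submodule.mem_span_singleton.1 hb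
      rw [polar_smul_right, polar_comm, ha e heX, smul_zero]))
    have h2 : R < R ⊔ Submodule.span F {e} := by
      refine lt_of_le_of_ne le_sup_left fun heq => ?_
      have h3 : e ∈ R := by
        rw [heq]; exact Submodule.mem_sup_right (Submodule.mem_span_singleton_self e)
      have h4 := h3 f hfX
      rw [h.pair'] at h4
      exact one_ne_zero h4
    have h3 := Submodule.finrank_lt_finrank_of_lt h2
    omega
  have hXd := Submodule.finrank_add_le_finrank_add_finrank (Us Q H e) (Us Q H f)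
  rw [← hX] at hXd
  rcases hT e he with h1 | ⟨a, -, -, h1⟩ <;> rcases hT f hf with h2 | ⟨b, -, -, h2⟩
  · have h3 := hM (Us Q H e ⊔ R) (ts_sup h1 hRts fun a ha b hb => hb a (Submodule.mem_sup_left ha))
    have h4 := hM (Us Q H f ⊔ R) (ts_sup h2 hRts fun a ha b hb => hb a (Submodule.mem_sup_right ha))
    have h5 := Submodule.finrank_sup_add_finrank_inf_eq (Us Q H e ⊔ R) (Us Q H f ⊔ R)
    have h6 : Module.finrank F X ≤ Module.finrank F ↥((Us Q H e ⊔ R) ⊔ (Us Q H f ⊔ R)) :=
      Submodule.finrank_mono (sup_le (le_sup_left.trans le_sup_left)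
        (le_sup_left.trans le_sup_right))
    have h7 : Module.finrank F R ≤ Module.finrank F ↥((Us Q H e ⊔ R) ⊓ (Us Q H f ⊔ R)) :=
      Submodule.finrank_mono (le_inf le_sup_right le_sup_right)
    omega
  · have h3 := hM (Us Q H e) h1
    have h4 := (Submodule.finrank_mono h2).trans (finrank_span_pair_le f b)
    omega
  · have h3 := hM (Us Q H f) h2
    have h4 := (Submodule.finrank_mono h1).trans (finrank_span_pair_le e a)
    omega
  · have h3 := (Submodule.finrank_mono h1).trans (finrank_span_pair_le e a)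
    have h4 := (Submodule.finrank_mono h2).trans (finrank_span_pair_le f b)
    omega

end Cfsg.Agent.H76.Link
end

-- part: H76/Num
section
/-!
# Numerical data for the minus type, and `mu ≤ 4`
-/

set_option autoImplicit false
set_option linter.unusedSectionVars false

namespace Cfsg.Agent.H76.Num

open QuadraticMap Cfsg.Agent.LieClassical.OrthCore Cfsg.Agent.LieClassical.OrthTrans
open Cfsg.Agent.LieClassical.OrthForms
open Cfsg.Agent.H76.Trans Cfsg.Agent.H76.Act Cfsg.Agent.H76.Tri Cfsg.Agent.H76.Link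
open Cfsg.Agent.H75.OrthIdx (ncard_norm_perp_sing)

variable {F V : Type*} [Field F] [AddCommGroup V] [Module F V] {Q : QuadraticForm F V}
variable [Finite F] [Finite V]

/-- Numerical data of the minus type in dimension `2 m`. -/
structure MinusCount (Q : QuadraticForm F V) (m : ℕ) : Prop where
  finrank : Module.finrank F V = 2 * m
  three : 3 ≤ m
  zero : {v : V | Q v = 0}.ncard + Nat.card F ^ m = Nat.card F ^ (2 * m - 1) + Nat.card F ^ (m - 1)
  ne_zero : ∀ c : F, c ≠ 0 → {v : V | Q v = c}.ncard =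
    Nat.card F ^ (2 * m - 1) + Nat.card F ^ (m - 1)
  minus : Minus Q

variable {e f : V}

theorem ncard_W (h : Hyp Q e f) (c : F) : {w : V | polar Q e w = 0 ∧ Q w = c}.ncard =
    Nat.card F * {w : W Q e f | Q (w : V) = c}.ncard := by
  have h1 : {w : V | polar Q e w = 0 ∧ Q w = c} =
      (fun p : F × W Q e f => (p.2 : V) + p.1 • e) ''
        (Set.univ ×ˢ {w : W Q e f | Q (w : V) = c}) := by
    ext w
    constructor
    · rintro ⟨hw, hwc⟩
      have hW : w + (-polar Q f w) • e ∈ W Q e f := by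
        rw [mem_W]
        constructor
        · rw [polar_add_right, polar_smul_right, hw, h.polar_left, smul_zero, add_zero]
        · rw [polar_add_right, polar_smul_right, h.pair', smul_eq_mul, mul_one, add_neg_cancel]
      refine ⟨(polar Q f w, ⟨_, hW⟩), ⟨Set.mem_univ _, ?_⟩, ?_⟩
      · show Q (w + (-polar Q f w) • e) = c
        rw [Q_add, QuadraticMap.map_smul, h.left, polar_smul_right, polar_comm Q w e, hw, smul_zero,
          smul_zero, add_zero, add_zero, hwc]
      · show w + (-polar Q f w) • e + polar Q f w • e = w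
        module
    · rintro ⟨⟨t, w⟩, ⟨-, hw⟩, rfl⟩
      have hw' : Q (w : V) = c := hw
      refine ⟨?_, ?_⟩
      · show polar Q e ((w : V) + t • e) = 0
        rw [polar_add_right, polar_smul_right, h.polar_left, mem_W_e, smul_zero, add_zero]
      · show Q ((w : V) + t • e) = c
        rw [Q_add, QuadraticMap.map_smul, h.left, polar_smul_right, polar_comm Q (w : V) e,
          mem_W_e, smul_zero, smul_zero, add_zero, add_zero, hw']
  rw [h1, Set.ncard_image_of_injective, Set.ncard_prod, Set.ncard_univ]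
  rintro ⟨t, w⟩ ⟨t', w'⟩ hh
  have h2 : (w : V) + t • e = (w' : V) + t' • e := hh
  have h3 := congrArg (polar Q f) h2
  rw [polar_add_right, polar_add_right, polar_smul_right, polar_smul_right, mem_W_f, mem_W_f,
    h.pair', smul_eq_mul, smul_eq_mul, mul_one, mul_one, zero_add, zero_add] at h3
  subst h3
  rw [Subtype.ext (add_right_cancel h2)]

theorem two_le_card : 2 ≤ Nat.card F := Finite.one_lt_card

theorem MinusCount.ncard_W_ne {m : ℕ} (hC : MinusCount Q m) (hQ : Nondeg Q) (h : Hyp Q e f)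
    {c : F} (hc : c ≠ 0) : {w : W Q e f | Q (w : V) = c}.ncard =
      Nat.card F ^ (2 * m - 3) + Nat.card F ^ (m - 2) := by
  have h1 := ncard_norm_perp_sing hQ h c
  rw [ncard_W h c, hC.ne_zero c hc, hC.finrank] at h1
  have hq := two_le_card (F := F)
  obtain ⟨k, hk⟩ : ∃ k, m = k + 3 := ⟨m - 3, by have := hC.three; omega⟩
  subst hk
  have e1 : 2 * (k + 3) - 2 = 2 * k + 4 := by omega
  have e2 : 2 * (k + 3) - 1 = 2 * k + 5 := by omega
  have e3 : k + 3 - 1 = k + 2 := by omega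
  have e4 : 2 * (k + 3) - 3 = 2 * k + 3 := by omega
  have e5 : k + 3 - 2 = k + 1 := by omega
  rw [e1, e2, e3] at h1
  rw [e4, e5]
  obtain ⟨r, hr⟩ : ∃ r, Nat.card F = r + 1 := ⟨Nat.card F - 1, by omega⟩
  rw [hr, Nat.add_sub_cancel] at h1
  rw [hr]
  refine Nat.eq_of_mul_eq_mul_left (show 0 < r + 1 by omega) ?_
  refine Nat.add_right_cancel (m := r * (r + 1) ^ (2 * k + 4)) (h1.trans ?_)
  ring

theorem MinusCount.ncard_W_zero {m : ℕ} (hC : MinusCount Q m) (hQ : Nondeg Q) (h : Hyp Q e f) :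
    {w : W Q e f | Q (w : V) = 0}.ncard + Nat.card F ^ (m - 1) =
      Nat.card F ^ (2 * m - 3) + Nat.card F ^ (m - 2) := by
  have h1 := ncard_norm_perp_sing hQ h 0
  have h0 := hC.zero
  rw [ncard_W h 0, hC.finrank] at h1
  rw [← h1] at h0
  have hq := two_le_card (F := F)
  obtain ⟨k, hk⟩ : ∃ k, m = k + 3 := ⟨m - 3, by have := hC.three; omega⟩
  subst hk
  have e1 : 2 * (k + 3) - 2 = 2 * k + 4 := by omega
  have e2 : 2 * (k + 3) - 1 = 2 * k + 5 := by omega
  have e3 : k + 3 - 1 = k + 2 := by omega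
  have e4 : 2 * (k + 3) - 3 = 2 * k + 3 := by omega
  have e5 : k + 3 - 2 = k + 1 := by omega
  rw [e1, e2, e3] at h0
  rw [e3, e4, e5]
  obtain ⟨r, hr⟩ : ∃ r, Nat.card F = r + 1 := ⟨Nat.card F - 1, by omega⟩
  rw [hr, Nat.add_sub_cancel] at h0
  rw [hr]
  refine Nat.eq_of_mul_eq_mul_left (show 0 < r + 1 by omega) ?_
  refine Nat.add_right_cancel (m := r * (r + 1) ^ (2 * k + 4)) ?_
  refine Eq.trans ?_ (h0.trans ?_) <;> ring

/-! ### Bounds for `mu` -/

section mu

variable {Ω : Type*} [Finite Ω] [MulAction (E Q) Ω] (h : Hyp Q e f) {ψ : AddChar F ℂ}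

theorem sum_mu_le (hQ : Nondeg Q) (hψ : ψ ≠ 0) (S : Finset (W Q e f)) :
    ∑ a ∈ S, mu h ψ Ω a ≤ Nat.card Ω := by
  have := Fintype.ofFinite (W Q e f)
  rw [card_eq_sum_mu h (Ω := Ω) hQ hψ]
  exact Finset.sum_le_sum_of_subset (Finset.subset_univ S)

open Classical in
/-- the values of the norm in the class of `c` -/
noncomputable def cls [Fintype F] (c : F) : Finset F :=
  (Finset.univ.erase (0 : F)).image fun r => r * r * c

theorem card_cls [Fintype F] {c : F} (hc : c ≠ 0) :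
    Nat.card F - 1 ≤ (cls c).card * 2 := by
  classical
  have h1 : (Finset.univ.erase (0 : F)).card ≤ 2 * (cls c).card := by
    rw [cls]
    refine Finset.card_le_mul_card_image _ 2 fun d hd => ?_
    obtain ⟨r, hr, rfl⟩ := Finset.mem_image.1 hd
    refine (Finset.card_le_card (t := ({r, -r} : Finset F)) fun s hs => ?_).trans
      (Finset.card_le_two)
    rw [Finset.mem_filter] at hs
    have h3 : (s - r) * (s + r) = 0 := by
      have h4 : (s - r) * (s + r) * c = 0 := by linear_combination hs.2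
      exact (mul_eq_zero.1 h4).resolve_right hc
    rw [Finset.mem_insert, Finset.mem_singleton]
    rcases mul_eq_zero.1 h3 with h4 | h4
    · exact Or.inl (sub_eq_zero.1 h4)
    · exact Or.inr (eq_neg_of_add_eq_zero_left h4)
  rw [Finset.card_erase_of_mem (Finset.mem_univ _), Finset.card_univ,
    ← Nat.card_eq_fintype_card] at h1
  omega

theorem cls_pos [Fintype F] (c : F) : 1 ≤ (cls c).card := by
  classical
  rw [cls, Nat.one_le_iff_ne_zero, Finset.card_ne_zero]
  exact ⟨1 * 1 * c, Finset.mem_image_of_mem _ (Finset.mem_erase.2 ⟨one_ne_zero, Finset.mem_univ _⟩)⟩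

theorem cls_mul_le [Fintype F] (hG : Good Q) {m : ℕ} (hC : MinusCount Q m) (hψ : ψ ≠ 0)
    {a : W Q e f} (hQa : Q (a : V) ≠ 0) :
    (cls (Q (a : V))).card * (Nat.card F ^ (2 * m - 3) + Nat.card F ^ (m - 2)) *
      mu h ψ Ω a ≤ Nat.card Ω := by
  classical
  have := Fintype.ofFinite (W Q e f)
  have hd : 6 ≤ Module.finrank F V := by rw [hC.finrank]; have := hC.three; omega
  set S : Finset (W Q e f) := (cls (Q (a : V))).biUnion fun c =>
    Finset.univ.filter fun w : W Q e f => Q (w : V) = c with hS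
  have hcls : ∀ c ∈ cls (Q (a : V)), ∃ r : F, r ≠ 0 ∧ c = r * r * Q (a : V) := by
    intro c hc
    rw [cls, Finset.mem_image] at hc
    obtain ⟨r, hr, rfl⟩ := hc
    exact ⟨r, Finset.ne_of_mem_erase hr, rfl⟩
  have hScard : S.card = (cls (Q (a : V))).card *
      (Nat.card F ^ (2 * m - 3) + Nat.card F ^ (m - 2)) := by
    rw [hS, Finset.card_biUnion]
    · rw [Finset.sum_const_nat (m := Nat.card F ^ (2 * m - 3) + Nat.card F ^ (m - 2))]
      intro c hc
      obtain ⟨r, hr, rfl⟩ := hcls c hc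
      rw [← hC.ncard_W_ne hG.nondeg h (mul_ne_zero (mul_ne_zero hr hr) hQa),
        Set.ncard_eq_toFinset_card']
      congr 1
      ext w
      simp
    · intro c _ c' _ hne
      rw [Function.onFun, Finset.disjoint_left]
      intro w hw hw'
      rw [Finset.mem_filter] at hw hw'
      exact hne (hw.2.symm.trans hw'.2)
  have hsum : ∑ b ∈ S, mu h ψ Ω b = S.card * mu h ψ Ω a := by
    rw [Finset.sum_const_nat]
    intro b hb
    rw [hS, Finset.mem_biUnion] at hb
    obtain ⟨c, hc, hb⟩ := hb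
    obtain ⟨r, hr, rfl⟩ := hcls c hc
    have hb2 := (Finset.mem_filter.1 hb).2
    refine mu_congr h hG hd ?_ ?_ hr hb2
    · rintro rfl
      exact hQa (QuadraticMap.map_zero Q)
    · rintro rfl
      have h3 : Q ((0 : W Q e f) : V) = 0 := QuadraticMap.map_zero Q
      rw [h3] at hb2
      exact mul_ne_zero (mul_ne_zero hr hr) hQa hb2.symm
  rw [← hScard, ← hsum]
  exact sum_mu_le h hG.nondeg hψ S

theorem mu_le_four (hG : Good Q) {m : ℕ} (hC : MinusCount Q m) (hψ : ψ ≠ 0)
    (hn : (Nat.card F - 1) * Nat.card Ω < (Nat.card F ^ m + 1) * (Nat.card F ^ (m - 1) - 1))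
    (a : W Q e f) (hQa : Q (a : V) ≠ 0) : mu h ψ Ω a ≤ 4 := by
  have := Fintype.ofFinite F
  by_contra hcon
  have h5 : 5 ≤ mu h ψ Ω a := by omega
  have h1 := cls_mul_le h (Ω := Ω) hG hC hψ hQa
  have h2 := card_cls hQa
  have h3 := cls_pos (Q (a : V))
  have hq := two_le_card (F := F)
  obtain ⟨k, hk⟩ : ∃ k, m = k + 3 := ⟨m - 3, by have := hC.three; omega⟩
  subst hk
  have e2 : 2 * (k + 3) - 3 = 2 * k + 3 := by omega
  have e3 : k + 3 - 1 = k + 2 := by omega
  have e5 : k + 3 - 2 = k + 1 := by omega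
  rw [e3] at hn
  rw [e2, e5] at h1
  obtain ⟨r, hr⟩ : ∃ r, Nat.card F = r + 1 := ⟨Nat.card F - 1, by omega⟩
  rw [hr] at h1 h2 hn
  rw [Nat.add_sub_cancel] at h2 hn
  set s := (cls (Q (a : V))).card with hs
  set N := Nat.card Ω with hN
  set u := mu h ψ Ω a with hu
  have hr1 : 1 ≤ r := by omega
  -- `(r + 1)^2 ≤ 5 s r`
  have h6 : (r + 1) ^ 2 ≤ 5 * s * r := by
    rcases Nat.lt_or_ge r 2 with h7 | h7
    · have : r = 1 := by omega
      subst this
      nlinarith
    · nlinarith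
  have h7 : (r + 1) ^ (k + 2) - 1 ≤ (r + 1) ^ (k + 2) := Nat.sub_le _ _
  have h8 : (r + 1) ^ 2 * ((r + 1) ^ (2 * k + 3) + (r + 1) ^ (k + 1)) ≤
      r * N := by
    calc (r + 1) ^ 2 * ((r + 1) ^ (2 * k + 3) + (r + 1) ^ (k + 1))
        ≤ (5 * s * r) * ((r + 1) ^ (2 * k + 3) + (r + 1) ^ (k + 1)) := Nat.mul_le_mul_right _ h6
      _ = r * (s * ((r + 1) ^ (2 * k + 3) + (r + 1) ^ (k + 1)) * 5) := by ring
      _ ≤ r * (s * ((r + 1) ^ (2 * k + 3) + (r + 1) ^ (k + 1)) * u) :=
          Nat.mul_le_mul_left _ (Nat.mul_le_mul_left _ h5)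
      _ ≤ r * N := Nat.mul_le_mul_left _ h1
  have h9 : ((r + 1) ^ (k + 3) + 1) * ((r + 1) ^ (k + 2) - 1) ≤
      (r + 1) ^ 2 * ((r + 1) ^ (2 * k + 3) + (r + 1) ^ (k + 1)) := by
    have h10 : (r + 1) ^ (k + 2) ≤ (r + 1) ^ (k + 3) :=
      Nat.pow_le_pow_right (by omega) (by omega)
    calc ((r + 1) ^ (k + 3) + 1) * ((r + 1) ^ (k + 2) - 1)
        ≤ ((r + 1) ^ (k + 3) + 1) * (r + 1) ^ (k + 2) := Nat.mul_le_mul_left _ h7
      _ = (r + 1) ^ 2 * (r + 1) ^ (2 * k + 3) + (r + 1) ^ (k + 2) := by ring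
      _ ≤ (r + 1) ^ 2 * (r + 1) ^ (2 * k + 3) + (r + 1) ^ (k + 3) := Nat.add_le_add_left h10 _
      _ = _ := by ring
  omega

/-- **The dichotomy for small index, general case.** -/
theorem allDich (hG : Good Q) {m : ℕ} (hC : MinusCount Q m) (hψ : ψ ≠ 0)
    (hn : (Nat.card F - 1) * Nat.card Ω < (Nat.card F ^ m + 1) * (Nat.card F ^ (m - 1) - 1))
    (hcase : (∃ l : F, l ≠ 0 ∧ l * l ≠ 1) ∨ 4 ≤ m) : AllDich Q Ω ψ := by
  intro e f h ω
  refine dich h hG.nondeg (by rw [hC.finrank]; have := hC.three; omega) ?_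
    (mu_le_four h hG hC hψ hn) ω
  rcases hcase with h1 | h1
  · exact Or.inl h1
  · right; rw [hC.finrank]; omega

end mu

/-! ### The form `quadFormMinus` -/

section form

variable {F : Type*} [Field F] [Fintype F] {a b : F}
  (hab : ∀ z₁ z₂ : F, z₁ ^ 2 + a * z₁ * z₂ + b * z₂ ^ 2 = 0 → z₁ = 0 ∧ z₂ = 0)

include hab in
theorem minusCount (k : ℕ) (hk : 2 ≤ k) : MinusCount (minusForm k F a b) (k + 1) where
  finrank := by
    rw [Module.finrank_fintype_fun_eq_card]
    simp only [Fintype.card_sum, Fintype.card_fin]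
    omega
  three := by omega
  zero := by
    have h := BinCount.card_minusForm hab k 0
    rw [BinCount.card_bf_zero hab] at h
    have hq : 0 < Nat.card F := Nat.card_pos
    refine Nat.eq_of_mul_eq_mul_left hq ?_
    have e1 : 2 * (k + 1) - 1 = 2 * k + 1 := by omega
    rw [e1, Nat.add_sub_cancel]
    calc _ = _ := by ring
      _ = _ := h
      _ = _ := by ring
  ne_zero := by
    intro c hc
    have h := BinCount.card_minusForm hab k c
    rw [BinCount.card_bf hab hc, ← Nat.card_eq_fintype_card] at h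
    have hq : 0 < Nat.card F := Nat.card_pos
    refine Nat.eq_of_mul_eq_mul_left hq ?_
    have e1 : 2 * (k + 1) - 1 = 2 * k + 1 := by omega
    rw [e1, Nat.add_sub_cancel]
    refine Nat.add_right_cancel (m := Nat.card F ^ (k + 2)) (h.trans ?_)
    ring
  minus := by
    intro T hT
    have h1 := BinCount.finrank_ts_le hab k T hT
    have h2 : Module.finrank F ((Fin k ⊕ Fin k) ⊕ Fin 2 → F) = 2 * k + 2 := by
      rw [Module.finrank_fintype_fun_eq_card]
      simp only [Fintype.card_sum, Fintype.card_fin]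
      omega
    omega

include hab in
theorem good_minusForm (k : ℕ) (hk : 2 ≤ k) : Good (minusForm k F a b) :=
  Cfsg.Agent.LieClassical.OrthFinite.good_of_finite (nondeg_minusForm k F a b hab) (by
    rw [(minusCount hab k hk).finrank]; omega)

end form

end Cfsg.Agent.H76.Num
end
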