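import Cfsg.Agent.H76.MainFour
import Cfsg.Agent.H76.Num
import Cfsg.Agent.S0303
set_option linter.all false

-- part: H76/ThreeGen
section
/-!
# The case `m = 3`

`lower_three` : the lower bound for `m = 3`, given the dichotomy and the existence of nontrivial
Siegel transformations in subgroups of small index.
-/

set_option autoImplicit false
set_option linter.unusedSectionVars false

namespace Cfsg.Agent.H76.ThreeGen

open QuadraticMap Cfsg.Agent.LieClassical.OrthCore Cfsg.Agent.LieClassical.OrthTrans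
open Cfsg.Agent.LieClassical.OrthFinite
open Cfsg.Agent.H76.Trans Cfsg.Agent.H76.Act Cfsg.Agent.H76.Tri Cfsg.Agent.H76.Link
open Cfsg.Agent.H76.Num Cfsg.Agent.H76.Lower
open Cfsg.Agent.H75.OrthIdx

variable {F V : Type*} [Field F] [AddCommGroup V] [Module F V] {Q : QuadraticForm F V}

/-- `H75.OrthIdx.exists_stab` when all `Us` are totally singular (any dimension). -/
theorem exists_stab_ts [Finite F] [FiniteDimensional F V] (hQ : Nondeg Q)
    {H : Subgroup (V ≃ₗ[F] V)} (hH : H ≤ E Q) (hne : ¬ E Q ≤ H) (hcom : Com Q H)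
    (hts : ∀ e ∈ PP Q H, ∀ x ∈ Us Q H e, Q x = 0) (hPP : ∃ e, e ∈ PP Q H) :
    ∃ T : Submodule F V, T ≠ ⊥ ∧ (∀ h ∈ H, ∀ x ∈ T, h x ∈ T) ∧ ∀ x ∈ T, Q x = 0 := by
  have hT : Typ Q H := fun e he => Or.inl (hts e he)
  by_cases hopp : ∀ e ∈ PP Q H, ∀ f ∈ PP Q H, polar Q e f = 0
  · -- no opposite pairs
    refine ⟨Submodule.span F (PP Q H), ?_, ?_, span_ts (fun x hx => hx.2.1) hopp⟩
    · obtain ⟨e, he⟩ := hPP
      intro h1
      have h2 : e ∈ Submodule.span F (PP Q H) := Submodule.subset_span he
      rw [h1] at h2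
      exact he.1 ((Submodule.mem_bot F).1 h2)
    · intro h hh x hx
      induction hx using Submodule.span_induction with
      | mem s hs => exact Submodule.subset_span (PP_map hH hh hs)
      | zero => rw [map_zero]; exact Submodule.zero_mem _
      | add a b _ _ ha hb => rw [map_add]; exact Submodule.add_mem _ ha hb
      | smul c a _ ha => rw [map_smul]; exact Submodule.smul_mem _ _ ha
  · push Not at hopp
    obtain ⟨e, he, f0, hf0, hef0⟩ := hopp
    set c := (polar Q e f0)⁻¹ with hc
    have hc0 : c ≠ 0 := inv_ne_zero hef0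
    set f := c • f0 with hf'
    have hf : f ∈ PP Q H := PP_smul hf0 hc0
    have h : Hyp Q e f := ⟨he.2.1, hf.2.1, by
      rw [hf', polar_smul_right, smul_eq_mul, hc, inv_mul_cancel₀ hef0]⟩
    set T := perp Q (Submodule.span F (PP Q H)) with hTdef
    have hTinv : ∀ h ∈ H, ∀ x ∈ T, h x ∈ T := by
      intro k hk x hx
      rw [hTdef, perp_span]
      intro p hp
      have hkO := E_le_O (hH hk)
      have h1 : k⁻¹ p ∈ PP Q H := PP_map hH (H.inv_mem hk) hp
      have h2 : polar Q (k⁻¹ p) x = 0 := (perp_span _ _).1 hx _ h1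
      have h3 : k (k⁻¹ p) = p := LinearEquiv.apply_symm_apply k p
      rw [← h3, polar_map hkO]; exact h2
    have hTe : ∀ x ∈ T, x ∈ Us Q H e := by
      intro x hx
      have hx' : ∀ p ∈ PP Q H, polar Q p x = 0 := (perp_span _ _).1 hx
      intro w hw
      have h1 := hx' _ (PP_map hH (Ws.sg_mem hw) hf)
      rw [sg_apply h.left hw.1, h.pair] at h1
      simp only [polar_sub_left, polar_add_left, polar_smul_left, hx' f hf, hx' e he,
        smul_eq_mul, mul_zero, sub_zero, zero_add, one_mul] at h1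
      exact h1
    obtain ⟨u, hu0, hue, huf⟩ : ∃ u, u ≠ 0 ∧ u ∈ Us Q H e ∧ u ∈ Us Q H f := by
      by_contra hcon
      push Not at hcon
      apply hne
      have hall : ∀ e f : V, e ∈ PP Q H → f ∈ PP Q H → Hyp Q e f →
          (∀ u, u ≠ 0 → u ∈ Us Q H e → u ∉ Us Q H f) →
          ∀ v, polar Q e v = 0 → sg Q e v ∈ H := by
        intro e f he hf h hcon v hv
        have hef : polar Q e f ≠ 0 := by rw [h.pair]; exact one_ne_zero
        apply Ws.sg_mem
        apply mem_Ws_of_perp hQ
        intro y hy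
        obtain ⟨h1, h2, h3⟩ := eq_smul_add_of_perp h (polar_of_mem_Us h.left hy)
        set y0 := y - polar Q f y • e with hy0
        have h4 : y0 ∈ Us Q H e := Submodule.sub_mem _ hy (Submodule.smul_mem _ _ self_mem_Us)
        have h5 : y0 ∈ Us Q H f := Us_opp' hH hcom he hf hef h4 h3
        have h6 : y0 = 0 := by
          by_contra h6
          exact hcon y0 h6 h4 h5
        rw [h1, h6, add_zero, polar_smul_left, hv, smul_zero]
      refine E_le_of_opp hQ h (hall e f he hf h hcon) (hall f e hf he h.symm ?_)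
      intro u hu hu1 hu2
      exact hcon u hu hu2 hu1
    refine ⟨T, ?_, hTinv, fun x hx => hts e he x (hTe x hx)⟩
    intro h1
    have h2 : u ∈ T := by
      rw [hTdef, perp_span]
      intro p hp
      rw [polar_comm]
      exact claim_ts hQ hH hcom hT he hf h (hts e he) hue huf hp
    rw [h1] at h2
    exact hu0 ((Submodule.mem_bot F).1 h2)

variable [Finite F] [Finite V]

/-- a nonsingular `w ∈ ⟨e, f⟩^⊥` not orthogonal to `u` and not in `F u` -/
theorem exists_w (hQ : Nondeg Q) (hd : 6 ≤ Module.finrank F V) (hM : Minus Q) {e f u : V}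
    (h : Hyp Q e f) (heu : polar Q e u = 0) (hfu : polar Q f u = 0) (hu0 : u ≠ 0) :
    ∃ w, polar Q e w = 0 ∧ polar Q f w = 0 ∧ Q w ≠ 0 ∧ polar Q u w ≠ 0 ∧ ∀ c : F, w ≠ c • u := by
  have hfd : FiniteDimensional F V := Module.finite_of_finrank_pos (by omega)
  obtain ⟨v, hv⟩ := hQ.exists_polar_eq hu0 1
  have huv : polar Q u (proj Q e f v) = 1 := by rw [polar_proj_of_perp heu hfu, hv]
  -- `y ∉ F u`
  obtain ⟨y, hey, hfy, huy, hyu⟩ : ∃ y, polar Q e y = 0 ∧ polar Q f y = 0 ∧ polar Q u y = 1 ∧
      ∀ c : F, y ≠ c • u := by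
    by_cases hy : ∀ c : F, proj Q e f v ≠ c • u
    · exact ⟨_, polar_proj_left h v, polar_proj_right h v, huv, hy⟩
    · push Not at hy
      obtain ⟨c, hc⟩ := hy
      obtain ⟨z, hz0, hz⟩ := exists_perp_ne (Q := Q) ![e, f, u] (by omega)
      have z0 : polar Q e z = 0 := hz 0
      have z1 : polar Q f z = 0 := hz 1
      have z2 : polar Q u z = 0 := hz 2
      refine ⟨proj Q e f v + z, ?_, ?_, ?_, ?_⟩
      · rw [polar_add_right, polar_proj_left h, z0, add_zero]
      · rw [polar_add_right, polar_proj_right h, z1, add_zero]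
      · rw [polar_add_right, huv, z2, add_zero]
      · intro d hd'
        rw [hc] at hd' huv
        have h1 : z = (d - c) • u := by
          rw [sub_smul, ← hd']; abel
        rw [h1, polar_smul_right, smul_eq_mul] at z2
        rw [polar_smul_right, smul_eq_mul] at huv
        have h2 : polar Q u u ≠ 0 := by
          intro h3
          rw [h3, mul_zero] at huv
          exact zero_ne_one huv
        rw [(mul_eq_zero.1 z2).resolve_right h2, zero_smul] at h1
        exact hz0 h1
  by_cases hQy : Q y = 0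
  swap
  · exact ⟨y, hey, hfy, hQy, by rw [huy]; exact one_ne_zero, hyu⟩
  -- a nonsingular `z` orthogonal to `e, f, u, y`
  obtain ⟨z, hz, hQz⟩ : ∃ z ∈ perps Q ![e, f, u, y], Q z ≠ 0 := by
    by_contra hcon
    push Not at hcon
    set R := perps Q ![e, f, u, y] with hR
    have hRd := finrank_perps (Q := Q) ![e, f, u, y]
    rw [← hR] at hRd
    have h1 := hM (R ⊔ Submodule.span F {e}) (ts_sup hcon (by
      intro x hx
      obtain ⟨c, rfl⟩ := Submodule.mem_span_singleton.1 hx
      rw [QuadraticMap.map_smul, h.left, smul_zero]) (by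
      intro r hr b hb
      obtain ⟨c, rfl⟩ := Submodule.mem_span_singleton.1 hb
      have h2 : polar Q e r = 0 := mem_perps.1 hr 0
      rw [polar_smul_right, polar_comm, h2, smul_zero]))
    have h3 : R < R ⊔ Submodule.span F {e} := by
      refine lt_of_le_of_ne le_sup_left fun heq => ?_
      have h3 : e ∈ R := by
        rw [heq]; exact Submodule.mem_sup_right (Submodule.mem_span_singleton_self e)
      have h4 : polar Q f e = 0 := mem_perps.1 h3 1
      rw [h.pair'] at h4
      exact one_ne_zero h4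
    have h4 := Submodule.finrank_lt_finrank_of_lt h3
    omega
  have z0 : polar Q e z = 0 := mem_perps.1 hz 0
  have z1 : polar Q f z = 0 := mem_perps.1 hz 1
  have z2 : polar Q u z = 0 := mem_perps.1 hz 2
  have z3 : polar Q y z = 0 := mem_perps.1 hz 3
  refine ⟨y + z, ?_, ?_, ?_, ?_, ?_⟩
  · rw [polar_add_right, hey, z0, add_zero]
  · rw [polar_add_right, hfy, z1, add_zero]
  · rw [Q_add, hQy, z3, zero_add, add_zero]; exact hQz
  · rw [polar_add_right, huy, z2, add_zero]; exact one_ne_zero
  · intro d hd'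
    have h1 : z = d • u - y := by rw [← hd']; abel
    have h2 : d = 0 := by
      have h3 := z3
      rw [h1, polar_sub_right, polar_smul_right, polar_comm Q y u, huy, smul_eq_mul, mul_one,
        polar_self_of_sing hQy, sub_zero] at h3
      exact h3
    rw [h2, zero_smul, zero_sub] at h1
    rw [h1, QuadraticMap.map_neg] at hQz
    exact hQz hQy

/-- If all singular points are in `PP`, then `H` contains `E Q`. -/
theorem all_PP (hQ : Nondeg Q) (hd : 6 ≤ Module.finrank F V) (hM : Minus Q)
    {H : Subgroup (V ≃ₗ[F] V)} (hH : H ≤ E Q) (hcom : Com Q H) (hT : Typ Q H)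
    (hall : ∀ x, x ≠ 0 → Q x = 0 → x ∈ PP Q H) {e f : V} (h : Hyp Q e f) : E Q ≤ H := by
  have hfd : FiniteDimensional F V := Module.finite_of_finrank_pos (by omega)
  have he := hall e h.left_ne h.left
  have hf := hall f h.right_ne h.right
  by_cases hcon : ∀ u, u ≠ 0 → u ∈ Us Q H e → u ∉ Us Q H f
  · have hall : ∀ e f : V, e ∈ PP Q H → f ∈ PP Q H → Hyp Q e f →
        (∀ u, u ≠ 0 → u ∈ Us Q H e → u ∉ Us Q H f) →
        ∀ v, polar Q e v = 0 → sg Q e v ∈ H := by
      intro e f he hf h hcon v hv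
      have hef : polar Q e f ≠ 0 := by rw [h.pair]; exact one_ne_zero
      apply Ws.sg_mem
      apply mem_Ws_of_perp hQ
      intro y hy
      obtain ⟨h1, h2, h3⟩ := eq_smul_add_of_perp h (polar_of_mem_Us h.left hy)
      set y0 := y - polar Q f y • e with hy0
      have h4 : y0 ∈ Us Q H e := Submodule.sub_mem _ hy (Submodule.smul_mem _ _ self_mem_Us)
      have h5 : y0 ∈ Us Q H f := Us_opp' hH hcom he hf hef h4 h3
      have h6 : y0 = 0 := by
        by_contra h6
        exact hcon y0 h6 h4 h5
      rw [h1, h6, add_zero, polar_smul_left, hv, smul_zero]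
    refine E_le_of_opp hQ h (hall e f he hf h hcon) (hall f e hf he h.symm ?_)
    intro u hu hu1 hu2
    exact hcon u hu hu2 hu1
  · exfalso
    push Not at hcon
    obtain ⟨u, hu0, hue, huf⟩ := hcon
    have heu : polar Q e u = 0 := polar_of_mem_Us h.left hue
    have hfu : polar Q f u = 0 := polar_of_mem_Us h.right huf
    obtain ⟨w, hew, hfw, hQw, huw, hwu⟩ := exists_w hQ hd hM h heu hfu hu0
    -- `g = e - Q w • f + w`
    set g := e + (-Q w) • f + w with hg
    have hwe : polar Q w e = 0 := by rw [polar_comm]; exact hew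
    have hwf : polar Q w f = 0 := by rw [polar_comm]; exact hfw
    have hQg : Q g = 0 := by
      rw [hg, Q_add, Q_add, QuadraticMap.map_smul, h.left, h.right, polar_add_left,
        polar_smul_left, polar_smul_right, h.pair, hew, hfw]
      simp only [smul_eq_mul]
      ring
    have heg : polar Q e g = -Q w := by
      rw [hg, polar_add_right, polar_add_right, polar_smul_right, h.polar_left, h.pair, hew,
        smul_eq_mul]
      ring
    have hfg : polar Q f g = 1 := by
      rw [hg, polar_add_right, polar_add_right, polar_smul_right, h.polar_right, h.pair', hfw,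
        smul_eq_mul]
      ring
    have hug : polar Q u g = polar Q u w := by
      rw [hg, polar_add_right, polar_add_right, polar_smul_right, polar_comm Q u e, heu,
        polar_comm Q u f, hfu, smul_eq_mul]
      ring
    have hg0 : g ≠ 0 := by
      intro h0
      rw [h0, polar_zero_right] at hfg
      exact zero_ne_one hfg
    have hgP := hall g hg0 hQg
    have hQw' : -Q w ≠ 0 := neg_ne_zero.2 hQw
    have heg0 : polar Q e g ≠ 0 := by rw [heg]; exact hQw'
    have hfg0 : polar Q f g ≠ 0 := by rw [hfg]; exact one_ne_zero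
    set α := polar Q u w / (-Q w) with hα
    set β := polar Q u w with hβ
    have hα0 : α ≠ 0 := div_ne_zero huw hQw'
    have t1 : u - α • e ∈ Us Q H g := by
      apply Us_opp' hH hcom he hgP heg0
        (Submodule.sub_mem _ hue (Submodule.smul_mem _ _ self_mem_Us))
      rw [polar_sub_right, polar_smul_right, polar_comm Q g u, polar_comm Q g e, hug, heg, hα,
        smul_eq_mul, div_mul_cancel₀ _ hQw', sub_self]
    have t2 : u - β • f ∈ Us Q H g := by
      apply Us_opp' hH hcom hf hgP hfg0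
        (Submodule.sub_mem _ huf (Submodule.smul_mem _ _ self_mem_Us))
      rw [polar_sub_right, polar_smul_right, polar_comm Q g u, polar_comm Q g f, hug, hfg,
        smul_eq_mul, mul_one, sub_self]
    have t3 : β • f - α • e ∈ Us Q H g := by
      have := Submodule.sub_mem _ t1 t2
      have h1 : u - α • e - (u - β • f) = β • f - α • e := by abel
      rwa [h1] at this
    have hQt3 : Q (β • f - α • e) ≠ 0 := by
      rw [sub_eq_add_neg, ← neg_smul, Q_add, QuadraticMap.map_smul, QuadraticMap.map_smul, h.left,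
        h.right, polar_smul_left, polar_smul_right, h.pair']
      simp only [smul_eq_mul, mul_zero, mul_one, zero_add]
      exact mul_ne_zero huw (neg_ne_zero.2 hα0)
    rcases hT g hgP with hts | ⟨b, hb, hgb, hUg⟩
    · exact hQt3 (hts _ t3)
    · -- three independent vectors in a plane
      have hli : LinearIndependent F ![g, u - α • e, β • f - α • e] := by
        rw [Fintype.linearIndependent_iff]
        intro c hc
        rw [Fin.sum_univ_three] at hc
        have hc' : c 0 • g + c 1 • (u - α • e) + c 2 • (β • f - α • e) = 0 := hc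
        have k0 : c 0 = 0 := by
          by_contra hne
          -- `w ∈ F u`
          have h1 : c 0 • w + c 1 • u = (c 1 * α + c 2 * α - c 0) • e +
              (c 0 * Q w - c 2 * β) • f := by
            have h2 : c 0 • w + c 1 • u = (c 0 • g + c 1 • (u - α • e) +
              c 2 • (β • f - α • e)) + (c 1 * α + c 2 * α - c 0) • e +
                (c 0 * Q w - c 2 * β) • f := by rw [hg]; module
            rw [h2, hc', zero_add]
          have h3 := congrArg (polar Q f) h1
          have h4 := congrArg (polar Q e) h1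
          simp only [polar_add_right, polar_smul_right, hfw, hfu, h.pair', h.polar_right,
            smul_eq_mul, mul_zero, mul_one, add_zero] at h3
          simp only [polar_add_right, polar_smul_right, hew, heu, h.pair, h.polar_left,
            smul_eq_mul, mul_zero, mul_one, add_zero, zero_add] at h4
          rw [← h3, ← h4, zero_smul, zero_smul, add_zero] at h1
          apply hwu (-(c 0)⁻¹ * c 1)
          have h5 : w = (c 0)⁻¹ • (c 0 • w + c 1 • u) + (-(c 0)⁻¹ * c 1) • u := by
            rw [smul_add, smul_smul, inv_mul_cancel₀ hne]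
            module
          rw [h1, smul_zero, zero_add] at h5
          exact h5
        rw [k0, zero_smul, zero_add] at hc'
        have k1 : c 1 = 0 := by
          have h1 : c 1 • u = (c 1 * α + c 2 * α) • e - (c 2 * β) • f := by
            have h2 : c 1 • u = (c 1 • (u - α • e) + c 2 • (β • f - α • e)) +
              (c 1 * α + c 2 * α) • e - (c 2 * β) • f := by module
            rw [h2, hc', zero_add]
          have h3 := congrArg (polar Q f) h1
          have h4 := congrArg (polar Q e) h1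
          simp only [polar_sub_right, polar_smul_right, hfu, h.pair', h.polar_right,
            smul_eq_mul, mul_zero, mul_one, sub_zero] at h3
          simp only [polar_sub_right, polar_smul_right, heu, h.pair, h.polar_left,
            smul_eq_mul, mul_zero, mul_one, zero_sub] at h4
          have h5 : c 2 * β = 0 := neg_eq_zero.1 h4.symm
          rw [← h3, h5, zero_smul, zero_smul, sub_zero] at h1
          exact (smul_eq_zero.1 h1).resolve_right hu0
        rw [k1, zero_smul, zero_add] at hc'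
        have k2 : c 2 = 0 := by
          refine (smul_eq_zero.1 hc').resolve_right ?_
          intro h0
          rw [h0, QuadraticMap.map_zero] at hQt3
          exact hQt3 rfl
        intro i
        fin_cases i
        · exact k0
        · exact k1
        · exact k2
      have h1 := finrank_span_eq_card hli
      rw [Fintype.card_fin] at h1
      have h2 : Submodule.span F (Set.range ![g, u - α • e, β • f - α • e]) ≤ Us Q H g := by
        rw [Submodule.span_le]
        rintro _ ⟨i, rfl⟩
        fin_cases i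
        · exact self_mem_Us
        · exact t1
        · exact t3
      have h3 := Submodule.finrank_mono (h2.trans hUg)
      have h4 := finrank_span_pair_le (F := F) g b
      omega

end Cfsg.Agent.H76.ThreeGen
end

-- part: H76/LowerThree
section
/-!
# The lower bound for `m = 3`

`lower_three` : the lower bound for `m = 3`, given the dichotomy for all small index and the
existence of nontrivial Siegel transformations.
-/

set_option autoImplicit false
set_option linter.unusedSectionVars false

namespace Cfsg.Agent.H76.LowerThree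

open QuadraticMap Cfsg.Agent.LieClassical.OrthCore Cfsg.Agent.LieClassical.OrthTrans
open Cfsg.Agent.LieClassical.OrthFinite
open Cfsg.Agent.H76.Trans Cfsg.Agent.H76.Act Cfsg.Agent.H76.Tri Cfsg.Agent.H76.Link
open Cfsg.Agent.H76.Num Cfsg.Agent.H76.Lower Cfsg.Agent.H76.ThreeGen
open Cfsg.Agent.H75.OrthIdx

variable {F V : Type*} [Field F] [AddCommGroup V] [Module F V] {Q : QuadraticForm F V}
variable {e f : V} [Finite F] [Finite V]

section mu

variable {Ω : Type*} [Finite Ω] [MulAction (E Q) Ω] (h : Hyp Q e f) {ψ : AddChar F ℂ}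

/-- Two points with different annihilators containing `a`. -/
theorem two_le_mu {a : W Q e f} {ω ω' : Ω} (ha : a ∈ AA h ψ ω) (ha' : a ∈ AA h ψ ω')
    (hne : AA h ψ ω ≠ AA h ψ ω') : 2 ≤ mu h ψ Ω a := by
  have : Finite (Dual.Orb (W Q e f) (Om h Ω)) := Quotient.finite _
  by_contra hcon
  have h1 : Nat.card (Sa h ψ Ω a) ≤ 1 := by
    have h0 : Nat.card (Sa h ψ Ω a) = mu h ψ Ω a := rfl
    omega
  have h2 : Subsingleton (Sa h ψ Ω a) := (Finite.card_le_one_iff_subsingleton).1 h1
  have h3 : (⟨Quotient.mk'' (show Om h Ω from ω), ha⟩ : Sa h ψ Ω a) =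
      ⟨Quotient.mk'' (show Om h Ω from ω'), ha'⟩ := Subsingleton.elim _ _
  exact hne (congrArg (Dual.AO ψ (bW Q e f)) (congrArg Subtype.val h3))

theorem pow_four_le_card_W (hd : Module.finrank F V = 6) :
    Nat.card F ^ 4 ≤ Nat.card (W Q e f) := by
  have hfd : FiniteDimensional F V := Module.finite_of_finrank_pos (by omega)
  have h1 := finrank_perps (Q := Q) ![e, f]
  rw [hd] at h1
  have h2 : Nat.card (W Q e f) = Nat.card F ^ Module.finrank F (W Q e f) :=
    Module.natCard_eq_pow_finrank (K := F) (V := W Q e f)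
  rw [h2]
  exact Nat.pow_le_pow_right (by have := two_le_card (F := F); omega) (by
    show 4 ≤ Module.finrank F (perps Q ![e, f])
    omega)

/-- If there is a point with trivial annihilator stabiliser, and another with a proper annihilator
containing a nonsingular vector, then `|Ω|` is large. -/
theorem card_ge (hG : Good Q) (hC : MinusCount Q 3) (hψ : ψ ≠ 0) {ω ω' : Ω}
    (htop : ∀ b : W Q e f, b ∈ AA h ψ ω') {a : W Q e f} (ha : a ∈ AA h ψ ω)
    (hQa : Q (a : V) ≠ 0) (hne : AA h ψ ω ≠ AA h ψ ω') :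
    Nat.card F ^ 4 + Nat.card F ^ 3 + Nat.card F + 1 ≤ Nat.card Ω := by
  classical
  have := Fintype.ofFinite (W Q e f)
  have hd : Module.finrank F V = 6 := hC.finrank
  have h0 : ∀ b : W Q e f, 1 ≤ mu h ψ Ω b := fun b => mu_pos h (htop b)
  have h1 : 2 ≤ mu h ψ Ω a := two_le_mu h ha (htop a) hne
  have h2 : 2 ≤ mu h ψ Ω 0 := two_le_mu h (AddSubgroup.zero_mem _) (htop 0) hne
  have ha0 : a ≠ 0 := by
    rintro rfl
    exact hQa (QuadraticMap.map_zero Q)
  have h3 : ∀ b : W Q e f, Q (b : V) = Q (a : V) → 2 ≤ mu h ψ Ω b := by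
    intro b hb
    rw [mu_congr h hG (by omega) ha0 (b := b) (r := 1) ?_ one_ne_zero (by rw [hb]; ring)]
    · exact h1
    · rintro rfl
      exact hQa (hb.symm.trans (QuadraticMap.map_zero Q))
  set S : Finset (W Q e f) := insert 0 (Finset.univ.filter fun w : W Q e f => Q (w : V) = Q (a : V))
    with hS
  have hScard : S.card = Nat.card F ^ 3 + Nat.card F + 1 := by
    rw [hS, Finset.card_insert_of_notMem]
    · have h4 := hC.ncard_W_ne hG.nondeg h hQa
      rw [Set.ncard_eq_toFinset_card'] at h4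
      have h5 : (Finset.univ.filter fun w : W Q e f => Q (w : V) = Q (a : V)) =
          Set.toFinset {w : W Q e f | Q (w : V) = Q (a : V)} := by
        ext w; simp
      rw [h5, h4]
      norm_num
    · rw [Finset.mem_filter]
      rintro ⟨-, h4⟩
      exact hQa (h4.symm.trans (QuadraticMap.map_zero Q))
  have h5 : ∑ b : W Q e f, (1 + if b ∈ S then 1 else 0) ≤ ∑ b : W Q e f, mu h ψ Ω b := by
    apply Finset.sum_le_sum
    intro b _
    split_ifs with hb
    · rw [hS, Finset.mem_insert] at hb
      rcases hb with rfl | hb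
      · exact h2
      · exact h3 b (Finset.mem_filter.1 hb).2
    · exact h0 b
  rw [← card_eq_sum_mu h (Ω := Ω) hG.nondeg hψ, Finset.sum_add_distrib, Finset.sum_const,
    smul_eq_mul, mul_one, Finset.card_univ, ← Nat.card_eq_fintype_card, Finset.sum_ite_mem,
    Finset.univ_inter, Finset.sum_const, smul_eq_mul, mul_one, hScard] at h5
  have h6 := pow_four_le_card_W (Q := Q) (e := e) (f := f) hd
  omega

end mu

/-- `AA` at the translate of the base point is everything, if `H` contains no nontrivial Siegel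
transformation with centre `x`. -/
theorem exists_top (hG : Good Q) (h : Hyp Q e f) {ψ : AddChar F ℂ} {H : Subgroup (V ≃ₗ[F] V)}
    {x : V} (hx0 : x ≠ 0) (hx : Q x = 0) (hxP : x ∉ PP Q H) :
    ∃ ω : Cos Q H, ∀ b : W Q e f, b ∈ AA h ψ ω := by
  obtain ⟨g, hg, hgx⟩ := hG.trans_sing hx h.left hx0 h.left_ne
  refine ⟨(⟨g, hg⟩ : E Q) • pt Q H, fun a b hb => ?_⟩
  have h1 : ((⟨g, hg⟩ : E Q)⁻¹ * Act.sg h b * (⟨g, hg⟩ : E Q)) • pt Q H = pt Q H := by
    have hb' : Act.sg h b • ((⟨g, hg⟩ : E Q) • pt Q H) = (⟨g, hg⟩ : E Q) • pt Q H := hb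
    rw [mul_smul, mul_smul, hb', inv_smul_smul]
  rw [smul_pt, Subgroup.coe_mul, Subgroup.coe_mul, Subgroup.coe_inv, act_sg_coe] at h1
  have hgO : g⁻¹ ∈ O Q := (O Q).inv_mem (E_le_O hg)
  have h2 := sg_conj hgO e (b : V)
  rw [inv_inv] at h2
  have hgx' : g⁻¹ e = x := by
    rw [← hgx]; exact LinearEquiv.symm_apply_apply g x
  have h3 : g⁻¹ * Cfsg.Agent.H75.OrthIdx.sg Q e (b : V) * g ∈ H := h1
  rw [h2, hgx'] at h3
  have h4 : g⁻¹ (b : V) ∈ Bs Q H x := by
    rw [mem_Bs]
    refine ⟨?_, h3⟩
    rw [← hgx', polar_map hgO]; exact mem_W_e b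
  have h5 : g⁻¹ (b : V) ∈ Submodule.span F {x} := by
    by_contra hcon
    exact hxP ⟨hx0, hx, _, h4, hcon⟩
  obtain ⟨c, hc⟩ := Submodule.mem_span_singleton.1 h5
  have h6 : (b : V) = c • e := by
    have h7 : g (g⁻¹ (b : V)) = (b : V) := LinearEquiv.apply_symm_apply g _
    rw [← h7, ← hc, map_smul, hgx]
  have h7 : c = 0 := by
    have h8 := mem_W_f b
    rw [h6, polar_smul_right, h.pair', smul_eq_mul, mul_one] at h8
    exact h8
  rw [h7, zero_smul] at h6
  show ψ (polar Q (a : V) (b : V)) = 1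
  rw [h6, polar_zero_right, AddChar.map_zero_eq_one]

/-- **The lower bound, `m = 3`.** -/
theorem lower_three (hG : Good Q) (hC : MinusCount Q 3) {ψ : AddChar F ℂ} (hψ : ψ ≠ 0)
    (hdi : ∀ H' : Subgroup (V ≃ₗ[F] V),
      (Nat.card F - 1) * H'.relIndex (E Q) < bd (Nat.card F) 3 → AllDich Q (Cos Q H') ψ)
    {H : Subgroup (V ≃ₗ[F] V)} (hHE : H ≤ E Q) (hne : ¬ E Q ≤ H)
    (hPP : (Nat.card F - 1) * H.relIndex (E Q) < bd (Nat.card F) 3 → ∃ e, e ∈ PP Q H) :
    bd (Nat.card F) 3 ≤ (Nat.card F - 1) * H.relIndex (E Q) := by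
  have hfd : FiniteDimensional F V := Module.finite_of_finrank_pos (by rw [hC.finrank]; omega)
  have hd : 6 ≤ Module.finrank F V := by rw [hC.finrank]
  have hQ := hG.nondeg
  by_contra hcon
  push Not at hcon
  have htyp : ∀ H' : Subgroup (V ≃ₗ[F] V),
      (Nat.card F - 1) * H'.relIndex (E Q) < bd (Nat.card F) 3 → Typ Q H' := fun H' hH' =>
    typ hQ hd hψ (hdi H' hH')
  have hT := htyp H hcon
  have hcom := com hQ hd hC.minus hT
  by_cases hts : ∀ e ∈ PP Q H, ∀ x ∈ Us Q H e, Q x = 0
  · obtain ⟨T, hT0, hTH, hTs⟩ := exists_stab_ts hQ hHE hne hcom hts (hPP hcon)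
    have := lower_ts hG hC htyp hHE hT0 hTH hTs
    omega
  · push Not at hts
    obtain ⟨e, he, x, hx, hQx⟩ := hts
    obtain ⟨f, h⟩ := exists_hyp hQ he.2.1 he.1
    apply hne
    refine all_PP hQ hd hC.minus hHE hcom hT (fun y hy0 hy => ?_) h
    by_contra hyP
    obtain ⟨ω', hω'⟩ := exists_top hG h (ψ := ψ) hy0 hy hyP
    have hntop := not_top_of_PP h hQ hψ he
    have hntop' : AA h ψ (pt Q H) ≠ AA h ψ ω' := by
      intro heq
      apply hntop
      intro v hv hv'
      rw [mem_AV]
      refine ⟨⟨v, mem_W.2 ⟨hv, hv'⟩⟩, ?_, rfl⟩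
      rw [heq]
      exact hω' _
    obtain ⟨a, ha, hQa⟩ : ∃ a ∈ AV h ψ (pt Q H), Q a ≠ 0 := by
      rcases trich h hQ hd (hdi H hcon) (pt Q H) with h1 | h1 | ⟨a, ha, hQa, -⟩
      · exact absurd h1 hntop
      · exfalso
        apply hQx
        refine span_ts ?_ ?_ x (Us_le h hQ hψ hx)
        · rintro y (rfl | hy)
          · exact h.left
          · exact h1 y hy
        · rintro y (rfl | hy) z (rfl | hz)
          · exact h.polar_left
          · exact AV_e h hz
          · rw [polar_comm]; exact AV_e h hy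
          · exact addSubgroup_ts h1 hy hz
      · exact ⟨a, ha, hQa⟩
    obtain ⟨a', ha', rfl⟩ := (mem_AV h).1 ha
    have h1 := card_ge h hG hC hψ hω' ha' hQa hntop'
    rw [card_cos] at h1
    have hq := two_le_card (F := F)
    obtain ⟨r, hr⟩ : ∃ r, Nat.card F = r + 1 := ⟨Nat.card F - 1, by omega⟩
    rw [hr, Nat.add_sub_cancel, bd] at hcon
    rw [hr] at h1
    have h2 : (r + 1) ^ (3 - 1) - 1 = r * (r + 2) := by
      have : (r + 1) ^ (3 - 1) = r * (r + 2) + 1 := by ring
      omega
    rw [h2] at hcon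
    have h3 : r * ((r + 1) ^ 4 + (r + 1) ^ 3 + (r + 1) + 1) ≤ r * H.relIndex (E Q) :=
      Nat.mul_le_mul_left _ h1
    have h4 : r * ((r + 1) ^ 4 + (r + 1) ^ 3 + (r + 1) + 1) =
        ((r + 1) ^ 3 + 1) * (r * (r + 2)) := by ring
    omega

end Cfsg.Agent.H76.LowerThree
end

-- part: H76/ThreeStab
section
/-!
# Elements of order three and the dichotomy for the field with three elements
-/

set_option autoImplicit false
set_option linter.unusedSectionVars false

namespace Cfsg.Agent.H76.ThreeStab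

open QuadraticMap Cfsg.Agent.LieClassical.OrthCore Cfsg.Agent.LieClassical.OrthTrans
open Cfsg.Agent.LieClassical.OrthFinite
open Cfsg.Agent.H76.Trans Cfsg.Agent.H76.Alg Cfsg.Agent.H76.Act Cfsg.Agent.H76.Tri
open Cfsg.Agent.H76.Link Cfsg.Agent.H76.Num
open Cfsg.Agent.H75.OrthIdx (sg_eq sg_apply sg_mem_E sg_fix sg_mul sg_zero)

variable {F V : Type*} [Field F] [AddCommGroup V] [Module F V] {Q : QuadraticForm F V}
variable {e f : V} [Finite F] [Finite V]

section mu

variable {Ω : Type*} [Finite Ω] [MulAction (E Q) Ω] (h : Hyp Q e f) {ψ : AddChar F ℂ}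

/-- an element of order three of a group acting on a set with at most two elements -/
theorem smul_eq_of_card_le_two {G Y : Type*} [Group G] [MulAction G Y] [Finite Y]
    (hY : Nat.card Y ≤ 2) {x : G} (hx : x * x * x = 1) (o : Y) : x • o = o := by
  by_contra hne
  have h1 : x • x • o ≠ x • o := fun h => hne (smul_left_cancel x h)
  have h2 : x • x • o ≠ o := by
    intro h2
    have h3 : x • x • x • o = o := by
      rw [smul_smul, smul_smul, hx, one_smul]
    rw [h2] at h3
    exact hne h3
  have h3 : ({o, x • o, x • x • o} : Set Y).ncard = 3 := by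
    rw [Set.ncard_insert_of_notMem, Set.ncard_pair]
    · exact fun h => h1 h.symm
    · simp only [Set.mem_insert_iff, Set.mem_singleton_iff]
      rintro (h | h)
      · exact hne h.symm
      · exact h2 h.symm
  have h4 : ({o, x • o, x • x • o} : Set Y).ncard ≤ Nat.card Y := by
    rw [← Set.ncard_univ]
    exact Set.ncard_le_ncard (Set.subset_univ _) (Set.toFinite _)
  omega

/-- If `x` fixes the orbit of `ω`, it stabilises `AA ω`. -/
theorem stable_of_smul_eq {a : W Q e f} {ω : Ω} (ha : a ∈ AA h ψ ω) {x : Fx Q e f (a : V)}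
    (hx : x • (⟨Quotient.mk'' (show Om h Ω from ω), ha⟩ : Sa h ψ Ω a) =
      ⟨Quotient.mk'' (show Om h Ω from ω), ha⟩)
    {b b' : W Q e f} (hb : b ∈ AA h ψ ω) (hb' : (b' : V) = ((x : E Q) : V ≃ₗ[F] V) b) :
    b' ∈ AA h ψ ω := by
  have h3 : (Quotient.mk'' ((x : E Q) • (show Om h Ω from ω)) : Dual.Orb (W Q e f) (Om h Ω)) =
      Quotient.mk'' (show Om h Ω from ω) := congrArg Subtype.val hx
  have h4 : AA h ψ ((x : E Q) • ω) = AA h ψ ω := by
    have h5 := congrArg (Dual.AO ψ (bW Q e f)) h3
    exact h5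
  rw [← h4]
  have h5 := ((lev_of_mem x.2).mem_AA (Ω := Ω) h (ψ := ψ) (a := b) (ω := ω)).2 hb
  have h6 : (lev_of_mem x.2).equiv 1⁻¹ (inv_ne_zero one_ne_zero) b = b' := by
    apply Subtype.ext
    rw [Lev.equiv_coe, inv_one, one_smul, hb']
  rw [← h6]
  exact h5

theorem stable_three_aux {a : W Q e f} (hm : mu h ψ Ω a ≤ 2) {ω : Ω} (ha : a ∈ AA h ψ ω)
    {x : Fx Q e f (a : V)} (hx : x * x * x = 1) {b b' : W Q e f} (hb : b ∈ AA h ψ ω)
    (hb' : (b' : V) = ((x : E Q) : V ≃ₗ[F] V) b) : b' ∈ AA h ψ ω := by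
  have : Finite (Dual.Orb (W Q e f) (Om h Ω)) := Quotient.finite _
  have h1 : Nat.card (Sa h ψ Ω a) ≤ 2 := hm
  exact stable_of_smul_eq h ha (smul_eq_of_card_le_two (Y := Sa h ψ Ω a) h1 hx _) hb hb'

/-- **Key lemma for elements of order three.** -/
theorem stable_three {a : V} (haW : a ∈ W Q e f) (hm : mu h ψ Ω ⟨a, haW⟩ ≤ 2) {ω : Ω}
    (ha : a ∈ AV h ψ ω) {g : V ≃ₗ[F] V} (hgE : g ∈ E Q) (hge : g e = e) (hgf : g f = f)
    (hga : g a = a) (hg3 : g * g * g = 1) {b : V} (hb : b ∈ AV h ψ ω) : g b ∈ AV h ψ ω := by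
  obtain ⟨b', hb', rfl⟩ := (mem_AV h).1 hb
  have hgO := E_le_O hgE
  have hgW : g (b' : V) ∈ W Q e f := by
    rw [mem_W]
    constructor
    · have := polar_map hgO e (b' : V)
      rw [hge] at this
      rw [this]; exact mem_W_e b'
    · have := polar_map hgO f (b' : V)
      rw [hgf] at this
      rw [this]; exact mem_W_f b'
  rw [mem_AV]
  refine ⟨⟨g b', hgW⟩, ?_, rfl⟩
  exact stable_three_aux h (a := ⟨a, haW⟩) hm ((coe_mem_AV h (a := ⟨a, haW⟩)).1 ha)
    (x := ⟨⟨g, hgE⟩, hge, hgf, hga⟩) (Subtype.ext (Subtype.ext hg3)) hb' rfl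

/-- Double counting. -/
theorem sum_mult {W : Type*} [AddCommGroup W] [Module F W] [Finite W] {β : LinearMap.BilinForm F W}
    {Ω : Type*} [Finite Ω] [AddAction W Ω] [Fintype (Dual.Orb W Ω)] (S : Finset W) :
    ∑ a ∈ S, Dual.mult ψ β Ω a =
      ∑ o : Dual.Orb W Ω, ((S : Set W) ∩ (Dual.AO ψ β o : Set W)).ncard := by
  classical
  have h1 : ∀ a : W, Dual.mult ψ β Ω a =
      ∑ o : Dual.Orb W Ω, if a ∈ Dual.AO ψ β o then 1 else 0 := by
    intro a
    rw [Dual.mult, Nat.card_eq_fintype_card, Fintype.card_subtype, Finset.card_filter]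
  have h2 : ∀ o : Dual.Orb W Ω, ((S : Set W) ∩ (Dual.AO ψ β o : Set W)).ncard =
      ∑ a ∈ S, if a ∈ Dual.AO ψ β o then 1 else 0 := by
    intro o
    have h3 : ((S : Set W) ∩ (Dual.AO ψ β o : Set W)) =
        ((S.filter fun a => a ∈ Dual.AO ψ β o : Finset W) : Set W) := by
      ext a
      simp
    rw [h3, Set.ncard_coe_finset, Finset.card_filter]
  rw [Finset.sum_congr rfl fun a _ => h1 a, Finset.sum_comm]
  exact Finset.sum_congr rfl fun o _ => (h2 o).symm

/-- In a subgroup at most two thirds of the elements have a given nonzero norm. -/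
theorem two_thirds (h2 : (2 : F) ≠ 0) (A : AddSubgroup (W Q e f)) {c : F} (hc : c ≠ 0) :
    3 * ({w : W Q e f | Q (w : V) = c} ∩ (A : Set (W Q e f))).ncard ≤ 2 * Nat.card A := by
  classical
  have := Fintype.ofFinite (W Q e f)
  by_cases hA : ∃ a ∈ A, Q (a : V) = c
  · obtain ⟨a, ha, hac⟩ := hA
    set χ : W Q e f → ℕ := fun v => if Q (v : V) = c then 1 else 0 with hχ
    have h0 : ({w : W Q e f | Q (w : V) = c} ∩ (A : Set (W Q e f))).ncard =
        ∑ v : A, χ (v : W Q e f) := by
      have h3 : ({w : W Q e f | Q (w : V) = c} ∩ (A : Set (W Q e f))) =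
          ((↑) : A → W Q e f) '' {v : A | Q ((v : W Q e f) : V) = c} := by
        ext v
        simp only [Set.mem_inter_iff, Set.mem_ofPred_eq, SetLike.mem_coe, Set.mem_image,
          Subtype.exists, exists_and_left, exists_prop, exists_eq_right_right]
      rw [h3, Set.ncard_image_of_injective _ Subtype.val_injective,
        Set.ncard_eq_toFinset_card', Set.toFinset_ofPred, Finset.card_filter]
    have h1 : ∀ t : A, ∑ v : A, χ ((v + t : A) : W Q e f) = ∑ v : A, χ (v : W Q e f) := by
      intro t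
      exact Fintype.sum_equiv (Equiv.addRight t) _ _ fun v => rfl
    have h3 := h1 ⟨a, ha⟩
    have h4 := h1 (-⟨a, ha⟩)
    have h5 : ∑ v : A, (χ (v : W Q e f) + χ ((v + ⟨a, ha⟩ : A) : W Q e f) +
        χ ((v + -⟨a, ha⟩ : A) : W Q e f)) ≤ ∑ v : A, 2 := by
      apply Finset.sum_le_sum
      intro v _
      have h6 : ¬ (Q (((v : A) : W Q e f) : V) = c ∧
          Q ((((v + ⟨a, ha⟩ : A)) : W Q e f) : V) = c ∧
          Q ((((v + -⟨a, ha⟩ : A)) : W Q e f) : V) = c) := by
        rintro ⟨k1, k2, k3⟩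
        have k2' : Q (((v : W Q e f) : V) + (a : V)) = c := k2
        have k3' : Q (((v : W Q e f) : V) + -(a : V)) = c := k3
        rw [Q_add, hac, k1] at k2'
        rw [Q_add, QuadraticMap.map_neg, hac, k1, polar_neg_right] at k3'
        have k4 : 2 * c = 0 := by linear_combination k2' + k3'
        rcases mul_eq_zero.1 k4 with k5 | k5
        · exact h2 k5
        · exact hc k5
      simp only [hχ]
      split_ifs with j1 j2 j3 j3 j2 j3 j3
      all_goals first | omega | exact absurd ⟨j1, j2, j3⟩ h6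
    rw [Finset.sum_add_distrib, Finset.sum_add_distrib, h3, h4, ← h0, Finset.sum_const,
      Finset.card_univ, ← Nat.card_eq_fintype_card, smul_eq_mul] at h5
    omega
  · have h3 : ({w : W Q e f | Q (w : V) = c} ∩ (A : Set (W Q e f))) = ∅ := by
      rw [Set.eq_empty_iff_forall_notMem]
      rintro v ⟨hv, hvA⟩
      exact hA ⟨v, hvA, hv⟩
    rw [h3, Set.ncard_empty]
    omega

theorem three_sum_le (hQ : Nondeg Q) (hψ : ψ ≠ 0) (h2 : (2 : F) ≠ 0) {c : F} (hc : c ≠ 0)
    (S : Finset (W Q e f)) (hS : (S : Set (W Q e f)) = {w : W Q e f | Q (w : V) = c}) :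
    3 * ∑ a ∈ S, mu h ψ Ω a ≤ 2 * Nat.card Ω := by
  classical
  have : Finite (Dual.Orb (W Q e f) (Om h Ω)) := Quotient.finite _
  have := Fintype.ofFinite (Dual.Orb (W Q e f) (Om h Ω))
  have h1 := Dual.card_eq_sum_AO (ψ := ψ) (β := bW Q e f) (Ω := Om h Ω) (bW_nondeg hQ h) hψ
  have h3 : Nat.card (Om h Ω) = Nat.card Ω := rfl
  rw [h3] at h1
  rw [h1]
  have h4 : ∑ a ∈ S, mu h ψ Ω a = _ :=
    sum_mult (ψ := ψ) (β := bW Q e f) (Ω := Om h Ω) S
  rw [h4, Finset.mul_sum, Finset.mul_sum]
  apply Finset.sum_le_sum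
  intro o _
  rw [hS]
  exact two_thirds h2 _ hc

theorem three_mul_mu_le (hG : Good Q) {m : ℕ} (hC : MinusCount Q m) (hψ : ψ ≠ 0)
    (h2 : (2 : F) ≠ 0) {a : W Q e f} (hQa : Q (a : V) ≠ 0) :
    3 * ((Nat.card F ^ (2 * m - 3) + Nat.card F ^ (m - 2)) * mu h ψ Ω a) ≤ 2 * Nat.card Ω := by
  classical
  have := Fintype.ofFinite (W Q e f)
  have hd : 6 ≤ Module.finrank F V := by rw [hC.finrank]; have := hC.three; omega
  set S : Finset (W Q e f) := Finset.univ.filter fun w : W Q e f => Q (w : V) = Q (a : V) with hS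
  have h1 := three_sum_le h (Ω := Ω) hG.nondeg hψ h2 hQa S (by rw [hS]; ext; simp)
  have h3 : S.card = Nat.card F ^ (2 * m - 3) + Nat.card F ^ (m - 2) := by
    rw [← hC.ncard_W_ne hG.nondeg h hQa, Set.ncard_eq_toFinset_card']
    congr 1
    ext w
    simp [hS]
  have h4 : ∑ b ∈ S, mu h ψ Ω b = S.card * mu h ψ Ω a := by
    rw [Finset.sum_const_nat]
    intro b hb
    have hb2 := (Finset.mem_filter.1 hb).2
    refine mu_congr h hG hd ?_ ?_ one_ne_zero (by rw [hb2]; ring)
    · rintro rfl
      exact hQa (QuadraticMap.map_zero Q)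
    · rintro rfl
      exact hQa (hb2.symm.trans (QuadraticMap.map_zero Q))
  rw [h4, h3] at h1
  exact h1

end mu

theorem cast_three (hF : Nat.card F = 3) : (3 : F) = 0 := by
  have := Fintype.ofFinite F
  have h := Nat.cast_card_eq_zero F
  rw [← Nat.card_eq_fintype_card, hF] at h
  exact_mod_cast h

theorem two_ne_of_three (hF : Nat.card F = 3) : (2 : F) ≠ 0 := by
  intro h2
  have h3 := cast_three hF
  apply one_ne_zero (α := F)
  linear_combination h3 - h2

/-- **The dichotomy, three elements, dimension six.** -/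
theorem allDich_three (hG : Good Q) (hC : MinusCount Q 3) (hF : Nat.card F = 3)
    {ψ : AddChar F ℂ} (hψ : ψ ≠ 0) {Ω : Type*} [Finite Ω] [MulAction (E Q) Ω]
    (hn : Nat.card Ω ≤ 111) : AllDich Q Ω ψ := by
  intro e f h ω a ha hae haf hQa ⟨b, hb, hbe, hbf, hne⟩ v hv
  have h3 := cast_three hF
  have h2 := two_ne_of_three hF
  have haW : a ∈ W Q e f := mem_W.2 ⟨hae, haf⟩
  have hm : mu h ψ Ω ⟨a, haW⟩ ≤ 2 := by
    have h4 := three_mul_mu_le h (Ω := Ω) hG hC hψ h2 (a := ⟨a, haW⟩) hQa
    rw [hF] at h4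
    norm_num at h4
    omega
  refine le_odd hG.nondeg (by rw [hC.finrank]) h2 h hae haf hQa ?_ hb hbe hbf hne hv
  intro x w hx hw hxs hxw b hb
  have h4 := stable_three h haW hm ha (g := Cfsg.Agent.H75.OrthIdx.sg Q x w) (sg_mem_E _ _)
    (sg_fix hx.e' hw.e') (sg_fix hx.f' hw.f') (sg_fix hx.a' hw.a') (by
      rw [sg_mul hxw hxw, sg_mul (by rw [polar_add_right, hxw, add_zero]) hxw]
      have h5 : w + w + w = 0 := by
        have h6 : w + w + w = (3 : F) • w := by module
        rw [h6, h3, zero_smul]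
      rw [h5, Cfsg.Agent.H75.OrthIdx.sg_zero]) hb
  rw [sg_apply hxs hxw] at h4
  exact h4

end Cfsg.Agent.H76.ThreeStab
end

-- part: H76/ThreePP
section
/-!
# No nontrivial Siegel transformations

If `PP Q H` is empty, `|W|` divides the index.
-/

set_option autoImplicit false
set_option linter.unusedSectionVars false

namespace Cfsg.Agent.H76.ThreePP

open QuadraticMap Cfsg.Agent.LieClassical.OrthCore Cfsg.Agent.LieClassical.OrthTrans
open Cfsg.Agent.LieClassical.OrthFinite
open Cfsg.Agent.H76.Trans Cfsg.Agent.H76.Act Cfsg.Agent.H76.Tri Cfsg.Agent.H76.Link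
open Cfsg.Agent.H76.Num Cfsg.Agent.H76.Lower Cfsg.Agent.H76.LowerThree
open Cfsg.Agent.H75.OrthIdx

variable {F V : Type*} [Field F] [AddCommGroup V] [Module F V] {Q : QuadraticForm F V}
variable {e f : V} [Finite F] [Finite V]

/-- `AA` is everything at each point, if `H` contains no nontrivial Siegel transformations. -/
theorem all_top (hG : Good Q) (h : Hyp Q e f) {ψ : AddChar F ℂ} {H : Subgroup (V ≃ₗ[F] V)}
    (hPP : ∀ x, x ∉ PP Q H) (ω : Cos Q H) (b : W Q e f) : b ∈ AA h ψ ω := by
  intro c hc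
  have hc' : Act.sg h c • ω = ω := hc
  obtain ⟨g, rfl⟩ := QuotientGroup.mk_surjective ω
  have h0 : (QuotientGroup.mk g : Cos Q H) = g • pt Q H := by
    rw [pt]
    show _ = (QuotientGroup.mk (g * 1) : Cos Q H)
    rw [mul_one]
  rw [h0] at hc'
  have h1 : (g⁻¹ * Act.sg h c * g) • pt Q H = pt Q H := by
    rw [mul_smul, mul_smul, hc', inv_smul_smul]
  rw [smul_pt, Subgroup.coe_mul, Subgroup.coe_mul, Subgroup.coe_inv, act_sg_coe] at h1
  set g' : V ≃ₗ[F] V := (g : V ≃ₗ[F] V)⁻¹ with hg'
  have hgO : g' ∈ O Q := (O Q).inv_mem (E_le_O g.2)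
  have h2 := sg_conj hgO e (c : V)
  have hgg : g'⁻¹ = (g : V ≃ₗ[F] V) := by rw [hg', inv_inv]
  rw [hgg] at h2
  rw [h2] at h1
  have h4 : g' (c : V) ∈ Bs Q H (g' e) := by
    rw [mem_Bs]
    exact ⟨by rw [polar_map hgO]; exact mem_W_e c, h1⟩
  have h5 : g' (c : V) ∈ Submodule.span F {g' e} := by
    by_contra hcon
    exact hPP (g' e) ⟨(map_ne_zero_iff g' g'.injective).2 h.left_ne, by
      rw [mem_O.1 hgO]; exact h.left, _, h4, hcon⟩
  obtain ⟨k, hk⟩ := Submodule.mem_span_singleton.1 h5
  rw [← map_smul] at hk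
  have h6 : (c : V) = k • e := (g'.injective hk).symm
  have h7 : k = 0 := by
    have h8 := mem_W_f c
    rw [h6, polar_smul_right, h.pair', smul_eq_mul, mul_one] at h8
    exact h8
  rw [h7, zero_smul] at h6
  show ψ (polar Q (b : V) (c : V)) = 1
  rw [h6, polar_zero_right, AddChar.map_zero_eq_one]

theorem card_W_dvd (hG : Good Q) (h : Hyp Q e f) {H : Subgroup (V ≃ₗ[F] V)}
    (hPP : ∀ x, x ∉ PP Q H) : Nat.card (W Q e f) ∣ H.relIndex (E Q) := by
  classical
  obtain ⟨ψ, hψ⟩ := exists_char (F := F)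
  have : Finite (Dual.Orb (W Q e f) (Om h (Cos Q H))) := Quotient.finite _
  have := Fintype.ofFinite (Dual.Orb (W Q e f) (Om h (Cos Q H)))
  have h1 := Dual.card_eq_sum_AO (ψ := ψ) (β := bW Q e f) (Ω := Om h (Cos Q H))
    (bW_nondeg hG.nondeg h) hψ
  have h2 : Nat.card (Om h (Cos Q H)) = H.relIndex (E Q) := rfl
  have h3 : ∀ o : Dual.Orb (W Q e f) (Om h (Cos Q H)), Dual.AO ψ (bW Q e f) o = ⊤ := by
    intro o
    induction o using Quotient.inductionOn' with
    | h ω =>
      rw [eq_top_iff]
      intro b _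
      exact all_top hG h (ψ := ψ) hPP ω b
  rw [h2, Finset.sum_congr rfl (fun o _ => by rw [h3 o]), Finset.sum_const, smul_eq_mul] at h1
  rw [h1]
  have h4 : Nat.card (⊤ : AddSubgroup (W Q e f)) = Nat.card (W Q e f) := AddSubgroup.card_top
  rw [h4]
  exact Nat.dvd_mul_left _ _

theorem card_W_three (hG : Good Q) (hC : MinusCount Q 3) (hF : Nat.card F = 3)
    (h : Hyp Q e f) : Nat.card (W Q e f) = 81 := by
  classical
  have := Fintype.ofFinite (W Q e f)
  have h0 := hC.ncard_W_zero hG.nondeg h
  have h1 := hC.ncard_W_ne hG.nondeg h (c := 1) one_ne_zero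
  have h2 := hC.ncard_W_ne hG.nondeg h (c := -1) (neg_ne_zero.2 one_ne_zero)
  rw [hF] at h0 h1 h2
  norm_num at h0 h1 h2
  have h3 := ThreeStab.cast_three hF
  have h2' := ThreeStab.two_ne_of_three hF
  have hcases : ∀ c : F, c = 0 ∨ c = 1 ∨ c = -1 := by
    intro c
    by_contra hcon
    push Not at hcon
    have h5 : ({0, 1, -1, c} : Set F).ncard ≤ Nat.card F := by
      rw [← Set.ncard_univ]
      exact Set.ncard_le_ncard (Set.subset_univ _) (Set.toFinite _)
    rw [Set.ncard_insert_of_notMem (by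
      simp only [Set.mem_insert_iff, Set.mem_singleton_iff]
      rintro (h6 | h6 | h6)
      · exact zero_ne_one h6
      · exact one_ne_zero (neg_eq_zero.1 h6.symm)
      · exact hcon.1 h6.symm), Set.ncard_insert_of_notMem (by
      simp only [Set.mem_insert_iff, Set.mem_singleton_iff]
      rintro (h6 | h6)
      · exact h2' (by linear_combination h6)
      · exact hcon.2.1 h6.symm), Set.ncard_pair (fun h6 => hcon.2.2 h6.symm)] at h5
    omega
  have hU : (Set.univ : Set (W Q e f)) = {w : W Q e f | Q (w : V) = 0} ∪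
      ({w : W Q e f | Q (w : V) = 1} ∪ {w : W Q e f | Q (w : V) = -1}) := by
    ext w
    simp only [Set.mem_univ, Set.mem_union, Set.mem_ofPred_eq, true_iff]
    exact hcases _
  have hd1 : Disjoint {w : W Q e f | Q (w : V) = 1} {w : W Q e f | Q (w : V) = -1} := by
    rw [Set.disjoint_left]
    intro w hw hw'
    have hw1 : Q (w : V) = 1 := hw
    have hw2 : Q (w : V) = -1 := hw'
    rw [hw1] at hw2
    exact h2' (by linear_combination hw2)
  have hd0 : Disjoint {w : W Q e f | Q (w : V) = 0} ({w : W Q e f | Q (w : V) = 1} ∪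
      {w : W Q e f | Q (w : V) = -1}) := by
    rw [Set.disjoint_left]
    rintro w hw (hw' | hw')
    · exact zero_ne_one ((show Q (w : V) = 0 from hw).symm.trans hw')
    · exact one_ne_zero (neg_eq_zero.1 ((show Q (w : V) = 0 from hw).symm.trans hw').symm)
  rw [← Set.ncard_univ, hU, Set.ncard_union_eq hd0, Set.ncard_union_eq hd1]
  omega

/-- For three elements in dimension six the index is `81` if there are no nontrivial Siegel
transformations. -/
theorem eq_eighty_one (hG : Good Q) (hC : MinusCount Q 3) (hF : Nat.card F = 3)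
    {H : Subgroup (V ≃ₗ[F] V)} (hn : H.relIndex (E Q) ≤ 111) (hPP : ∀ x, x ∉ PP Q H) :
    H.relIndex (E Q) = 81 := by
  obtain ⟨e, f, h⟩ := hG.exists_hyp
  have h1 := card_W_dvd hG h hPP
  rw [card_W_three hG hC hF h] at h1
  obtain ⟨k, hk⟩ := h1
  have h2 : H.relIndex (E Q) ≠ 0 := relIndex_ne _ _
  have h3 : k ≠ 0 := by
    rintro rfl
    exact h2 hk
  have h4 : k = 1 := by omega
  rw [hk, h4]

end Cfsg.Agent.H76.ThreePP
end

-- part: H76/ThreeTwo
section
/-!
# Two elements, dimension six

`exists_PP` : nontrivial Siegel transformations in subgroups of small index;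
`allDich_two` : the dichotomy.
-/

set_option autoImplicit false
set_option linter.unusedSectionVars false

namespace Cfsg.Agent.H76.ThreeTwo

open QuadraticMap Cfsg.Agent.LieClassical.OrthCore Cfsg.Agent.LieClassical.OrthTrans
open Cfsg.Agent.LieClassical.OrthFinite
open Cfsg.Agent.H76.Trans Cfsg.Agent.H76.Link Cfsg.Agent.H76.StepComm Cfsg.Agent.H76.Alg
open Cfsg.Agent.H75.OrthIdx

variable {F V : Type*} [Field F] [AddCommGroup V] [Module F V] {Q : QuadraticForm F V}

/-- no totally singular subspace of dimension three -/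
theorem no_three [Finite F] [Finite V] (hM : Minus Q) (hd : Module.finrank F V = 6) {x y z : V}
    (hx : Q x = 0) (hy : Q y = 0) (hz : Q z = 0) (hxy : polar Q x y = 0) (hxz : polar Q x z = 0)
    (hyz : polar Q y z = 0) (hli : LinearIndependent F ![x, y, z]) : False := by
  have hfd : FiniteDimensional F V := Module.finite_of_finrank_pos (by omega)
  have hyx : polar Q y x = 0 := by rw [polar_comm]; exact hxy
  have hzx : polar Q z x = 0 := by rw [polar_comm]; exact hxz
  have hzy : polar Q z y = 0 := by rw [polar_comm]; exact hyz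
  have h1 := hM (Submodule.span F (Set.range ![x, y, z])) (span_ts (by
    rintro _ ⟨i, rfl⟩
    fin_cases i
    · exact hx
    · exact hy
    · exact hz) (by
    rintro _ ⟨i, rfl⟩ _ ⟨j, rfl⟩
    fin_cases i <;> fin_cases j
    · exact polar_self_of_sing hx
    · exact hxy
    · exact hxz
    · exact hyx
    · exact polar_self_of_sing hy
    · exact hyz
    · exact hzx
    · exact hzy
    · exact polar_self_of_sing hz))
  rw [finrank_span_eq_card hli, Fintype.card_fin] at h1
  omega

theorem two_eq (hF : ∀ c : F, c = 0 ∨ c = 1) : (2 : F) = 0 := by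
  rcases hF (-1) with h1 | h1
  · exact absurd (neg_eq_zero.1 h1) one_ne_zero
  · linear_combination -h1

theorem dbl (h2 : (2 : F) = 0) (u : V) : u + u = 0 := by
  have h1 : u + u = (2 : F) • u := by module
  rw [h1, h2, zero_smul]

theorem neg_two (h2 : (2 : F) = 0) (u : V) : -u = u := neg_eq_of_add_eq_zero_left (dbl h2 u)

/-- product of Siegel transformations -/
theorem sg_mul_sg (h2 : (2 : F) = 0) {e e₁ w : V} (he : Q e = 0) (he₁ : Q e₁ = 0) (hw : Q w = 1)
    (hee : polar Q e e₁ = 0) (hew : polar Q e w = 0) (hew₁ : polar Q e₁ w = 0) :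
    sg Q e₁ w * sg Q e w = sg Q (e + e₁) (w + e) := by
  have hu : Q (e + e₁) = 0 := by rw [Q_add, he, he₁, hee]; simp
  have hee' : polar Q e₁ e = 0 := by rw [polar_comm]; exact hee
  have hwe : polar Q w e = 0 := by rw [polar_comm]; exact hew
  have hwe₁ : polar Q w e₁ = 0 := by rw [polar_comm]; exact hew₁
  have hww : polar Q w w = 0 := by rw [polar_self', h2, zero_mul]
  have hQ' : Q (w + e) = 1 := by rw [Q_add, hw, he, hwe]; simp
  have hp : polar Q (e + e₁) (w + e) = 0 := by
    rw [polar_add_left, polar_add_right, polar_add_right, hew, hew₁, hee', polar_self_of_sing he]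
    simp
  ext x
  show sg Q e₁ w (sg Q e w x) = _
  rw [sg_apply he hew, sg_apply he₁ hew₁, sg_apply hu hp, hQ', hw]
  simp only [polar_sub_right, polar_add_right, polar_smul_right, polar_add_left, hee', hew₁, hwe,
    hww, smul_eq_mul, mul_zero, sub_zero, add_zero, one_mul]
  have key : ∀ a b c : F, ∀ y : V,
      y + a • w - b • e - a • e + c • w - b • e₁ - c • e₁ =
      y + (a + c) • (w + e) - (b + a) • (e + e₁) - (a + c) • (e + e₁) +
        ((2 : F) * a) • e₁ := by
    intro a b c y
    module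
  have := key (polar Q e x) (polar Q w x) (polar Q e₁ x) x
  rw [h2, zero_mul, zero_smul, add_zero] at this
  exact this

/-- **Nontrivial Siegel transformations, two elements, dimension six.** -/
theorem exists_PP [Finite F] [Finite V] (hG : Good Q) (hF : ∀ c : F, c = 0 ∨ c = 1)
    (hd : Module.finrank F V = 6) (hM : Minus Q) {H : Subgroup (V ≃ₗ[F] V)}
    (hn : H.relIndex (E Q) < 2 * Nat.card F ^ (Module.finrank F V - 2)) :
    ∃ e, e ∈ PP Q H := by
  have hfd : FiniteDimensional F V := Module.finite_of_finrank_pos (by omega)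
  have h2 := two_eq hF
  have h1' : ∀ c : F, c ≠ 0 → c = 1 := fun c hc => (hF c).resolve_left hc
  have hQ := hG.nondeg
  obtain ⟨e, f, h⟩ := hG.exists_hyp
  obtain ⟨e₁, f₁, h₁, a1, a2, a3, a4⟩ := hG.exists_hyp2 h
  by_cases htriv : ∀ v ∈ Bs Q H e, v ∈ Submodule.span F {e}
  swap
  · push Not at htriv
    exact ⟨e, h.left_ne, h.left, htriv⟩
  obtain ⟨w, hw0, hw⟩ := exists_perp_ne (Q := Q) ![e, f, e₁, f₁] (by omega)
  have hew : polar Q e w = 0 := hw 0
  have hfw : polar Q f w = 0 := hw 1
  have hew₁ : polar Q e₁ w = 0 := hw 2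
  have hfw₁ : polar Q f₁ w = 0 := hw 3
  have hli : LinearIndependent F ![e, e₁, w] := by
    rw [Fintype.linearIndependent_iff]
    intro c hc
    rw [Fin.sum_univ_three] at hc
    have hc' : c 0 • e + c 1 • e₁ + c 2 • w = 0 := hc
    have k0 := congrArg (polar Q f) hc'
    have k1 := congrArg (polar Q f₁) hc'
    have f₁e : polar Q f₁ e = 0 := by rw [polar_comm]; exact a2
    simp only [polar_add_right, polar_smul_right, h.pair', a3, hfw, polar_zero_right,
      smul_eq_mul, mul_zero, mul_one, add_zero] at k0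
    simp only [polar_add_right, polar_smul_right, h₁.pair', f₁e, hfw₁, polar_zero_right,
      smul_eq_mul, mul_zero, mul_one, add_zero, zero_add] at k1
    rw [k0, k1, zero_smul, zero_smul, zero_add, zero_add] at hc'
    have k2 := (smul_eq_zero.1 hc').resolve_right hw0
    intro i
    fin_cases i
    · exact k0
    · exact k1
    · exact k2
  have hQw0 : Q w ≠ 0 := fun hQw =>
    no_three hM hd h.left h₁.left hQw a1 hew hew₁ hli
  have hQw : Q w = 1 := h1' _ hQw0
  have hwe : polar Q w e = 0 := by rw [polar_comm]; exact hew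
  have hwe₁ : polar Q w e₁ = 0 := by rw [polar_comm]; exact hew₁
  have he₁e : polar Q e₁ e = 0 := by rw [polar_comm]; exact a1
  have hyP : sg Q e₁ w ∈ Pst Q e := ⟨sg_mem_E _ _, 1, one_ne_zero, by
    rw [one_smul]; exact sg_fix he₁e hwe⟩
  obtain ⟨k, hk, ρ, hρ, hyk⟩ := factor hG hn h.left_ne h.left htriv hyP
  obtain ⟨v, hv, rfl⟩ := mem_rad.1 hρ
  have hye : sg Q e₁ w e = e := sg_fix he₁e hwe
  have hkv : k = sg Q e₁ w * sg Q e v := by
    rw [hyk, mul_assoc, sg_mul hv hv, dbl h2, sg_zero, mul_one]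
  have hyy : sg Q e₁ w * sg Q e₁ w = 1 := by rw [sg_mul hew₁ hew₁, dbl h2, sg_zero]
  have hyO : sg Q e₁ w ∈ O Q := sg_mem_O _ _
  have hyinv : (sg Q e₁ w)⁻¹ = sg Q e₁ w := inv_eq_of_mul_eq_one_left hyy
  have heyv : polar Q e (sg Q e₁ w v) = 0 := by
    have := polar_map hyO e v
    rw [hye] at this
    rw [this]; exact hv
  have hkk : k * k = sg Q e (sg Q e₁ w v + v) := by
    have h3 := sg_conj hyO e v
    rw [hye, hyinv] at h3
    rw [hkv, ← sg_mul heyv hv, ← h3]
    simp only [mul_assoc]
  have hmem : sg Q e₁ w v + v ∈ Submodule.span F {e} := by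
    apply htriv
    rw [mem_Bs, ← hkk]
    exact ⟨by rw [polar_add_right, heyv, hv, add_zero], H.mul_mem hk.1 hk.1⟩
  obtain ⟨c, hc⟩ := Submodule.mem_span_singleton.1 hmem
  have hc' : c • e = polar Q e₁ v • w + (-polar Q w v - polar Q e₁ v) • e₁ := by
    rw [hc, sg_apply h₁.left hew₁, hQw, one_mul]
    have h3 : v + polar Q e₁ v • w - polar Q w v • e₁ - polar Q e₁ v • e₁ + v =
        polar Q e₁ v • w + (-polar Q w v - polar Q e₁ v) • e₁ + (v + v) := by module
    rw [h3, dbl h2, add_zero]
  have hv1 : -polar Q w v - polar Q e₁ v = 0 := by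
    have h3 := congrArg (polar Q f₁) hc'
    have f₁e : polar Q f₁ e = 0 := by rw [polar_comm]; exact a2
    simp only [polar_add_right, polar_smul_right, f₁e, hfw₁, h₁.pair', smul_eq_mul, mul_zero,
      mul_one, zero_add] at h3
    exact h3.symm
  have hv2 : polar Q e₁ v = 0 := by
    rw [hv1, zero_smul, add_zero] at hc'
    have h3 := congrArg Q hc'
    rw [QuadraticMap.map_smul, QuadraticMap.map_smul, h.left, hQw, smul_zero, smul_eq_mul,
      mul_one] at h3
    exact mul_self_eq_zero.1 h3.symm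
  have hv3 : polar Q w v = 0 := by rw [hv2] at hv1; linear_combination -hv1
  -- `v` is in the span of `e, e₁, w`
  have hvT : v ∈ Submodule.span F (Set.range ![e, e₁, w]) := by
    set T := Submodule.span F (Set.range ![e, e₁, w]) with hT
    have hTd : Module.finrank F T = 3 := by
      rw [hT, finrank_span_eq_card hli, Fintype.card_fin]
    have hTle : T ≤ perp Q T := by
      rw [hT, Submodule.span_le]
      rintro _ ⟨i, rfl⟩
      rw [SetLike.mem_coe, perp_span]
      rintro _ ⟨j, rfl⟩
      fin_cases i <;> fin_cases j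
      · exact h.polar_left
      · exact he₁e
      · exact hwe
      · exact a1
      · exact h₁.polar_left
      · exact hwe₁
      · exact hew
      · exact hew₁
      · show polar Q w w = 0
        rw [polar_self', h2, zero_mul]
    have hTeq : T = perp Q T := by
      apply Submodule.eq_of_le_of_finrank_le hTle
      rw [finrank_perp hQ, hTd, hd]
    rw [hTeq, hT, perp_span]
    rintro _ ⟨j, rfl⟩
    fin_cases j
    · exact hv
    · exact hv2
    · exact hv3
  have hrange : Set.range ![e, e₁, w] = {e₁, w, e} := by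
    ext x
    simp only [Set.mem_range, Set.mem_insert_iff, Set.mem_singleton_iff]
    constructor
    · rintro ⟨i, rfl⟩
      fin_cases i
      · exact Or.inr (Or.inr rfl)
      · exact Or.inl rfl
      · exact Or.inr (Or.inl rfl)
    · rintro (rfl | rfl | rfl)
      · exact ⟨1, rfl⟩
      · exact ⟨2, rfl⟩
      · exact ⟨0, rfl⟩
  rw [hrange, Submodule.mem_span_triple] at hvT
  obtain ⟨α, β, γ, rfl⟩ := hvT
  rw [sg_add_smul h.left] at hkv
  have hkH : k ∈ H := hk.1
  have hns : ∀ (w' u : V), Q w' ≠ 0 → Q u = 0 → w' ∉ Submodule.span F {u} := by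
    intro w' u hw' hu hmem
    obtain ⟨c, rfl⟩ := Submodule.mem_span_singleton.1 hmem
    rw [QuadraticMap.map_smul, hu, smul_zero] at hw'
    exact hw' rfl
  have hQwe : Q (w + e) = 1 := by rw [Q_add, hQw, h.left, hwe]; simp
  have hu : Q (e + e₁) = 0 := by rw [Q_add, h.left, h₁.left, a1]; simp
  have hu0 : e + e₁ ≠ 0 := by
    intro h0
    have h3 := congrArg (polar Q f) h0
    rw [polar_add_right, h.pair', a3, polar_zero_right, add_zero] at h3
    exact one_ne_zero h3
  rcases hF β with rfl | rfl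
  · rw [zero_smul, add_zero] at hkv
    rcases hF α with rfl | rfl
    · rw [zero_smul, sg_zero, mul_one] at hkv
      exact ⟨e₁, h₁.left_ne, h₁.left, w, ⟨hew₁, by rw [← hkv]; exact hkH⟩,
        hns w e₁ hQw0 h₁.left⟩
    · rw [one_smul, sg_swap h.left h₁.left a1, neg_two h2, sg_mul hew₁ he₁e] at hkv
      exact ⟨e₁, h₁.left_ne, h₁.left, w + e, ⟨by rw [polar_add_right, hew₁, he₁e, add_zero], by
        rw [← hkv]; exact hkH⟩, hns _ e₁ (by rw [hQwe]; exact one_ne_zero) h₁.left⟩
  · rw [one_smul] at hkv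
    rcases hF α with rfl | rfl
    · rw [zero_smul, zero_add, sg_mul_sg h2 h.left h₁.left hQw a1 hew hew₁] at hkv
      refine ⟨e + e₁, hu0, hu, w + e, ⟨?_, by rw [← hkv]; exact hkH⟩,
        hns _ _ (by rw [hQwe]; exact one_ne_zero) hu⟩
      rw [polar_add_left, polar_add_right, polar_add_right, hew, hew₁, he₁e,
        polar_self_of_sing h.left]
      simp
    · have h3 : sg Q e ((1 : F) • e₁ + w) = sg Q e e₁ * sg Q e (w + e) := by
        have h4 : polar Q e (w + e) = 0 := by
          rw [polar_add_right, hew, polar_self_of_sing h.left, add_zero]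
        rw [sg_mul a1 h4, one_smul, ← add_assoc]
        have := sg_add_smul (Q := Q) h.left (e₁ + w) 1
        rw [one_smul] at this
        exact this.symm
      have hwe' : polar Q e (w + e) = 0 := by
        rw [polar_add_right, hew, polar_self_of_sing h.left, add_zero]
      have hwe₁' : polar Q e₁ (w + e) = 0 := by rw [polar_add_right, hew₁, he₁e, add_zero]
      rw [h3, sg_swap h.left h₁.left a1, neg_two h2, ← mul_assoc, sg_mul hew₁ he₁e,
        sg_mul_sg h2 h.left h₁.left hQwe a1 hwe' hwe₁'] at hkv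
      refine ⟨e + e₁, hu0, hu, w + e + e, ⟨?_, by rw [← hkv]; exact hkH⟩, hns _ _ ?_ hu⟩
      · rw [polar_add_left, polar_add_right _ e, polar_add_right _ e₁, hwe', hwe₁', he₁e,
          polar_self_of_sing h.left]
        simp
      · rw [add_assoc, dbl h2, add_zero]; exact hQw0

/-! ### The dichotomy -/

/-- an element of order three -/
noncomputable def gg (Q : QuadraticForm F V) (x y a : V) : V ≃ₗ[F] V := sg Q x a * sg Q y a

theorem gg_apply (h2 : (2 : F) = 0) {x y a : V} (hQa : Q a = 1) (hxy : Hyp Q x y)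
    (hxa : polar Q x a = 0) (hya : polar Q y a = 0) (v : V) :
    gg Q x y a v = v + (polar Q x v + polar Q a v) • a + (polar Q y v + polar Q a v) • y +
      (polar Q x v + polar Q y v) • x := by
  have hay : polar Q a y = 0 := by rw [polar_comm]; exact hya
  have haa : polar Q a a = 0 := by rw [polar_self', h2, zero_mul]
  show sg Q x a (sg Q y a v) = _
  rw [sg_apply hxy.right hya, sg_apply hxy.left hxa, hQa]
  simp only [polar_sub_right, polar_add_right, polar_smul_right, hxa, hay, haa, hxy.pair,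
    smul_eq_mul, mul_zero, mul_one, sub_zero, add_zero, one_mul]
  set α := polar Q x v
  set β := polar Q y v
  set γ := polar Q a v
  have h3 : v + β • a - γ • y - β • y + (α - γ - β) • a - γ • x - (α - γ - β) • x =
      v + (α + γ) • a + (β + γ) • y + (α + β) • x + ((2 : F) * (-γ)) • a +
        ((2 : F) * (-γ - β)) • y + ((2 : F) * (-α)) • x := by module
  rw [h3, h2]
  simp only [zero_mul, zero_smul, add_zero]

theorem gg_cube (h2 : (2 : F) = 0) {x y a : V} (hQa : Q a = 1) (hxy : Hyp Q x y)
    (hxa : polar Q x a = 0) (hya : polar Q y a = 0) :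
    gg Q x y a * gg Q x y a * gg Q x y a = 1 := by
  have hax : polar Q a x = 0 := by rw [polar_comm]; exact hxa
  have hay : polar Q a y = 0 := by rw [polar_comm]; exact hya
  have haa : polar Q a a = 0 := by rw [polar_self', h2, zero_mul]
  have hg := gg_apply h2 hQa hxy hxa hya
  have e1 : ∀ v, polar Q x (gg Q x y a v) = polar Q x v + polar Q y v + polar Q a v := by
    intro v
    rw [hg]
    simp only [polar_add_right, polar_smul_right, hxa, hxy.pair, hxy.polar_left, smul_eq_mul,
      mul_zero, mul_one, add_zero]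
    ring
  have e2 : ∀ v, polar Q y (gg Q x y a v) = polar Q x v := by
    intro v
    rw [hg]
    simp only [polar_add_right, polar_smul_right, hya, hxy.pair', hxy.polar_right, smul_eq_mul,
      mul_zero, mul_one, add_zero]
    linear_combination (polar Q y v) * h2
  have e3 : ∀ v, polar Q a (gg Q x y a v) = polar Q a v := by
    intro v
    rw [hg]
    simp only [polar_add_right, polar_smul_right, haa, hax, hay, smul_eq_mul, mul_zero, add_zero]
  ext v
  show gg Q x y a (gg Q x y a (gg Q x y a v)) = v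
  have g1 := hg v
  have g2 := hg (gg Q x y a v)
  have g3 := hg (gg Q x y a (gg Q x y a v))
  simp only [e1, e2, e3] at g2 g3
  rw [g3, g2, g1]
  set α := polar Q x v
  set β := polar Q y v
  set γ := polar Q a v
  have h3 : v + (α + γ) • a + (β + γ) • y + (α + β) • x + (α + β + γ + γ) • a +
      (α + γ) • y + (α + β + γ + α) • x + (α + β + γ + α + γ + γ) • a +
      (α + β + γ + γ) • y + (α + β + γ + α + γ + (α + β + γ)) • x =
      v + ((2 : F) * (2 * α + β + 3 * γ)) • a + ((2 : F) * (α + β + 2 * γ)) • y +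
        ((2 : F) * (3 * α + 2 * β + 2 * γ)) • x := by module
  rw [h2] at h3
  simp only [zero_mul, zero_smul, add_zero] at h3
  exact h3

/-- **The core of the dichotomy.** -/
theorem le_of_ne [Finite F] [Finite V] (hQ : Nondeg Q) (hF : ∀ c : F, c = 0 ∨ c = 1)
    (hd : Module.finrank F V = 6) (hM : Minus Q) {e f a x y : V} (h : Hyp Q e f)
    (hae : polar Q e a = 0) (haf : polar Q f a = 0) (hQa : Q a = 1) (hx : Pa Q e f a x)
    (hy : Pa Q e f a y) (hxy : Hyp Q x y) {A : AddSubgroup V} (haA : a ∈ A)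
    (hinv : ∀ b ∈ A, gg Q x y a b ∈ A) {b : V} (hb : b ∈ A) (hbe : polar Q e b = 0)
    (hbf : polar Q f b = 0) (hQb : Q b = 1) (hba : b ≠ a) {v : V} (hv : Pa Q e f a v) :
    v ∈ A := by
  have hfd : FiniteDimensional F V := Module.finite_of_finrank_pos (by omega)
  have h2 := two_eq hF
  have haa : polar Q a a = 0 := by rw [polar_self', h2, zero_mul]
  have ha0 : a ≠ 0 := by
    rintro rfl
    rw [QuadraticMap.map_zero] at hQa
    exact zero_ne_one hQa
  have hg := gg_apply h2 hQa hxy hx.a' hy.a'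
  -- vectors orthogonal to everything
  have huniq : ∀ u : V, Pa Q e f a u → polar Q x u = 0 → polar Q y u = 0 → u = 0 ∨ u = a := by
    intro u hu hxu hyu
    have hli : LinearIndependent F ![e, f, a, x, y] := by
      rw [Fintype.linearIndependent_iff]
      intro c hc
      rw [Fin.sum_univ_five] at hc
      have hc' : c 0 • e + c 1 • f + c 2 • a + c 3 • x + c 4 • y = 0 := hc
      have k0 := congrArg (polar Q f) hc'
      have k1 := congrArg (polar Q e) hc'
      have k3 := congrArg (polar Q y) hc'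
      have k4 := congrArg (polar Q x) hc'
      simp only [polar_add_right, polar_smul_right, h.pair', h.polar_right, haf, hx.f, hy.f,
        polar_zero_right, smul_eq_mul, mul_zero, mul_one, add_zero] at k0
      simp only [polar_add_right, polar_smul_right, h.pair, h.polar_left, hae, hx.e, hy.e,
        polar_zero_right, smul_eq_mul, mul_zero, mul_one, add_zero, zero_add] at k1
      simp only [polar_add_right, polar_smul_right, hy.e', hy.f', hy.a', hxy.pair',
        hxy.polar_right, polar_zero_right, smul_eq_mul, mul_zero, mul_one, add_zero,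
        zero_add] at k3
      simp only [polar_add_right, polar_smul_right, hx.e', hx.f', hx.a', hxy.pair,
        hxy.polar_left, polar_zero_right, smul_eq_mul, mul_zero, mul_one, add_zero,
        zero_add] at k4
      rw [k0, k1, k3, k4] at hc'
      simp only [zero_smul, zero_add, add_zero] at hc'
      have k2 := (smul_eq_zero.1 hc').resolve_right ha0
      intro i
      fin_cases i
      · exact k0
      · exact k1
      · exact k2
      · exact k3
      · exact k4
    set T := Submodule.span F (Set.range ![e, f, a, x, y]) with hT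
    have hTd : Module.finrank F (perp Q T) = 1 := by
      rw [finrank_perp hQ, hT, finrank_span_eq_card hli, Fintype.card_fin, hd]
    have hmemT : ∀ z, Pa Q e f a z → polar Q x z = 0 → polar Q y z = 0 → z ∈ perp Q T := by
      intro z hz hxz hyz
      rw [hT, perp_span]
      rintro _ ⟨i, rfl⟩
      fin_cases i
      · exact hz.e
      · exact hz.f
      · exact hz.a
      · exact hxz
      · exact hyz
    have haT : a ∈ perp Q T := hmemT a ⟨hae, haf, haa⟩ hx.a' hy.a'
    obtain ⟨c, hc⟩ := (finrank_eq_one_iff_of_nonzero' (⟨a, haT⟩ : perp Q T)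
      (fun h0 => ha0 (congrArg Subtype.val h0))).1 hTd ⟨u, hmemT u hu hxu hyu⟩
    have hc' : c • a = u := congrArg Subtype.val hc
    rcases hF c with rfl | rfl
    · left; rw [← hc', zero_smul]
    · right; rw [← hc', one_smul]
  -- it is enough that `x` and `y` are in `A`
  have hfin : x ∈ A → y ∈ A → v ∈ A := by
    intro hxA hyA
    set v' := v - polar Q y v • x - polar Q x v • y with hv'
    have hPv' : Pa Q e f a v' := (hv.sub (hx.smul _)).sub (hy.smul _)
    have h5 : v = v' + polar Q y v • x + polar Q x v • y := by rw [hv']; abel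
    have hsm : ∀ (c : F) (z : V), z ∈ A → c • z ∈ A := by
      intro c z hz
      rcases hF c with rfl | rfl
      · rw [zero_smul]; exact A.zero_mem
      · rw [one_smul]; exact hz
    rw [h5]
    refine A.add_mem (A.add_mem ?_ (hsm _ _ hxA)) (hsm _ _ hyA)
    rcases huniq v' hPv' (polar_proj_left hxy v) (polar_proj_right hxy v) with h6 | h6
    · rw [h6]; exact A.zero_mem
    · rw [h6]; exact haA
  have hgx : gg Q x y a x = y := by
    rw [hg, hxy.polar_left, hxy.pair', hx.a]
    have h3 : x + ((0 : F) + 0) • a + ((1 : F) + 0) • y + ((0 : F) + 1) • x = y + (x + x) := by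
      module
    rw [h3, dbl h2, add_zero]
  have hgy : gg Q x y a y = x + y + a := by
    rw [hg, hxy.polar_right, hxy.pair, hy.a]
    module
  have hd' : (polar Q x b + polar Q a b) • a + (polar Q y b + polar Q a b) • y +
      (polar Q x b + polar Q y b) • x ∈ A := by
    have h3 := A.sub_mem (hinv b hb) hb
    rw [hg] at h3
    have h4 : b + (polar Q x b + polar Q a b) • a + (polar Q y b + polar Q a b) • y +
      (polar Q x b + polar Q y b) • x - b = (polar Q x b + polar Q a b) • a +
        (polar Q y b + polar Q a b) • y + (polar Q x b + polar Q y b) • x := by abel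
    rwa [h4] at h3
  have hxA : x ∈ A → v ∈ A := by
    intro hxA
    refine hfin hxA ?_
    rw [← hgx]; exact hinv x hxA
  have hyA : y ∈ A → v ∈ A := by
    intro hyA
    apply hxA
    have h3 := hinv y hyA
    rw [hgy] at h3
    have h4 := A.sub_mem (A.sub_mem h3 hyA) haA
    have h5 : x + y + a - y - a = x := by abel
    rwa [h5] at h4
  have h11 : (1 : F) + 1 = 0 := by linear_combination h2
  -- the equal cases
  have heq : ∀ γ : F, polar Q x b = γ → polar Q y b = γ → polar Q a b = γ → False := by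
    intro γ hα hβ hγ
    rcases hF γ with rfl | rfl
    · rcases huniq b ⟨hbe, hbf, hγ⟩ hα hβ with h3 | h3
      · rw [h3, QuadraticMap.map_zero] at hQb
        exact zero_ne_one hQb
      · exact hba h3
    · set z := b + x + y with hz
      have hze : polar Q e z = 0 := by
        rw [hz, polar_add_right, polar_add_right, hbe, hx.e, hy.e]; simp
      have hzf : polar Q f z = 0 := by
        rw [hz, polar_add_right, polar_add_right, hbf, hx.f, hy.f]; simp
      have hza : polar Q a z = 1 := by
        rw [hz, polar_add_right, polar_add_right, hγ, hx.a, hy.a]; simp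
      have hzx : polar Q x z = 0 := by
        rw [hz, polar_add_right, polar_add_right, hα, hxy.polar_left, hxy.pair, add_zero, h11]
      have hzy : polar Q y z = 0 := by
        rw [hz, polar_add_right, polar_add_right, hβ, hxy.polar_right, hxy.pair', add_zero, h11]
      have hQz : Q z = 1 := by
        rcases hF (Q z) with h3 | h3
        swap
        · exact h3
        exfalso
        refine no_three hM hd h.left hxy.left h3 hx.e hze hzx ?_
        rw [Fintype.linearIndependent_iff]
        intro c hc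
        rw [Fin.sum_univ_three] at hc
        have hc' : c 0 • e + c 1 • x + c 2 • z = 0 := hc
        have k0 := congrArg (polar Q f) hc'
        have k1 := congrArg (polar Q y) hc'
        have k2 := congrArg (polar Q a) hc'
        have hea : polar Q a e = 0 := by rw [polar_comm]; exact hae
        simp only [polar_add_right, polar_smul_right, h.pair', hx.f, hzf,
          polar_zero_right, smul_eq_mul, mul_zero, mul_one, add_zero] at k0
        simp only [polar_add_right, polar_smul_right, hy.e', hxy.pair', hzy,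
          polar_zero_right, smul_eq_mul, mul_zero, mul_one, add_zero, zero_add] at k1
        simp only [polar_add_right, polar_smul_right, hea, hx.a, hza,
          polar_zero_right, smul_eq_mul, mul_zero, mul_one, zero_add] at k2
        intro i
        fin_cases i
        · exact k0
        · exact k1
        · exact k2
      have hbz : b = z + (x + y) := by
        have h3 : z + (x + y) = b + (x + x) + (y + y) := by rw [hz]; abel
        rw [h3, dbl h2, dbl h2, add_zero, add_zero]
      clear_value z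
      have hQb' : Q b = 0 := by
        rw [hbz, Q_add, Q_add, hQz, hxy.left, hxy.right, hxy.pair, polar_add_right,
          polar_comm Q z x, polar_comm Q z y, hzx, hzy]
        linear_combination h2
      rw [hQb'] at hQb
      exact zero_ne_one hQb
  rcases hF (polar Q x b) with hα | hα <;> rcases hF (polar Q y b) with hβ | hβ <;>
    rcases hF (polar Q a b) with hγ | hγ
  · exact (heq 0 hα hβ hγ).elim
  · -- (0,0,1) : `a + y`
    rw [hα, hβ, hγ] at hd'
    apply hyA
    have h3 := A.sub_mem hd' haA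
    have h4 : ((0 : F) + 1) • a + ((0 : F) + 1) • y + ((0 : F) + 0) • x - a = y := by module
    rwa [h4] at h3
  · -- (0,1,0) : `y + x`
    rw [hα, hβ, hγ] at hd'
    have h4 : ((0 : F) + 0) • a + ((1 : F) + 0) • y + ((0 : F) + 1) • x = x + y := by module
    rw [h4] at hd'
    have h5 := hinv _ hd'
    rw [map_add, hgx, hgy] at h5
    apply hxA
    have h6 := A.sub_mem h5 haA
    have h7 : y + (x + y + a) - a = x + (y + y) := by abel
    rw [h7, dbl h2, add_zero] at h6
    exact h6
  · -- (0,1,1) : `a + x`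
    rw [hα, hβ, hγ] at hd'
    apply hxA
    have h3 := A.sub_mem hd' haA
    have h4 : ((0 : F) + 1) • a + ((1 : F) + 1) • y + ((0 : F) + 1) • x - a = x := by
      rw [h11]; module
    rwa [h4] at h3
  · -- (1,0,0) : `a + x`
    rw [hα, hβ, hγ] at hd'
    apply hxA
    have h3 := A.sub_mem hd' haA
    have h4 : ((1 : F) + 0) • a + ((0 : F) + 0) • y + ((1 : F) + 0) • x - a = x := by module
    rwa [h4] at h3
  · -- (1,0,1) : `y + x`
    rw [hα, hβ, hγ] at hd'
    have h4 : ((1 : F) + 1) • a + ((0 : F) + 1) • y + ((1 : F) + 0) • x = x + y := by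
      rw [h11]; module
    rw [h4] at hd'
    have h5 := hinv _ hd'
    rw [map_add, hgx, hgy] at h5
    apply hxA
    have h6 := A.sub_mem h5 haA
    have h7 : y + (x + y + a) - a = x + (y + y) := by abel
    rw [h7, dbl h2, add_zero] at h6
    exact h6
  · -- (1,1,0) : `a + y`
    rw [hα, hβ, hγ] at hd'
    apply hyA
    have h3 := A.sub_mem hd' haA
    have h4 : ((1 : F) + 0) • a + ((1 : F) + 0) • y + ((1 : F) + 1) • x - a = y := by
      rw [h11]; module
    rwa [h4] at h3
  · exact (heq 1 hα hβ hγ).elim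

theorem cases_of_two [Finite F] (hq : Nat.card F = 2) : ∀ c : F, c = 0 ∨ c = 1 := by
  intro c
  by_contra hcon
  push Not at hcon
  have h5 : ({0, 1, c} : Set F).ncard ≤ Nat.card F := by
    rw [← Set.ncard_univ]
    exact Set.ncard_le_ncard (Set.subset_univ _) (Set.toFinite _)
  rw [Set.ncard_insert_of_notMem (by
    simp only [Set.mem_insert_iff, Set.mem_singleton_iff]
    rintro (h6 | h6)
    · exact zero_ne_one h6
    · exact hcon.1 h6.symm), Set.ncard_pair (fun h6 => hcon.2 h6.symm)] at h5
  omega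

open Cfsg.Agent.H76.Act Cfsg.Agent.H76.Tri Cfsg.Agent.H76.Num Cfsg.Agent.H76 in
/-- **The dichotomy, two elements, dimension six.** -/
theorem allDich_two [Finite F] [Finite V] (hG : Good Q) (hC : MinusCount Q 3)
    (hq : Nat.card F = 2) {ψ : AddChar F ℂ} (hψ : ψ ≠ 0) {Ω : Type*} [Finite Ω]
    [MulAction (E Q) Ω] (hn : Nat.card Ω ≤ 26) : AllDich Q Ω ψ := by
  classical
  intro e f h ω a ha hae haf hQa ⟨b, hb, hbe, hbf, hne⟩ v hv
  have hF := cases_of_two hq
  have h2 := two_eq hF
  have hQ := hG.nondeg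
  have := Fintype.ofFinite F
  have := Fintype.ofFinite (W Q e f)
  have hd : Module.finrank F V = 6 := hC.finrank
  have h1' : ∀ c : F, c ≠ 0 → c = 1 := fun c hc => (hF c).resolve_left hc
  by_contra hvA
  have haW : a ∈ W Q e f := mem_W.2 ⟨hae, haf⟩
  have hbW : b ∈ W Q e f := mem_W.2 ⟨hbe, hbf⟩
  have ha0 : a ≠ 0 := by
    rintro rfl
    exact hQa (QuadraticMap.map_zero Q)
  have hm : mu h ψ Ω ⟨a, haW⟩ ≤ 2 := by
    have h4 := cls_mul_le h (Ω := Ω) hG hC hψ (a := ⟨a, haW⟩) hQa
    have h5 := cls_pos (Q ((⟨a, haW⟩ : W Q e f) : V))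
    rw [hq] at h4
    norm_num at h4
    have h6 : 1 * 10 * mu h ψ Ω ⟨a, haW⟩ ≤ Nat.card Ω :=
      (Nat.mul_le_mul_right _ (Nat.mul_le_mul_right _ h5)).trans h4
    omega
  obtain ⟨x, y, hx, hy, hxy⟩ := exists_hypPa hQ (by omega) h hae haf hQa
  have hinv : ∀ b ∈ AV h ψ ω, gg Q x y a b ∈ AV h ψ ω := by
    intro b hb
    refine ThreeStab.stable_three h haW hm ha (g := gg Q x y a)
      ((E Q).mul_mem (sg_mem_E _ _) (sg_mem_E _ _)) ?_ ?_ ?_ (gg_cube h2 (h1' _ hQa) hxy hx.a' hy.a') hb
    · rw [gg_apply h2 (h1' _ hQa) hxy hx.a' hy.a', hx.e', hy.e', polar_comm, hae]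
      simp
    · rw [gg_apply h2 (h1' _ hQa) hxy hx.a' hy.a', hx.f', hy.f', polar_comm Q a f, haf]
      simp
    · rw [gg_apply h2 (h1' _ hQa) hxy hx.a' hy.a', hx.a', hy.a', polar_self', h2]
      simp
  have hbad : ∀ c : W Q e f, c ∈ AA h ψ ω → Q (c : V) ≠ 0 → c = ⟨a, haW⟩ := by
    intro c hc hQc
    by_contra hca
    apply hvA
    exact le_of_ne hQ hF hd hC.minus h hae haf (h1' _ hQa) hx hy hxy ha hinv
      ((coe_mem_AV h).2 hc) (mem_W_e c) (mem_W_f c) (h1' _ hQc)
      (fun h0 => hca (Subtype.ext h0)) hv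
  have haA : (⟨a, haW⟩ : W Q e f) ∈ AA h ψ ω := (coe_mem_AV h (a := ⟨a, haW⟩)).1 ha
  have hbA : (⟨b, hbW⟩ : W Q e f) ∈ AA h ψ ω := (coe_mem_AV h (a := ⟨b, hbW⟩)).1 hb
  have hcard : 3 ≤ (AA h ψ ω : Set (W Q e f)).ncard := by
    have h3 : ({0, ⟨a, haW⟩, ⟨b, hbW⟩} : Set (W Q e f)) ⊆ (AA h ψ ω : Set (W Q e f)) := by
      rintro z (rfl | rfl | rfl)
      · exact AddSubgroup.zero_mem _
      · exact haA
      · exact hbA
    have h4 := Set.ncard_le_ncard h3 (Set.toFinite _)
    rwa [Set.ncard_insert_of_notMem, Set.ncard_pair] at h4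
    · intro h5
      have h6 : a = b := congrArg Subtype.val h5
      exact hne 1 (by rw [one_smul, h6])
    · simp only [Set.mem_insert_iff, Set.mem_singleton_iff]
      rintro (h5 | h5)
      · exact ha0 (congrArg Subtype.val h5).symm
      · exact hne 0 (by rw [zero_smul]; exact (congrArg Subtype.val h5).symm)
  -- the translates
  have htr : ∀ c : {w : W Q e f // Q (w : V) = 1}, ∃ ω' : Ω, c.1 ∈ AA h ψ ω' ∧
      (∀ d : W Q e f, d ∈ AA h ψ ω' → Q (d : V) ≠ 0 → d = c.1) ∧
      3 ≤ (AA h ψ ω' : Set (W Q e f)).ncard := by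
    rintro ⟨c, hc⟩
    have hc0 : (c : V) ≠ 0 := by
      intro h0
      rw [h0, QuadraticMap.map_zero] at hc
      exact zero_ne_one hc
    obtain ⟨g, hgE, hge, hgf, hga⟩ := exists_map_triple hG (by omega) h hae haf ha0 h
      (mem_W_e c) (mem_W_f c) hc0 (by rw [hc]; exact h1' _ hQa)
    have hg : Lev (Q := Q) e f ⟨g, hgE⟩ 1 :=
      ⟨one_ne_zero, by rw [one_smul]; exact hge, by rw [inv_one, one_smul]; exact hgf⟩
    set φ := hg.equiv 1⁻¹ (inv_ne_zero hg.ne) with hφ
    have hφv : ∀ w : W Q e f, (φ w : V) = g (w : V) := by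
      intro w
      rw [hφ, Lev.equiv_coe, inv_one, one_smul]
    have hmem : ∀ w : W Q e f, φ w ∈ AA h ψ ((⟨g, hgE⟩ : E Q) • ω) ↔ w ∈ AA h ψ ω := fun w =>
      hg.mem_AA h
    have hφa : φ ⟨a, haW⟩ = c := Subtype.ext (by rw [hφv]; exact hga)
    refine ⟨(⟨g, hgE⟩ : E Q) • ω, ?_, ?_, ?_⟩
    · show c ∈ AA h ψ ((⟨g, hgE⟩ : E Q) • ω)
      rw [← hφa, hmem]; exact haA
    · intro d hd' hQd
      obtain ⟨d', rfl⟩ := φ.surjective d
      rw [hmem] at hd'
      rw [hφv, mem_O.1 (E_le_O hgE)] at hQd
      rw [hbad d' hd' hQd, hφa]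
    · have h3 : (AA h ψ ((⟨g, hgE⟩ : E Q) • ω) : Set (W Q e f)) =
          φ '' (AA h ψ ω : Set (W Q e f)) := by
        ext d
        constructor
        · intro hd'
          obtain ⟨d', rfl⟩ := φ.surjective d
          exact ⟨d', (hmem d').1 hd', rfl⟩
        · rintro ⟨d', hd', rfl⟩
          exact (hmem d').2 hd'
      rw [h3, Set.ncard_image_of_injective _ φ.injective]
      exact hcard
  choose ω' h1 h3 h4 using htr
  have : Finite (Dual.Orb (W Q e f) (Om h Ω)) := Quotient.finite _
  have := Fintype.ofFinite (Dual.Orb (W Q e f) (Om h Ω))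
  set θ : {w : W Q e f // Q (w : V) = 1} → Dual.Orb (W Q e f) (Om h Ω) := fun c =>
    Quotient.mk'' (show Om h Ω from ω' c) with hθ
  have hθinj : Function.Injective θ := by
    intro c d hcd
    have h5 : AA h ψ (ω' c) = AA h ψ (ω' d) := congrArg (Dual.AO ψ (bW Q e f)) hcd
    have h6 : c.1 ∈ AA h ψ (ω' d) := by rw [← h5]; exact h1 c
    exact Subtype.ext (h3 d c.1 h6 (by rw [c.2]; exact one_ne_zero))
  have hsum := Dual.card_eq_sum_AO (ψ := ψ) (β := bW Q e f) (Ω := Om h Ω) (bW_nondeg hQ h) hψ
  have hom : Nat.card (Om h Ω) = Nat.card Ω := rfl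
  rw [hom] at hsum
  have h5 : ∑ o ∈ Finset.univ.image θ, Nat.card (Dual.AO ψ (bW Q e f) o) ≤ Nat.card Ω := by
    rw [hsum]
    exact Finset.sum_le_sum_of_subset (Finset.subset_univ _)
  rw [Finset.sum_image (fun c _ d _ hcd => hθinj hcd)] at h5
  have h6 : ∑ _c : {w : W Q e f // Q (w : V) = 1}, 3 ≤
      ∑ c : {w : W Q e f // Q (w : V) = 1}, Nat.card (Dual.AO ψ (bW Q e f) (θ c)) := by
    apply Finset.sum_le_sum
    intro c _
    exact h4 c
  rw [Finset.sum_const, Finset.card_univ, smul_eq_mul] at h6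
  have h7 : Fintype.card {w : W Q e f // Q (w : V) = 1} = 10 := by
    have h8 := hC.ncard_W_ne hQ h (c := 1) one_ne_zero
    rw [hq] at h8
    norm_num at h8
    rw [← Nat.card_eq_fintype_card]
    exact h8
  rw [h7] at h6
  omega

end Cfsg.Agent.H76.ThreeTwo
end

-- part: H76/MainThree
section
/-!
# The minimal index in the minus type, `m = 3`
-/

set_option autoImplicit false
set_option linter.unusedSectionVars false

namespace Cfsg.Agent.H76.MainThree

open QuadraticMap Cfsg.Agent.LieClassical.OrthCore Cfsg.Agent.LieClassical.OrthTrans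
open Cfsg.Agent.LieClassical.OrthForms
open Cfsg.Agent.H76.Num Cfsg.Agent.H76.Lower Cfsg.Agent.H76.MainFour Cfsg.Agent.H76.LowerThree
open Cfsg.Agent.H76.Link
open Cfsg.Agent.H75.OrthIdx (PP StT relIndex_StT_sing exists_transfer omHom omHom_surjective
  exists_PP_four)

variable {F V : Type*} [Field F] [AddCommGroup V] [Module F V] {Q : QuadraticForm F V}
variable [Finite F] [Finite V]

/-- **The lower bound, `m = 3`.** -/
theorem lower (hG : Good Q) (hC : MinusCount Q 3) {H : Subgroup (V ≃ₗ[F] V)} (hH : H ≤ E Q)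
    (hne : ¬ E Q ≤ H) (h81 : ¬ (Nat.card F = 3 ∧ H.relIndex (E Q) = 81)) :
    bd (Nat.card F) 3 ≤ (Nat.card F - 1) * H.relIndex (E Q) := by
  have hfd : FiniteDimensional F V := Module.finite_of_finrank_pos (by
    rw [hC.finrank]; omega)
  have hq := two_le_card (F := F)
  obtain ⟨ψ, hψ⟩ := exists_char (F := F)
  have hcases : Nat.card F = 2 ∨ Nat.card F = 3 ∨ 4 ≤ Nat.card F := by omega
  refine lower_three hG hC hψ ?_ hH hne ?_
  · intro H' hH'
    rcases hcases with h2 | h3 | h4
    · refine ThreeTwo.allDich_two (Ω := Cos Q H') hG hC h2 hψ ?_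
      rw [card_cos]
      rw [h2, bd] at hH'
      norm_num at hH'
      omega
    · refine ThreeStab.allDich_three (Ω := Cos Q H') hG hC h3 hψ ?_
      rw [card_cos]
      rw [h3, bd] at hH'
      norm_num at hH'
      omega
    · refine allDich (Ω := Cos Q H') hG hC hψ hH' (Or.inl ?_)
      by_contra hcon
      push Not at hcon
      have h5 : (Set.univ : Set F) ⊆ {0, 1, -1} := by
        intro c _
        by_cases hc : c = 0
        · exact Or.inl hc
        · right
          have h6 := hcon c hc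
          have h7 : (c - 1) * (c + 1) = 0 := by linear_combination h6
          rcases mul_eq_zero.1 h7 with h8 | h8
          · exact Or.inl (sub_eq_zero.1 h8)
          · exact Or.inr (eq_neg_of_add_eq_zero_left h8)
      have h6 := Set.ncard_le_ncard h5 (Set.toFinite _)
      rw [Set.ncard_univ] at h6
      have h7 : ({0, 1, -1} : Set F).ncard ≤ 3 := by
        have k1 := Set.ncard_insert_le (0 : F) {1, -1}
        have k2 := Set.ncard_insert_le (1 : F) {-1}
        have k3 : ({-1} : Set F).ncard = 1 := Set.ncard_singleton _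
        omega
      omega
  · intro hn
    have hn' := lt_of_bd hq hC.three hn
    rw [← hC.finrank] at hn'
    rcases hcases with h2 | h3 | h4
    · exact ThreeTwo.exists_PP hG (ThreeTwo.cases_of_two h2) hC.finrank hC.minus hn'
    · by_contra hcon
      push Not at hcon
      apply h81
      refine ⟨h3, ThreePP.eq_eighty_one hG hC h3 ?_ hcon⟩
      rw [h3, bd] at hn
      norm_num at hn
      omega
    · exact exists_PP_four hG (by rw [hC.finrank]; omega) h4 hn'

section transfer

variable {ι : Type} [Fintype ι] [DecidableEq ι] {F : Type*} [Field F]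
  {Q : QuadraticForm F (ι → F)}

theorem lower_transfer' (hG : Good Q) {b : ℕ} {bad : ℕ → Prop}
    (h : ∀ H : Subgroup ((ι → F) ≃ₗ[F] (ι → F)), H ≤ E Q → ¬ E Q ≤ H →
      ¬ bad (H.relIndex (E Q)) → b ≤ H.relIndex (E Q)) :
    ∀ H : Subgroup (Cfsg.POmega F ⇑Q), H ≠ ⊤ → ¬ bad H.index → b ≤ H.index := by
  intro H hH hbad
  set K := H.comap (omHom hG) with hK
  have h1 : K.index = H.index := Subgroup.index_comap_of_surjective _ (omHom_surjective hG)
  have h2 : (K.map (E Q).subtype).subgroupOf (E Q) = K := by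
    rw [Subgroup.subgroupOf, Subgroup.comap_map_eq_self_of_injective (Subgroup.subtype_injective _)]
  have h3 := h (K.map (E Q).subtype) (by
    rintro _ ⟨x, -, rfl⟩
    exact x.2) (by
    intro hle
    apply hH
    have h4 : K = ⊤ := by
      rw [eq_top_iff]
      intro x _
      obtain ⟨y, hy, hyx⟩ := hle x.2
      have : y = x := Subtype.ext hyx
      rw [← this]; exact hy
    rw [eq_top_iff]
    intro x _
    obtain ⟨y, rfl⟩ := omHom_surjective hG x
    have h5 : y ∈ K := by rw [h4]; exact Subgroup.mem_top y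
    exact h5)
  rw [Subgroup.relIndex, h2, h1] at h3
  exact h3 hbad

end transfer

section form

variable {F : Type*} [Field F] [Fintype F] {a b : F}

theorem bd_three (q : ℕ) (hq : 2 ≤ q) : bd q 3 = (q - 1) * ((q + 1) * (q ^ 3 + 1)) := by
  obtain ⟨r, rfl⟩ : ∃ r, q = r + 1 := ⟨q - 1, by omega⟩
  rw [bd, Nat.add_sub_cancel]
  have h2 : (r + 1) ^ (3 - 1) - 1 = r * (r + 2) := by
    have : (r + 1) ^ (3 - 1) = r * (r + 2) + 1 := by ring
    omega
  rw [h2]
  ring

/-- Lower bound for `POmega` of minus type in dimension six. -/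
theorem lower_POmega {q : ℕ} (hF : Fintype.card F = q)
    (hab : ∀ z₁ z₂ : F, z₁ ^ 2 + a * z₁ * z₂ + b * z₂ ^ 2 = 0 → z₁ = 0 ∧ z₂ = 0)
    (H : Subgroup (Cfsg.POmega F (Cfsg.quadFormMinus 2 F a b))) (hH : H ≠ ⊤)
    (h81 : ¬ (q = 3 ∧ H.index = 81)) : (q + 1) * (q ^ 3 + 1) ≤ H.index := by
  have hC := minusCount hab 2 (by omega)
  have hG := good_minusForm hab 2 (by omega)
  have hq : Nat.card F = q := by rw [Nat.card_eq_fintype_card, hF]
  have hq2 : 2 ≤ q := by rw [← hq]; exact two_le_card
  revert H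
  rw [← coe_minusForm]
  intro H hH h81
  refine lower_transfer' hG (bad := fun n => q = 3 ∧ n = 81) ?_ H hH h81
  intro K hK hne hbad
  have h1 := lower hG hC hK hne (by rw [hq]; exact hbad)
  rw [hq, bd_three q hq2] at h1
  exact Nat.le_of_mul_le_mul_left h1 (by omega)

theorem exists_POmega {q : ℕ} (hF : Fintype.card F = q)
    (hab : ∀ z₁ z₂ : F, z₁ ^ 2 + a * z₁ * z₂ + b * z₂ ^ 2 = 0 → z₁ = 0 ∧ z₂ = 0) :
    ∃ H : Subgroup (Cfsg.POmega F (Cfsg.quadFormMinus 2 F a b)),
      H.index = (q + 1) * (q ^ 3 + 1) := by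
  have hC := minusCount hab 2 (by omega)
  have hG := good_minusForm hab 2 (by omega)
  have hq : Nat.card F = q := by rw [Nat.card_eq_fintype_card, hF]
  have hq2 : 2 ≤ q := by rw [← hq]; exact two_le_card
  rw [← coe_minusForm]
  obtain ⟨T, hT⟩ := exists_index hG hC
  obtain ⟨H, hH⟩ := exists_transfer hG T
  refine ⟨H, ?_⟩
  rw [hH]
  have e3 : (2 : ℕ) + 1 = 3 := rfl
  rw [hq, e3, bd_three q hq2, mul_comm] at hT
  exact Nat.eq_of_mul_eq_mul_left (by omega) hT

/-- Anisotropic binary forms exist. -/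
theorem exists_aniso (F : Type*) [Field F] [Finite F] :
    ∃ a b : F, ∀ z₁ z₂ : F, z₁ ^ 2 + a * z₁ * z₂ + b * z₂ ^ 2 = 0 → z₁ = 0 ∧ z₂ = 0 := by
  have h1 : ¬ Function.Surjective (fun p : F × F => (-(p.1 + p.2), p.1 * p.2)) := by
    intro hs
    have hi := Finite.injective_iff_surjective.2 hs
    have h2 : ((0, 1) : F × F) = (1, 0) := hi (by simp)
    exact zero_ne_one (congrArg Prod.fst h2)
  rw [Function.Surjective] at h1
  push Not at h1
  obtain ⟨⟨a, b⟩, hab⟩ := h1
  refine ⟨a, b, fun z₁ z₂ hz => ?_⟩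
  have hz2 : z₂ = 0 := by
    by_contra hz2
    apply hab (z₁ / z₂, -a - z₁ / z₂)
    have h3 : (z₁ / z₂) ^ 2 + a * (z₁ / z₂) + b = 0 := by
      field_simp
      linear_combination hz
    apply Prod.ext
    · show -(z₁ / z₂ + (-a - z₁ / z₂)) = a
      ring
    · show z₁ / z₂ * (-a - z₁ / z₂) = b
      linear_combination -h3
  subst hz2
  refine ⟨?_, rfl⟩
  have h4 : z₁ ^ 2 = 0 := by linear_combination hz
  exact pow_eq_zero_iff (two_ne_zero) |>.1 h4

end form

/-- A field with `q` elements. -/
theorem exists_field {F : Type*} [Field F] [Fintype F] {q : ℕ} (hF : Fintype.card F = q ^ 2)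
    (hq : 2 ≤ q) : ∃ (K : Type) (_ : Field K) (_ : Fintype K), Fintype.card K = q := by
  obtain ⟨p, hp⟩ := CharP.exists F
  obtain ⟨n, hpp, hn⟩ := FiniteField.card F p
  rw [hF] at hn
  have h1 : q ∣ p ^ (n : ℕ) := by rw [← hn]; exact dvd_pow_self q two_ne_zero
  obtain ⟨k, -, hk⟩ := (Nat.dvd_prime_pow hpp).1 h1
  have hk0 : k ≠ 0 := by
    rintro rfl
    rw [pow_zero] at hk
    omega
  have : Fact p.Prime := ⟨hpp⟩
  have : Fintype (GaloisField p k) := Fintype.ofFinite _
  refine ⟨GaloisField p k, inferInstance, this, ?_⟩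
  rw [← Nat.card_eq_fintype_card, GaloisField.card p k hk0, hk]

end Cfsg.Agent.H76.MainThree
end

-- part: H76/PsuFour
section
/-!
# The minimal index of proper subgroups of `PSU 4`

For `q ≠ 3` this is complete; for `q = 3` index `81` has to be excluded separately.
-/

set_option autoImplicit false
open Cfsg

namespace Cfsg.Agent.H76.PsuFour

open Cfsg.Agent.H76.MainThree

variable {F : Type*} [Field F] [Fintype F]

/-- Lower bound for the index in `PSU 4 F q`; index `81` for `q = 3` is left out. -/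
theorem psu_four_lower (q : ℕ) (hF : Fintype.card F = q ^ 2) (hq : 2 ≤ q)
    (H : Subgroup (Cfsg.PSU 4 F q)) (hH : H ≠ ⊤) (h81 : ¬ (q = 3 ∧ H.index = 81)) :
    (q + 1) * (q ^ 3 + 1) ≤ H.index := by
  obtain ⟨K, _, _, hK⟩ := exists_field hF hq
  obtain ⟨a, b, hab⟩ := exists_aniso K
  obtain ⟨e⟩ := Cfsg.Agent.S0303.result hK hF a b hab
  have h1 : (H.comap e.toMonoidHom).index = H.index :=
    Subgroup.index_comap_of_surjective _ e.surjective
  rw [← h1]
  apply lower_POmega hK hab
  · intro htop
    apply hH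
    rw [eq_top_iff]
    intro x _
    obtain ⟨y, rfl⟩ := e.surjective x
    have h2 : y ∈ H.comap e.toMonoidHom := by rw [htop]; exact Subgroup.mem_top y
    exact h2
  · rw [h1]; exact h81

theorem psu_four_exists (q : ℕ) (hF : Fintype.card F = q ^ 2) (hq : 2 ≤ q) :
    ∃ H : Subgroup (Cfsg.PSU 4 F q), H.index = (q + 1) * (q ^ 3 + 1) := by
  obtain ⟨K, _, _, hK⟩ := exists_field hF hq
  obtain ⟨a, b, hab⟩ := exists_aniso K
  obtain ⟨e⟩ := Cfsg.Agent.S0303.result hK hF a b hab
  obtain ⟨H, hH⟩ := exists_POmega hK hab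
  refine ⟨H.comap e.symm.toMonoidHom, ?_⟩
  rw [Subgroup.index_comap_of_surjective _ e.symm.surjective, hH]

/-- `q = 2`: every proper subgroup of `PSU 4 F 2` has index at least `27`. -/
theorem psu_four_two (hF : Fintype.card F = 4) (H : Subgroup (Cfsg.PSU 4 F 2)) (hH : H ≠ ⊤) :
    27 ≤ H.index := by
  have h := psu_four_lower 2 (by rw [hF]; norm_num) le_rfl H hH (by omega)
  norm_num at h
  exact h

end Cfsg.Agent.H76.PsuFour
end
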